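import Mathlib.Analysis.Calculus.LineDeriv.IntegrationByParts
import Mathlib.Analysis.Calculus.ContDiff.RCLike
import Mathlib.Analysis.Calculus.ContDiff.Operations
import Mathlib.Analysis.Calculus.FDeriv.Symmetric
import Mathlib.Analysis.Complex.RealDeriv
import Mathlib.MeasureTheory.Measure.Haar.OfBasis
import Mathlib.MeasureTheory.Measure.Lebesgue.Complex
import Mathlib.Topology.IsLocalHomeomorph
import Mathlib.Analysis.SpecialFunctions.Complex.Analytic

/-!
# Riemann domains over `ℂⁿ`: smooth functions and Wirtinger derivatives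

`RDom n E`: a local homeomorphism `p : E → ℂⁿ`. `SmE F`: `F : E → ℂ` is smooth. `fd F e`: the real
derivative of `F` at `e` read through `p`. `d j F`, `db j F`: the Wirtinger derivatives.
-/

set_option autoImplicit false

open scoped ContDiff Topology
open Set Filter

noncomputable section

namespace Groth.Agent.An.H10.Basic

/-- `ℂⁿ`. -/
abbrev Cn (n : ℕ) := Fin n → ℂ

/-- A Riemann domain over `ℂⁿ`. -/
class RDom (n : outParam ℕ) (E : Type*) [TopologicalSpace E] where
  p : E → Cn n
  hp : IsLocalHomeomorph p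

variable {n : ℕ} {E : Type*} [TopologicalSpace E] [RDom n E]

/-- The projection. -/
abbrev pr : E → Cn n := RDom.p

/-- A chart at a point. -/
def ch (e : E) : OpenPartialHomeomorph E (Cn n) := ((RDom.hp (E := E)) e).choose

theorem mem_ch (e : E) : e ∈ (ch e).source := ((RDom.hp (E := E)) e).choose_spec.1

theorem ch_eq (e : E) : (ch e : E → Cn n) = pr := ((RDom.hp (E := E)) e).choose_spec.2.symm

/-- The local inverse of `p` at `e`. -/
def s (e : E) : Cn n → E := (ch e).symm

theorem continuous_pr : Continuous (pr : E → Cn n) := (RDom.hp (E := E)).continuous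

theorem s_pr (e : E) : s e (pr e) = e := by
  have h := (ch e).left_inv (mem_ch e)
  rw [ch_eq] at h
  exact h

theorem pr_mem_target (e : E) : pr e ∈ (ch e).target := by
  have h := (ch e).map_source (mem_ch e)
  rwa [ch_eq] at h

theorem continuousAt_s (e : E) : ContinuousAt (s e) (pr e) :=
  (ch e).continuousAt_symm (pr_mem_target e)

/-- `φ` is a chart: its values are those of `p`. -/
def IsCh (φ : OpenPartialHomeomorph E (Cn n)) : Prop := ∀ x ∈ φ.source, φ x = pr x

theorem isCh_ch (e : E) : IsCh (ch e) := fun x _ => congrFun (ch_eq e) x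

theorem IsCh.pr_symm {φ : OpenPartialHomeomorph E (Cn n)} (h : IsCh φ) {z : Cn n} (hz : z ∈ φ.target) :
    pr (φ.symm z) = z := by
  rw [← h _ (φ.map_target hz), φ.right_inv hz]

theorem IsCh.symm_pr {φ : OpenPartialHomeomorph E (Cn n)} (h : IsCh φ) {x : E} (hx : x ∈ φ.source) :
    φ.symm (pr x) = x := by
  rw [← h _ hx, φ.left_inv hx]

theorem IsCh.pr_mem {φ : OpenPartialHomeomorph E (Cn n)} (h : IsCh φ) {x : E} (hx : x ∈ φ.source) :
    pr x ∈ φ.target := by
  rw [← h _ hx]; exact φ.map_source hx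

/-- Two local inverses through the same point agree near the point. -/
theorem IsCh.eventuallyEq {φ ψ : OpenPartialHomeomorph E (Cn n)} (hφ : IsCh φ) (hψ : IsCh ψ) {e : E}
    (he : e ∈ φ.source) (he' : e ∈ ψ.source) : (φ.symm : Cn n → E) =ᶠ[𝓝 (pr e)] ψ.symm := by
  have h1 : ContinuousAt φ.symm (pr e) := φ.continuousAt_symm (hφ.pr_mem he)
  have h2 : ∀ᶠ z in 𝓝 (pr e), φ.symm z ∈ ψ.source := by
    refine h1 (ψ.open_source.mem_nhds ?_)
    rw [hφ.symm_pr he]; exact he'
  have h3 : ∀ᶠ z in 𝓝 (pr e), z ∈ φ.target := φ.open_target.mem_nhds (hφ.pr_mem he)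
  filter_upwards [h2, h3] with z hz hz'
  have := hψ.symm_pr hz
  rw [hφ.pr_symm hz'] at this
  exact this.symm

theorem IsCh.eventuallyEq_s {φ : OpenPartialHomeomorph E (Cn n)} (hφ : IsCh φ) {e : E}
    (he : e ∈ φ.source) : (φ.symm : Cn n → E) =ᶠ[𝓝 (pr e)] s e :=
  hφ.eventuallyEq (isCh_ch e) he (mem_ch e)

/-- Near `p e`, the local inverse at `e` agrees with the local inverse at nearby points. -/
theorem eventually_s_eq (e : E) : ∀ᶠ z in 𝓝 (pr e), s e =ᶠ[𝓝 z] s (s e z) ∧ pr (s e z) = z := by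
  filter_upwards [(ch e).open_target.mem_nhds (pr_mem_target e)] with z hz
  have h1 : pr ((ch e).symm z) = z := (isCh_ch e).pr_symm hz
  have h2 := (isCh_ch e).eventuallyEq_s ((ch e).map_target hz)
  rw [h1] at h2
  exact ⟨h2, h1⟩

/-- Smooth functions on `E`. -/
def SmE (F : E → ℂ) : Prop := ∀ e, ContDiffAt ℝ ∞ (F ∘ s e) (pr e)

/-- The real derivative of a function on `E`. -/
def fd (F : E → ℂ) (e : E) : Cn n →L[ℝ] ℂ := fderiv ℝ (F ∘ s e) (pr e)

theorem fd_s (F : E → ℂ) (e : E) : ∀ᶠ z in 𝓝 (pr e), fd F (s e z) = fderiv ℝ (F ∘ s e) z := by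
  filter_upwards [eventually_s_eq e] with z hz
  rw [fd, hz.2]
  refine Filter.EventuallyEq.fderiv_eq ?_
  filter_upwards [hz.1] with y hy
  simp only [Function.comp_apply, hy]

theorem IsCh.fd_symm {φ : OpenPartialHomeomorph E (Cn n)} (hφ : IsCh φ) (F : E → ℂ) {z : Cn n}
    (hz : z ∈ φ.target) : fd F (φ.symm z) = fderiv ℝ (F ∘ φ.symm) z := by
  have h := hφ.eventuallyEq_s (φ.map_target hz)
  rw [hφ.pr_symm hz] at h
  rw [fd, hφ.pr_symm hz]
  refine Filter.EventuallyEq.fderiv_eq ?_
  filter_upwards [h] with y hy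
  simp only [Function.comp_apply, hy]

theorem IsCh.contDiffAt {φ : OpenPartialHomeomorph E (Cn n)} (hφ : IsCh φ) {F : E → ℂ} (hF : SmE F)
    {z : Cn n} (hz : z ∈ φ.target) : ContDiffAt ℝ ∞ (F ∘ φ.symm) z := by
  have h := hφ.eventuallyEq_s (φ.map_target hz)
  rw [hφ.pr_symm hz] at h
  have h2 := hF (φ.symm z)
  rw [hφ.pr_symm hz] at h2
  refine h2.congr_of_eventuallyEq ?_
  filter_upwards [h] with y hy
  simp only [Function.comp_apply, hy]

theorem SmE.differentiableAt {F : E → ℂ} (hF : SmE F) (e : E) : DifferentiableAt ℝ (F ∘ s e) (pr e) :=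
  (hF e).differentiableAt (by simp)

theorem SmE.continuous {F : E → ℂ} (hF : SmE F) : Continuous F := by
  rw [continuous_iff_continuousAt]
  intro e
  have h1 : ContinuousAt (F ∘ s e) (pr e) := (hF e).continuousAt
  have h2 : ContinuousAt ((F ∘ s e) ∘ pr) e := h1.comp continuous_pr.continuousAt
  refine h2.congr ?_
  filter_upwards [(ch e).open_source.mem_nhds (mem_ch e)] with x hx
  simp only [Function.comp_apply]
  congr 1
  exact (isCh_ch e).symm_pr hx

/-- Functions which are locally of the form `g ∘ p` with `g` smooth. -/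
theorem smE_of_comp {F : E → ℂ} (H : ∀ e, ∃ g : Cn n → ℂ, ContDiffAt ℝ ∞ g (pr e) ∧ F =ᶠ[𝓝 e] g ∘ pr) :
    SmE F := by
  intro e
  obtain ⟨g, hg, h⟩ := H e
  refine hg.congr_of_eventuallyEq ?_
  have h1 : Tendsto (s e) (𝓝 (pr e)) (𝓝 e) := by
    have := continuousAt_s e
    rwa [ContinuousAt, s_pr] at this
  filter_upwards [h1.eventually h, eventually_s_eq e] with z hz hz'
  simp only [Function.comp_apply] at hz ⊢
  rw [hz, hz'.2]

theorem smE_comp_pr {g : Cn n → ℂ} (hg : ∀ e : E, ContDiffAt ℝ ∞ g (pr e)) : SmE (fun e : E => g (pr e)) :=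
  smE_of_comp fun e => ⟨g, hg e, Filter.EventuallyEq.rfl⟩

theorem SmE.add {F G : E → ℂ} (hF : SmE F) (hG : SmE G) : SmE (fun e => F e + G e) :=
  fun e => (hF e).add (hG e)

theorem SmE.sub {F G : E → ℂ} (hF : SmE F) (hG : SmE G) : SmE (fun e => F e - G e) :=
  fun e => (hF e).sub (hG e)

theorem SmE.neg {F : E → ℂ} (hF : SmE F) : SmE (fun e => - F e) :=
  fun e => (hF e).neg

theorem SmE.mul {F G : E → ℂ} (hF : SmE F) (hG : SmE G) : SmE (fun e => F e * G e) :=
  fun e => (hF e).mul (hG e)

theorem smE_const (c : ℂ) : SmE (fun _ : E => c) := fun _ => contDiffAt_const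

theorem SmE.const_mul {F : E → ℂ} (hF : SmE F) (c : ℂ) : SmE (fun e => c * F e) :=
  (smE_const c).mul hF

theorem SmE.conj {F : E → ℂ} (hF : SmE F) : SmE (fun e => (starRingEnd ℂ) (F e)) := fun e =>
  (Complex.conjCLE.toContinuousLinearMap.contDiff.contDiffAt).comp (pr e) (hF e)

theorem SmE.sum {ι : Type*} {t : Finset ι} {F : ι → E → ℂ} (hF : ∀ i ∈ t, SmE (F i)) :
    SmE (fun e => ∑ i ∈ t, F i e) := fun e =>
  (ContDiffAt.sum (fun i hi => hF i hi e) : ContDiffAt ℝ ∞ (fun z => ∑ i ∈ t, (F i ∘ s e) z) (pr e))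

theorem SmE.fd {F : E → ℂ} (hF : SmE F) (v : Cn n) : SmE (fun e => fd F e v) := by
  intro e
  have h1 : ContDiffAt ℝ ∞ (fun z => fderiv ℝ (F ∘ s e) z v) (pr e) := by
    have h2 : ContDiffAt ℝ ∞ (fderiv ℝ (F ∘ s e)) (pr e) := (hF e).fderiv_right (by simp)
    exact h2.clm_apply contDiffAt_const
  refine h1.congr_of_eventuallyEq ?_
  filter_upwards [fd_s F e] with z hz
  simp only [Function.comp_apply, hz]

section rules

variable {F G : E → ℂ}

theorem fd_add (hF : SmE F) (hG : SmE G) (e : E) : fd (fun e => F e + G e) e = fd F e + fd G e :=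
  fderiv_add (hF.differentiableAt e) (hG.differentiableAt e)

theorem fd_sub (hF : SmE F) (hG : SmE G) (e : E) : fd (fun e => F e - G e) e = fd F e - fd G e :=
  fderiv_sub (hF.differentiableAt e) (hG.differentiableAt e)

theorem fd_neg (e : E) : fd (fun e => - F e) e = - fd F e :=
  fderiv_neg (f := F ∘ s e) (x := pr e)

theorem fd_mul (hF : SmE F) (hG : SmE G) (e : E) (v : Cn n) :
    fd (fun e => F e * G e) e v = F e * fd G e v + G e * fd F e v := by
  have h := fderiv_mul (hF.differentiableAt e) (hG.differentiableAt e)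
  have h2 : fd (fun e => F e * G e) e = (F ∘ s e) (pr e) • fd G e + (G ∘ s e) (pr e) • fd F e := h
  rw [h2]
  simp [s_pr]

theorem fd_const (c : ℂ) (e : E) : fd (fun _ : E => c) e = 0 := by
  have h : fd (fun _ : E => c) e = fderiv ℝ (fun _ : Cn n => c) (pr e) := rfl
  rw [h]
  simp

theorem fd_sum {ι : Type*} {t : Finset ι} {F : ι → E → ℂ} (hF : ∀ i ∈ t, SmE (F i)) (e : E) :
    fd (fun e => ∑ i ∈ t, F i e) e = ∑ i ∈ t, fd (F i) e := by
  have h := fderiv_fun_sum (𝕜 := ℝ) (A := fun i => F i ∘ s e) (x := pr e) (u := t)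
    (fun i hi => (hF i hi).differentiableAt e)
  exact h

theorem fd_conj (hF : SmE F) (e : E) (v : Cn n) :
    fd (fun e => (starRingEnd ℂ) (F e)) e v = (starRingEnd ℂ) (fd F e v) := by
  have h1 : HasFDerivAt (F ∘ s e) (fd F e) (pr e) := (hF.differentiableAt e).hasFDerivAt
  have h2 : HasFDerivAt (fun z => Complex.conjCLE ((F ∘ s e) z))
    (Complex.conjCLE.toContinuousLinearMap.comp (fd F e)) (pr e) :=
    Complex.conjCLE.toContinuousLinearMap.hasFDerivAt.comp (pr e) h1
  have h3 : fd (fun e => (starRingEnd ℂ) (F e)) e = Complex.conjCLE.toContinuousLinearMap.comp (fd F e) :=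
    h2.fderiv
  rw [h3]
  rfl

/-- Symmetry of second derivatives. -/
theorem fd_fd_comm (hF : SmE F) (e : E) (v w : Cn n) :
    fd (fun e => fd F e v) e w = fd (fun e => fd F e w) e v := by
  have key : ∀ v w : Cn n, fd (fun e => fd F e v) e w = fderiv ℝ (fderiv ℝ (F ∘ s e)) (pr e) w v := by
    intro v w
    have h1 : fd (fun e => fd F e v) e = fderiv ℝ (fun z => fderiv ℝ (F ∘ s e) z v) (pr e) := by
      refine Filter.EventuallyEq.fderiv_eq ?_
      filter_upwards [fd_s F e] with z hz
      simp only [Function.comp_apply, hz]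
    have h2 : DifferentiableAt ℝ (fderiv ℝ (F ∘ s e)) (pr e) :=
      ((hF e).fderiv_right (m := ∞) (by simp)).differentiableAt (by simp)
    rw [h1, fderiv_clm_apply h2 (differentiableAt_const _)]
    simp
  rw [key v w, key w v]
  have h3 : IsSymmSndFDerivAt ℝ (F ∘ s e) (pr e) :=
    (hF e).isSymmSndFDerivAt (by
      rw [minSmoothness_of_isRCLikeNormedField]
      exact WithTop.coe_le_coe.2 (le_top (a := (2 : ℕ∞))))
  exact h3 w v

theorem fd_congr {F G : E → ℂ} {e : E} (h : F =ᶠ[𝓝 e] G) : fd F e = fd G e := by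
  refine Filter.EventuallyEq.fderiv_eq ?_
  have h1 : Tendsto (s e) (𝓝 (pr e)) (𝓝 e) := by
    have := continuousAt_s e
    rwa [ContinuousAt, s_pr] at this
  exact h1.eventually h

theorem fd_comp_pr {g : Cn n → ℂ} (e : E) : fd (fun e : E => g (pr e)) e = fderiv ℝ g (pr e) := by
  refine Filter.EventuallyEq.fderiv_eq ?_
  filter_upwards [eventually_s_eq e] with z hz
  simp only [Function.comp_apply, hz.2]

end rules

/-- The Wirtinger derivative `∂/∂z_j`. -/
def d (j : Fin n) (F : E → ℂ) (e : E) : ℂ :=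
  (fd F e (Pi.single j 1) - Complex.I * fd F e (Pi.single j Complex.I)) / 2

/-- The Wirtinger derivative `∂/∂\bar z_j`. -/
def db (j : Fin n) (F : E → ℂ) (e : E) : ℂ :=
  (fd F e (Pi.single j 1) + Complex.I * fd F e (Pi.single j Complex.I)) / 2

section wirtinger

variable {F G : E → ℂ} (j k : Fin n)

theorem SmE.d (hF : SmE F) : SmE (Basic.d j F) := by
  have h := ((hF.fd (Pi.single j 1)).sub ((hF.fd (Pi.single j Complex.I)).const_mul Complex.I)).const_mul (1/2)
  convert! h using 2 with e
  simp only [Basic.d]; ring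

theorem SmE.db (hF : SmE F) : SmE (Basic.db j F) := by
  have h := ((hF.fd (Pi.single j 1)).add ((hF.fd (Pi.single j Complex.I)).const_mul Complex.I)).const_mul (1/2)
  convert! h using 2 with e
  simp only [Basic.db]; ring

theorem d_add (hF : SmE F) (hG : SmE G) (e : E) : d j (fun e => F e + G e) e = d j F e + d j G e := by
  simp only [d, fd_add hF hG, _root_.add_apply]; ring

theorem db_add (hF : SmE F) (hG : SmE G) (e : E) : db j (fun e => F e + G e) e = db j F e + db j G e := by
  simp only [db, fd_add hF hG, _root_.add_apply]; ring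

theorem d_sub (hF : SmE F) (hG : SmE G) (e : E) : d j (fun e => F e - G e) e = d j F e - d j G e := by
  simp only [d, fd_sub hF hG, _root_.sub_apply]; ring

theorem db_sub (hF : SmE F) (hG : SmE G) (e : E) : db j (fun e => F e - G e) e = db j F e - db j G e := by
  simp only [db, fd_sub hF hG, _root_.sub_apply]; ring

theorem d_neg (e : E) : d j (fun e => - F e) e = - d j F e := by
  simp only [d, fd_neg, _root_.neg_apply]; ring

theorem db_neg (e : E) : db j (fun e => - F e) e = - db j F e := by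
  simp only [db, fd_neg, _root_.neg_apply]; ring

theorem d_mul (hF : SmE F) (hG : SmE G) (e : E) :
    d j (fun e => F e * G e) e = d j F e * G e + F e * d j G e := by
  simp only [d, fd_mul hF hG]; ring

theorem db_mul (hF : SmE F) (hG : SmE G) (e : E) :
    db j (fun e => F e * G e) e = db j F e * G e + F e * db j G e := by
  simp only [db, fd_mul hF hG]; ring

theorem d_const (c : ℂ) (e : E) : d j (fun _ : E => c) e = 0 := by
  simp [d, fd_const]

theorem db_const (c : ℂ) (e : E) : db j (fun _ : E => c) e = 0 := by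
  simp [db, fd_const]

theorem d_const_mul (hF : SmE F) (c : ℂ) (e : E) : d j (fun e => c * F e) e = c * d j F e := by
  rw [d_mul j (smE_const c) hF, d_const]; ring

theorem db_const_mul (hF : SmE F) (c : ℂ) (e : E) : db j (fun e => c * F e) e = c * db j F e := by
  rw [db_mul j (smE_const c) hF, db_const]; ring

theorem d_sum {ι : Type*} {t : Finset ι} {F : ι → E → ℂ} (hF : ∀ i ∈ t, SmE (F i)) (e : E) :
    d j (fun e => ∑ i ∈ t, F i e) e = ∑ i ∈ t, d j (F i) e := by
  simp only [d, fd_sum hF, _root_.sum_apply, Finset.mul_sum, ← Finset.sum_sub_distrib,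
    Finset.sum_div]

theorem db_sum {ι : Type*} {t : Finset ι} {F : ι → E → ℂ} (hF : ∀ i ∈ t, SmE (F i)) (e : E) :
    db j (fun e => ∑ i ∈ t, F i e) e = ∑ i ∈ t, db j (F i) e := by
  simp only [db, fd_sum hF, _root_.sum_apply, Finset.mul_sum, ← Finset.sum_add_distrib,
    Finset.sum_div]

theorem d_conj (hF : SmE F) (e : E) :
    d j (fun e => (starRingEnd ℂ) (F e)) e = (starRingEnd ℂ) (db j F e) := by
  simp only [d, db, fd_conj hF, map_div₀, map_add, map_mul, Complex.conj_I, map_ofNat]
  ring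

theorem db_conj (hF : SmE F) (e : E) :
    db j (fun e => (starRingEnd ℂ) (F e)) e = (starRingEnd ℂ) (d j F e) := by
  simp only [d, db, fd_conj hF, map_div₀, map_sub, map_mul, Complex.conj_I, map_ofNat]
  ring

theorem fd_comb (hF : SmE F) (a b : ℂ) (v w : Cn n) (e : E) (u : Cn n) :
    fd (fun e => a * fd F e v + b * fd F e w) e u =
      a * fd (fun e => fd F e v) e u + b * fd (fun e => fd F e w) e u := by
  rw [fd_add ((hF.fd v).const_mul a) ((hF.fd w).const_mul b), _root_.add_apply,
    fd_mul (smE_const a) (hF.fd v), fd_mul (smE_const b) (hF.fd w), fd_const, fd_const]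
  simp

theorem d_d_comm (hF : SmE F) (e : E) : d j (d k F) e = d k (d j F) e := by
  have h : ∀ k : Fin n, d k F = fun e => (1/2) * fd F e (Pi.single k 1) +
      (-Complex.I/2) * fd F e (Pi.single k Complex.I) := by
    intro k; funext e; simp only [d]; ring
  rw [h j, h k]
  simp only [d, fd_comb hF]
  rw [fd_fd_comm hF e (Pi.single k 1) (Pi.single j 1), fd_fd_comm hF e (Pi.single k 1) (Pi.single j Complex.I),
    fd_fd_comm hF e (Pi.single k Complex.I) (Pi.single j 1),
    fd_fd_comm hF e (Pi.single k Complex.I) (Pi.single j Complex.I)]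
  ring

theorem db_d_comm (hF : SmE F) (e : E) : db j (d k F) e = d k (db j F) e := by
  have h : ∀ k : Fin n, d k F = fun e => (1/2) * fd F e (Pi.single k 1) +
      (-Complex.I/2) * fd F e (Pi.single k Complex.I) := by
    intro k; funext e; simp only [d]; ring
  have h' : ∀ k : Fin n, db k F = fun e => (1/2) * fd F e (Pi.single k 1) +
      (Complex.I/2) * fd F e (Pi.single k Complex.I) := by
    intro k; funext e; simp only [db]; ring
  rw [h' j, h k]
  simp only [d, db, fd_comb hF]
  rw [fd_fd_comm hF e (Pi.single k 1) (Pi.single j 1), fd_fd_comm hF e (Pi.single k 1) (Pi.single j Complex.I),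
    fd_fd_comm hF e (Pi.single k Complex.I) (Pi.single j 1),
    fd_fd_comm hF e (Pi.single k Complex.I) (Pi.single j Complex.I)]
  ring

theorem db_db_comm (hF : SmE F) (e : E) : db j (db k F) e = db k (db j F) e := by
  have h' : ∀ k : Fin n, db k F = fun e => (1/2) * fd F e (Pi.single k 1) +
      (Complex.I/2) * fd F e (Pi.single k Complex.I) := by
    intro k; funext e; simp only [db]; ring
  rw [h' j, h' k]
  simp only [db, fd_comb hF]
  rw [fd_fd_comm hF e (Pi.single k 1) (Pi.single j 1), fd_fd_comm hF e (Pi.single k 1) (Pi.single j Complex.I),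
    fd_fd_comm hF e (Pi.single k Complex.I) (Pi.single j 1),
    fd_fd_comm hF e (Pi.single k Complex.I) (Pi.single j Complex.I)]
  ring

theorem d_congr {F G : E → ℂ} {e : E} (h : F =ᶠ[𝓝 e] G) : d j F e = d j G e := by
  rw [d, d, fd_congr h]

theorem db_congr {F G : E → ℂ} {e : E} (h : F =ᶠ[𝓝 e] G) : db j F e = db j G e := by
  rw [db, db, fd_congr h]

end wirtinger

/-- `ℂⁿ` itself. -/
instance rdomSelf : RDom n (Cn n) where
  p := id
  hp := (Homeomorph.refl (Cn n)).isLocalHomeomorph

theorem pr_self (z : Cn n) : (pr z : Cn n) = z := rfl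

theorem fd_self (g : Cn n → ℂ) (z : Cn n) : fd g z = fderiv ℝ g z :=
  fd_comp_pr (E := Cn n) (g := g) z

theorem smE_self_iff (g : Cn n → ℂ) : SmE g ↔ ContDiff ℝ ∞ g := by
  constructor
  · intro h
    rw [contDiff_iff_contDiffAt]
    intro z
    have h1 := (isCh_ch z).contDiffAt h (pr_mem_target z)
    refine h1.congr_of_eventuallyEq ?_
    filter_upwards [(ch z).open_target.mem_nhds (pr_mem_target z)] with y hy
    simp only [Function.comp_apply]
    congr 1
    exact ((isCh_ch z).pr_symm hy).symm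
  · intro h
    exact smE_comp_pr (E := Cn n) (fun e => h.contDiffAt)

theorem d_comp_pr (j : Fin n) {g : Cn n → ℂ} (e : E) : d j (fun e : E => g (pr e)) e = d j g (pr e) := by
  simp only [d, fd_comp_pr, fd_self]

theorem db_comp_pr (j : Fin n) {g : Cn n → ℂ} (e : E) : db j (fun e : E => g (pr e)) e = db j g (pr e) := by
  simp only [db, fd_comp_pr, fd_self]

end Groth.Agent.An.H10.Basic
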