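import Groth.Agent.An.H10.Lam
import Mathlib.Algebra.MvPolynomial.PDeriv

/-!
# Calculus on a Riemann domain: real functions, coordinates, polynomials
-/

set_option autoImplicit false
set_option linter.unusedSectionVars false

open scoped ContDiff Topology ComplexConjugate
open Set Filter MeasureTheory UniformSpace

noncomputable section

namespace Groth.Agent.An.H10.Calc

open Groth.Agent.An.H10.Basic Groth.Agent.An.H10.Trace Groth.Agent.An.H10.Test Groth.Agent.An.H10.Ops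
  Groth.Agent.An.H10.Dens

variable {n : ℕ} {E : Type*} [TopologicalSpace E] [RDom n E]

section real

/-- Smooth real functions. -/
def SmR (r : E → ℝ) : Prop := SmE (fun e => (r e : ℂ))

theorem SmR.contDiffAt {r : E → ℝ} (hr : SmR r) (e : E) : ContDiffAt ℝ ∞ (r ∘ s e) (pr e) :=
  (Complex.reCLM.contDiff.contDiffAt).comp (pr e) (hr e)

theorem smR_of_contDiffAt {r : E → ℝ} (hr : ∀ e, ContDiffAt ℝ ∞ (r ∘ s e) (pr e)) : SmR r := fun e =>
  (Complex.ofRealCLM.contDiff.contDiffAt).comp (pr e) (hr e)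

theorem SmR.comp {G : ℝ → ℝ} {r : E → ℝ} (hr : SmR r) (hG : ∀ e, ContDiffAt ℝ ∞ G (r e)) :
    SmR (fun e => G (r e)) := smR_of_contDiffAt fun e => by
  have h1 : ContDiffAt ℝ ∞ G ((r ∘ s e) (pr e)) := by
    simp only [Function.comp_apply, s_pr]; exact hG e
  exact h1.comp (pr e) (hr.contDiffAt e)

theorem SmR.hasFDerivAt {r : E → ℝ} (hr : SmR r) (e : E) :
    ∃ L : Cn n →L[ℝ] ℝ, HasFDerivAt (r ∘ s e) L (pr e) ∧ fd (fun e => (r e : ℂ)) e = Complex.ofRealCLM.comp L := by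
  have h1 : DifferentiableAt ℝ (r ∘ s e) (pr e) := (hr.contDiffAt e).differentiableAt (by simp)
  refine ⟨_, h1.hasFDerivAt, ?_⟩
  have h2 : HasFDerivAt (fun z => Complex.ofRealCLM ((r ∘ s e) z))
    (Complex.ofRealCLM.comp (fderiv ℝ (r ∘ s e) (pr e))) (pr e) :=
    Complex.ofRealCLM.hasFDerivAt.comp (pr e) h1.hasFDerivAt
  exact h2.fderiv

theorem fd_comp_real {G : ℝ → ℝ} {r : E → ℝ} (hr : SmR r) (hG : ∀ e, ContDiffAt ℝ ∞ G (r e)) (e : E) (v : Cn n) :
    fd (fun e => ((G (r e) : ℝ) : ℂ)) e v = ((deriv G (r e) : ℝ) : ℂ) * fd (fun e => (r e : ℂ)) e v := by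
  obtain ⟨L, hL, hL'⟩ := hr.hasFDerivAt e
  have h1 : HasDerivAt G (deriv G (r e)) ((r ∘ s e) (pr e)) := by
    simp only [Function.comp_apply, s_pr]
    exact ((hG e).differentiableAt (by simp)).hasDerivAt
  have h2 : HasFDerivAt (G ∘ (r ∘ s e)) (deriv G (r e) • L) (pr e) := h1.comp_hasFDerivAt (pr e) hL
  have h3 : HasFDerivAt (fun z => Complex.ofRealCLM ((G ∘ (r ∘ s e)) z))
    (Complex.ofRealCLM.comp (deriv G (r e) • L)) (pr e) :=
    Complex.ofRealCLM.hasFDerivAt.comp (pr e) h2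
  have h4 : fd (fun e => ((G (r e) : ℝ) : ℂ)) e = Complex.ofRealCLM.comp (deriv G (r e) • L) := h3.fderiv
  rw [h4, hL']
  simp

theorem d_comp_real (k : Fin n) {G : ℝ → ℝ} {r : E → ℝ} (hr : SmR r) (hG : ∀ e, ContDiffAt ℝ ∞ G (r e)) (e : E) :
    d k (fun e => ((G (r e) : ℝ) : ℂ)) e = ((deriv G (r e) : ℝ) : ℂ) * d k (fun e => (r e : ℂ)) e := by
  simp only [d, fd_comp_real hr hG]; ring

theorem db_comp_real (k : Fin n) {G : ℝ → ℝ} {r : E → ℝ} (hr : SmR r) (hG : ∀ e, ContDiffAt ℝ ∞ G (r e)) (e : E) :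
    db k (fun e => ((G (r e) : ℝ) : ℂ)) e = ((deriv G (r e) : ℝ) : ℂ) * db k (fun e => (r e : ℂ)) e := by
  simp only [db, fd_comp_real hr hG]; ring

theorem db_eq_conj_d (k : Fin n) {r : E → ℝ} (hr : SmR r) (e : E) :
    db k (fun e => (r e : ℂ)) e = conj (d k (fun e => (r e : ℂ)) e) := by
  rw [← db_conj k hr e]
  congr 1
  funext x
  exact (Complex.conj_ofReal _).symm

end real

section coord

/-- Coordinates. -/
def zc (j : Fin n) (e : E) : ℂ := pr e j

theorem smE_zc (j : Fin n) : SmE (zc j : E → ℂ) :=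
  smE_comp_pr (g := fun z => z j) fun e => (ContinuousLinearMap.proj (R := ℝ) (φ := fun _ : Fin n => ℂ) j).contDiff.contDiffAt

theorem fd_zc (j : Fin n) (e : E) (v : Cn n) : fd (zc j : E → ℂ) e v = v j := by
  have h1 : fd (zc j : E → ℂ) e = fderiv ℝ (fun z : Cn n => z j) (pr e) :=
    fd_comp_pr (g := fun z : Cn n => z j) e
  have h2 : HasFDerivAt (fun z : Cn n => z j) (ContinuousLinearMap.proj (R := ℝ) (φ := fun _ : Fin n => ℂ) j) (pr e) :=
    (ContinuousLinearMap.proj (R := ℝ) (φ := fun _ : Fin n => ℂ) j).hasFDerivAt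
  rw [h1, h2.fderiv]
  rfl

theorem d_zc (j k : Fin n) (e : E) : d k (zc j : E → ℂ) e = if j = k then 1 else 0 := by
  rw [d, fd_zc, fd_zc]
  by_cases h : j = k
  · subst h
    simp only [Pi.single_eq_same, if_true]
    rw [Complex.I_mul_I]; norm_num
  · rw [Pi.single_eq_of_ne h, Pi.single_eq_of_ne h, if_neg h]; simp

theorem db_zc (j k : Fin n) (e : E) : db k (zc j : E → ℂ) e = 0 := by
  rw [db, fd_zc, fd_zc]
  by_cases h : j = k
  · subst h
    simp only [Pi.single_eq_same]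
    rw [Complex.I_mul_I]; norm_num
  · rw [Pi.single_eq_of_ne h, Pi.single_eq_of_ne h]; simp

end coord

section poly

open MvPolynomial

/-- Polynomials on `E`. -/
def pe (P : MvPolynomial (Fin n) ℂ) (e : E) : ℂ := eval (pr e) P

theorem pe_C (a : ℂ) : (pe (C a) : E → ℂ) = fun _ => a := by
  funext e; simp [pe]

theorem pe_add (P Q : MvPolynomial (Fin n) ℂ) : (pe (P + Q) : E → ℂ) = fun e => pe P e + pe Q e := by
  funext e; simp [pe]

theorem pe_mul (P Q : MvPolynomial (Fin n) ℂ) : (pe (P * Q) : E → ℂ) = fun e => pe P e * pe Q e := by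
  funext e; simp [pe]

theorem pe_X (j : Fin n) : (pe (X j) : E → ℂ) = zc j := by
  funext e; simp [pe, zc]

theorem smE_pe (P : MvPolynomial (Fin n) ℂ) : SmE (pe P : E → ℂ) := by
  induction P using MvPolynomial.induction_on with
  | C a => rw [pe_C]; exact smE_const a
  | add p q hp hq => rw [pe_add]; exact hp.add hq
  | mul_X p j hp => rw [pe_mul, pe_X]; exact hp.mul (smE_zc j)

theorem d_pe (k : Fin n) (P : MvPolynomial (Fin n) ℂ) (e : E) : d k (pe P : E → ℂ) e = pe (pderiv k P) e := by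
  induction P using MvPolynomial.induction_on with
  | C a => rw [pe_C, d_const, pderiv_C]; simp [pe]
  | add p q hp hq => rw [pe_add, d_add k (smE_pe p) (smE_pe q), hp, hq, map_add, pe_add]
  | mul_X p j hp =>
    rw [pe_mul, pe_X, d_mul k (smE_pe p) (smE_zc j), hp, d_zc, pderiv_mul, pe_add, pderiv_X, pe_mul, pe_mul, pe_X]
    by_cases h : j = k
    · subst h; simp [pe]
    · rw [if_neg h]
      simp only [Pi.single_eq_of_ne h]
      simp [pe]

theorem db_pe (k : Fin n) (P : MvPolynomial (Fin n) ℂ) (e : E) : db k (pe P : E → ℂ) e = 0 := by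
  induction P using MvPolynomial.induction_on with
  | C a => rw [pe_C, db_const]
  | add p q hp hq => rw [pe_add, db_add k (smE_pe p) (smE_pe q), hp, hq, add_zero]
  | mul_X p j hp =>
    rw [pe_mul, pe_X, db_mul k (smE_pe p) (smE_zc j), hp, db_zc]; ring

theorem norm_eval_le (P : MvPolynomial (Fin n) ℂ) : ∃ M : ℝ, 0 ≤ M ∧ ∃ m : ℕ, ∀ z : Cn n,
    ‖eval z P‖ ≤ M * (1 + ‖z‖) ^ m := by
  induction P using MvPolynomial.induction_on with
  | C a => exact ⟨‖a‖, norm_nonneg _, 0, fun z => by simp⟩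
  | add p q hp hq =>
    obtain ⟨M, hM, m, h⟩ := hp
    obtain ⟨M', hM', m', h'⟩ := hq
    refine ⟨M + M', by positivity, max m m', fun z => ?_⟩
    have h1 : (1 : ℝ) ≤ 1 + ‖z‖ := by linarith [norm_nonneg z]
    rw [map_add]
    calc ‖eval z p + eval z q‖ ≤ ‖eval z p‖ + ‖eval z q‖ := norm_add_le _ _
      _ ≤ M * (1 + ‖z‖) ^ m + M' * (1 + ‖z‖) ^ m' := add_le_add (h z) (h' z)
      _ ≤ M * (1 + ‖z‖) ^ (max m m') + M' * (1 + ‖z‖) ^ (max m m') := by
        gcongr
        · exact le_max_left _ _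
        · exact le_max_right _ _
      _ = _ := by ring
  | mul_X p j hp =>
    obtain ⟨M, hM, m, h⟩ := hp
    refine ⟨M, hM, m + 1, fun z => ?_⟩
    rw [map_mul, eval_X, norm_mul, pow_succ, ← mul_assoc]
    gcongr
    · exact h z
    · exact (norm_le_pi_norm z j).trans (by linarith)

theorem norm_eval_sub_le (P : MvPolynomial (Fin n) ℂ) : ∃ M : ℝ, 0 ≤ M ∧ ∃ m : ℕ, ∀ z h : Cn n, ‖h‖ ≤ 1 →
    ‖eval (z + h) P - eval z P‖ ≤ M * (1 + ‖z‖) ^ m * ‖h‖ := by
  induction P using MvPolynomial.induction_on with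
  | C a => exact ⟨0, le_rfl, 0, fun z h _ => by simp⟩
  | add p q hp hq =>
    obtain ⟨M, hM, m, h⟩ := hp
    obtain ⟨M', hM', m', h'⟩ := hq
    refine ⟨M + M', by positivity, max m m', fun z t ht => ?_⟩
    have h1 : (1 : ℝ) ≤ 1 + ‖z‖ := by linarith [norm_nonneg z]
    rw [map_add, map_add]
    calc ‖eval (z + t) p + eval (z + t) q - (eval z p + eval z q)‖
        = ‖(eval (z + t) p - eval z p) + (eval (z + t) q - eval z q)‖ := by congr 1; ring
      _ ≤ ‖eval (z + t) p - eval z p‖ + ‖eval (z + t) q - eval z q‖ := norm_add_le _ _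
      _ ≤ M * (1 + ‖z‖) ^ m * ‖t‖ + M' * (1 + ‖z‖) ^ m' * ‖t‖ := add_le_add (h z t ht) (h' z t ht)
      _ ≤ M * (1 + ‖z‖) ^ (max m m') * ‖t‖ + M' * (1 + ‖z‖) ^ (max m m') * ‖t‖ := by
        gcongr
        · exact le_max_left _ _
        · exact le_max_right _ _
      _ = _ := by ring
  | mul_X p j hp =>
    obtain ⟨M, hM, m, h⟩ := hp
    obtain ⟨M', hM', m', h'⟩ := norm_eval_le p
    refine ⟨M + M', by positivity, max (m + 1) m', fun z t ht => ?_⟩
    have h1 : (1 : ℝ) ≤ 1 + ‖z‖ := by linarith [norm_nonneg z]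
    rw [map_mul, map_mul, eval_X, eval_X]
    have h2 : ‖z j + t j‖ ≤ 1 + ‖z‖ := by
      calc ‖z j + t j‖ ≤ ‖z j‖ + ‖t j‖ := norm_add_le _ _
        _ ≤ ‖z‖ + ‖t‖ := add_le_add (norm_le_pi_norm z j) (norm_le_pi_norm t j)
        _ ≤ _ := by linarith
    calc ‖eval (z + t) p * (z + t) j - eval z p * z j‖
        = ‖(eval (z + t) p - eval z p) * (z j + t j) + eval z p * t j‖ := by
          congr 1; rw [Pi.add_apply]; ring
      _ ≤ ‖(eval (z + t) p - eval z p) * (z j + t j)‖ + ‖eval z p * t j‖ := norm_add_le _ _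
      _ ≤ M * (1 + ‖z‖) ^ m * ‖t‖ * (1 + ‖z‖) + M' * (1 + ‖z‖) ^ m' * ‖t‖ := by
        rw [norm_mul, norm_mul]
        gcongr
        · exact h z t ht
        · exact h' z
        · exact norm_le_pi_norm t j
      _ = M * (1 + ‖z‖) ^ (m + 1) * ‖t‖ + M' * (1 + ‖z‖) ^ m' * ‖t‖ := by ring
      _ ≤ M * (1 + ‖z‖) ^ (max (m + 1) m') * ‖t‖ + M' * (1 + ‖z‖) ^ (max (m + 1) m') * ‖t‖ := by
        gcongr
        · exact le_max_left _ _
        · exact le_max_right _ _
      _ = _ := by ring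

end poly

section inverse

variable [T2Space E]

/-- Holomorphic inverse. -/
theorem db_inv_hol {D : E → ℂ} (hD : SmE D) (hz : ∀ e, D e ≠ 0) {k : Fin n} (h : ∀ e, db k D e = 0) (e : E) :
    db k (fun e => (D e)⁻¹) e = 0 := by
  have h1 := db_mul k hD (SmE.inv hD hz) e
  have h2 : (fun e => D e * (D e)⁻¹) = fun _ => (1 : ℂ) := by
    funext x; exact mul_inv_cancel₀ (hz x)
  rw [h2, db_const, h, zero_mul, zero_add] at h1
  exact (mul_eq_zero.1 h1.symm).resolve_left (hz e)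

theorem d_inv {D : E → ℂ} (hD : SmE D) (hz : ∀ e, D e ≠ 0) (k : Fin n) (e : E) :
    d k (fun e => (D e)⁻¹) e = - ((D e)⁻¹) ^ 2 * d k D e := by
  have h1 := d_mul k hD (SmE.inv hD hz) e
  have h2 : (fun e => D e * (D e)⁻¹) = fun _ => (1 : ℂ) := by
    funext x; exact mul_inv_cancel₀ (hz x)
  rw [h2, d_const] at h1
  have h3 := hz e
  have h4 : (D e)⁻¹ * (D e * d k (fun e => (D e)⁻¹) e) = d k (fun e => (D e)⁻¹) e := by
    rw [← mul_assoc, inv_mul_cancel₀ h3, one_mul]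
  rw [← h4]
  linear_combination (-(D e)⁻¹) * h1

end inverse

end Groth.Agent.An.H10.Calc
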