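import Groth.Agent.An.H10.Conv

/-!
# Extension by zero from a chart, bump functions and partitions
-/

set_option autoImplicit false
set_option linter.unusedSectionVars false

open scoped ContDiff Topology ComplexConjugate
open Set Filter MeasureTheory UniformSpace

noncomputable section

namespace Groth.Agent.An.H10.Chart

open Groth.Agent.An.H10.Basic Groth.Agent.An.H10.Trace Groth.Agent.An.H10.Test Groth.Agent.An.H10.Ops
  Groth.Agent.An.H10.Conv

variable {n : ℕ} {E : Type*} [TopologicalSpace E] [RDom n E] [T2Space E]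

open Classical in
/-- Extension by zero of a function on a chart. -/
def exF (φ : OpenPartialHomeomorph E (Cn n)) (f : Cn n → ℂ) (e : E) : ℂ :=
  if e ∈ φ.source then f (pr e) else 0

theorem exF_mem {φ : OpenPartialHomeomorph E (Cn n)} (f : Cn n → ℂ) {e : E} (he : e ∈ φ.source) :
    exF φ f e = f (pr e) := if_pos he

theorem exF_notMem {φ : OpenPartialHomeomorph E (Cn n)} (f : Cn n → ℂ) {e : E} (he : e ∉ φ.source) :
    exF φ f e = 0 := if_neg he

theorem exF_eq_zero {φ : OpenPartialHomeomorph E (Cn n)} (hφ : IsCh φ) {f : Cn n → ℂ} {K : Set (Cn n)}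
    (hf : ∀ z, z ∉ K → f z = 0) {e : E} (he : e ∉ φ.symm '' K) : exF φ f e = 0 := by
  by_cases h : e ∈ φ.source
  · rw [exF_mem f h]
    refine hf _ fun hK => he ⟨pr e, hK, hφ.symm_pr h⟩
  · exact exF_notMem f h

theorem isCompact_symm_image {φ : OpenPartialHomeomorph E (Cn n)} {K : Set (Cn n)} (hK : IsCompact K)
    (hKφ : K ⊆ φ.target) : IsCompact (φ.symm '' K) :=
  hK.image_of_continuousOn (φ.continuousOn_symm.mono hKφ)

theorem exF_cs {φ : OpenPartialHomeomorph E (Cn n)} (hφ : IsCh φ) {f : Cn n → ℂ} {K : Set (Cn n)}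
    (hK : IsCompact K) (hKφ : K ⊆ φ.target) (hf : ∀ z, z ∉ K → f z = 0) : HasCompactSupport (exF φ f) :=
  HasCompactSupport.intro (isCompact_symm_image hK hKφ) fun _ he => exF_eq_zero hφ hf he

theorem exF_sm {φ : OpenPartialHomeomorph E (Cn n)} (hφ : IsCh φ) {f : Cn n → ℂ} {K : Set (Cn n)}
    (hK : IsCompact K) (hKφ : K ⊆ φ.target) (hf : ∀ z, z ∉ K → f z = 0) (hs : ContDiff ℝ ∞ f) :
    SmE (exF φ f) := by
  refine smE_of_comp fun e => ?_
  by_cases he : e ∈ φ.source
  · refine ⟨f, hs.contDiffAt, ?_⟩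
    filter_upwards [φ.open_source.mem_nhds he] with x hx
    exact exF_mem f hx
  · refine ⟨fun _ => 0, contDiffAt_const, ?_⟩
    have h1 : e ∉ φ.symm '' K := by
      rintro ⟨z, hz, rfl⟩
      exact he (φ.map_target (hKφ hz))
    filter_upwards [(isCompact_symm_image hK hKφ).isClosed.isOpen_compl.mem_nhds h1] with x hx
    exact exF_eq_zero hφ hf hx

/-- Extension by zero of a test function on a chart. -/
def exT (φ : OpenPartialHomeomorph E (Cn n)) (hφ : IsCh φ) (f : TF (Cn n)) (hf : tsupport f.fn ⊆ φ.target) :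
    TF E :=
  TF.mk (exF φ f.fn) (exF_sm hφ f.cs hf (fun _ hz => image_eq_zero_of_notMem_tsupport hz) (TF.cd f))
    (exF_cs hφ f.cs hf (fun _ hz => image_eq_zero_of_notMem_tsupport hz))

theorem exT_mem {φ : OpenPartialHomeomorph E (Cn n)} {hφ : IsCh φ} {f : TF (Cn n)}
    {hf : tsupport f.fn ⊆ φ.target} {e : E} (he : e ∈ φ.source) : exT φ hφ f hf e = f (pr e) := exF_mem _ he

theorem exT_notMem {φ : OpenPartialHomeomorph E (Cn n)} {hφ : IsCh φ} {f : TF (Cn n)}
    {hf : tsupport f.fn ⊆ φ.target} {e : E} (he : e ∉ φ.source) : exT φ hφ f hf e = 0 := exF_notMem _ he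

theorem tsupport_dL (k : Fin n) (f : TF (Cn n)) : tsupport (dL k f).fn ⊆ tsupport f.fn := by
  refine closure_minimal (fun z hz => ?_) (isClosed_tsupport _)
  by_contra hcon
  exact hz (by rw [dL_val]; simp [d, support_fd_subset f.fn z hcon])

theorem tsupport_dbL (k : Fin n) (f : TF (Cn n)) : tsupport (dbL k f).fn ⊆ tsupport f.fn := by
  refine closure_minimal (fun z hz => ?_) (isClosed_tsupport _)
  by_contra hcon
  exact hz (by rw [dbL_val]; simp [db, support_fd_subset f.fn z hcon])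

theorem injOn_source {φ : OpenPartialHomeomorph E (Cn n)} (hφ : IsCh φ) :
    InjOn (pr : E → Cn n) φ.source := by
  intro x hx y hy h
  rw [← hφ.symm_pr hx, ← hφ.symm_pr hy, h]

/-- A bump on `ℂⁿ` centered at `z0`. -/
def bmp (z0 : Cn n) (r R : ℝ) (hr : 0 < r) (hR : r < R) : TF (Cn n) :=
  TF.mk (fun z => (((⟨r, R, hr, hR⟩ : ContDiffBump z0) : Cn n → ℝ) z : ℂ))
  ((smE_self_iff _).2 (Complex.ofRealCLM.contDiff.comp (⟨r, R, hr, hR⟩ : ContDiffBump z0).contDiff))
  ((⟨r, R, hr, hR⟩ : ContDiffBump z0).hasCompactSupport.comp_left (g := fun x : ℝ => (x : ℂ)) (by simp))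

theorem bmp_apply (z0 : Cn n) (r R : ℝ) (hr : 0 < r) (hR : r < R) (z : Cn n) :
    bmp z0 r R hr hR z = (((⟨r, R, hr, hR⟩ : ContDiffBump z0) : Cn n → ℝ) z : ℂ) := rfl

theorem bmp_one {z0 : Cn n} {r R : ℝ} {hr : 0 < r} {hR : r < R} {z : Cn n}
    (hz : z ∈ Metric.closedBall z0 r) : bmp z0 r R hr hR z = 1 := by
  rw [bmp_apply, (⟨r, R, hr, hR⟩ : ContDiffBump z0).one_of_mem_closedBall hz]
  simp

theorem bmp_zero {z0 : Cn n} {r R : ℝ} {hr : 0 < r} {hR : r < R} {z : Cn n}
    (hz : z ∉ Metric.ball z0 R) : bmp z0 r R hr hR z = 0 := by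
  rw [bmp_apply, (⟨r, R, hr, hR⟩ : ContDiffBump z0).zero_of_le_dist (by simpa using hz)]
  simp

theorem tsupport_bmp {z0 : Cn n} {r R : ℝ} {hr : 0 < r} {hR : r < R} :
    tsupport (bmp z0 r R hr hR).fn ⊆ Metric.closedBall z0 R := by
  refine closure_minimal (fun z hz => ?_) Metric.isClosed_closedBall
  by_contra hcon
  exact hz (bmp_zero (fun h => hcon (Metric.ball_subset_closedBall h)))

theorem bmp_nonneg {z0 : Cn n} {r R : ℝ} {hr : 0 < r} {hR : r < R} (z : Cn n) :
    ∃ x : ℝ, 0 ≤ x ∧ bmp z0 r R hr hR z = x :=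
  ⟨_, (⟨r, R, hr, hR⟩ : ContDiffBump z0).nonneg, rfl⟩

/-- A test function supported in a chart, in a strong sense. -/
def Small (κ : TF E) : Prop := ∃ θ : TF E, InjOn (pr : E → Cn n) (tsupport θ.fn) ∧ mulT θ κ = κ

theorem tsupport_exT {φ : OpenPartialHomeomorph E (Cn n)} {hφ : IsCh φ} {f : TF (Cn n)}
    {hf : tsupport f.fn ⊆ φ.target} : tsupport (exT φ hφ f hf).fn ⊆ φ.symm '' tsupport f.fn := by
  refine closure_minimal (fun e he => ?_) (isCompact_symm_image f.cs hf).isClosed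
  by_contra hcon
  exact he (exF_eq_zero hφ (fun _ hz => image_eq_zero_of_notMem_tsupport hz) hcon)

theorem tsupport_exT_subset {φ : OpenPartialHomeomorph E (Cn n)} {hφ : IsCh φ} {f : TF (Cn n)}
    {hf : tsupport f.fn ⊆ φ.target} : tsupport (exT φ hφ f hf).fn ⊆ φ.source := by
  refine tsupport_exT.trans ?_
  rintro _ ⟨z, hz, rfl⟩
  exact φ.map_target (hf hz)

theorem exists_bump (e : E) : ∃ b : TF E, Small b ∧ b e ≠ 0 ∧ ∀ x, ∃ y : ℝ, 0 ≤ y ∧ b x = y := by
  obtain ⟨R, hR, hR'⟩ := Metric.isOpen_iff.1 (ch e).open_target (pr e) (pr_mem_target e)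
  have h1 : 0 < R / 4 := by positivity
  have h2 : R / 4 < R / 3 := by linarith
  have h3 : 0 < R / 3 := by positivity
  have h4 : R / 3 < R / 2 := by linarith
  have hb : tsupport (bmp (pr e) (R / 4) (R / 3) h1 h2).fn ⊆ (ch e).target :=
    tsupport_bmp.trans ((Metric.closedBall_subset_ball (by linarith)).trans hR')
  have hθ : tsupport (bmp (pr e) (R / 3) (R / 2) h3 h4).fn ⊆ (ch e).target :=
    tsupport_bmp.trans ((Metric.closedBall_subset_ball (by linarith)).trans hR')
  refine ⟨exT (ch e) (isCh_ch e) _ hb, ⟨exT (ch e) (isCh_ch e) _ hθ, ?_, ?_⟩, ?_, ?_⟩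
  · exact (injOn_source (isCh_ch e)).mono tsupport_exT_subset
  · refine TF.ext fun x => ?_
    rw [mulL_apply]
    by_cases hx : x ∈ (ch e).source
    · rw [exT_mem hx, exT_mem hx]
      by_cases hz : pr x ∈ Metric.ball (pr e) (R / 3)
      · rw [bmp_one (Metric.ball_subset_closedBall hz), one_mul]
      · rw [bmp_zero (r := R / 4) hz, mul_zero]
    · rw [exT_notMem hx, exT_notMem hx, mul_zero]
  · rw [exT_mem (mem_ch e), bmp_one (Metric.mem_closedBall_self h1.le)]
    exact one_ne_zero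
  · intro x
    by_cases hx : x ∈ (ch e).source
    · rw [exT_mem hx]
      exact bmp_nonneg _
    · rw [exT_notMem hx]
      exact ⟨0, le_rfl, by simp⟩

theorem Small.mul {a : E → ℂ} {ha : SmE a} {κ : TF E} (h : Small κ) : Small (mulL a ha κ) := by
  obtain ⟨θ, h1, h2⟩ := h
  refine ⟨θ, h1, TF.ext fun e => ?_⟩
  have h3 : θ e * κ e = κ e := congrArg (fun f : TF E => f e) h2
  rw [mulL_apply, mulL_apply]
  linear_combination (a e) * h3

theorem exists_partition (κ : TF E) : ∃ (t : Finset E) (f : E → TF E), (∀ e ∈ t, Small (f e)) ∧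
    κ = ∑ e ∈ t, f e := by
  classical
  choose b hb1 hb2 hb3 using fun e : E => exists_bump e
  have hnh : ∀ e ∈ tsupport κ.fn, {x | b e x ≠ 0} ∈ 𝓝 e := fun e _ =>
    (isOpen_ne.preimage (b e).cont).mem_nhds (hb2 e)
  obtain ⟨t, ht, ht'⟩ := κ.cs.elim_nhds_subcover (fun e => {x | b e x ≠ 0}) hnh
  set B : TF E := ∑ e ∈ t, b e with hB
  have hBne : ∀ x ∈ tsupport κ.fn, B x ≠ 0 := by
    intro x hx h0
    choose y hy0 hy using fun e : E => hb3 e x
    rw [hB, TF.sum_apply] at h0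
    simp only [hy] at h0
    have h1 : ∑ e ∈ t, y e = 0 := by exact_mod_cast h0
    rw [Finset.sum_eq_zero_iff_of_nonneg (fun e _ => hy0 e)] at h1
    have h2 := ht' hx
    simp only [mem_iUnion] at h2
    obtain ⟨e, he, hxe⟩ := h2
    refine hxe ?_
    change b e x = 0
    rw [hy e, h1 e he]
    simp
  have hsm : SmE (fun x => κ x / B x) := by
    intro x
    by_cases hx : x ∈ tsupport κ.fn
    · have h0 : ContDiffAt ℝ ∞ (fun z => ((B.fn ∘ s x) z)⁻¹) (pr x) := by
        refine (B.sm x).inv ?_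
        simp only [Function.comp_apply, s_pr]
        exact hBne x hx
      refine ((κ.sm x).mul h0).congr_of_eventuallyEq (Eventually.of_forall fun z => ?_)
      simp only [Function.comp_apply, div_eq_mul_inv]
    · have h1 : κ.fn =ᶠ[𝓝 x] 0 := notMem_tsupport_iff_eventuallyEq.1 hx
      have h2 : Tendsto (s x) (𝓝 (pr x)) (𝓝 x) := by
        have := continuousAt_s x
        rwa [ContinuousAt, s_pr] at this
      refine (contDiffAt_const (c := (0 : ℂ))).congr_of_eventuallyEq ?_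
      filter_upwards [h2.eventually h1] with z hz
      simp only [Function.comp_apply]
      rw [hz]
      simp
  refine ⟨t, fun e => mulL _ hsm (b e), fun e _ => (hb1 e).mul, ?_⟩
  refine TF.ext fun x => ?_
  rw [TF.sum_apply]
  simp only [mulL_apply]
  rw [← Finset.mul_sum, ← TF.sum_apply, ← hB]
  by_cases hx : B x = 0
  · have h1 : x ∉ tsupport κ.fn := fun h => hBne x h hx
    rw [hx, mul_zero]
    exact image_eq_zero_of_notMem_tsupport h1
  · field_simp

end Groth.Agent.An.H10.Chart
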