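import Groth.Agent.An.H10.Ops
import Mathlib.Analysis.Calculus.ContDiff.Convolution
import Mathlib.Analysis.Calculus.BumpFunction.Normed
import Mathlib.Analysis.Calculus.BumpFunction.FiniteDimension
import Mathlib.Topology.UniformSpace.HeineCantor

/-!
# Convolution of test functions on `ℂⁿ`
-/

set_option autoImplicit false
set_option linter.unusedSectionVars false

open scoped ContDiff Topology ComplexConjugate Convolution
open Set Filter MeasureTheory UniformSpace

noncomputable section

namespace Groth.Agent.An.H10.Conv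

open Groth.Agent.An.H10.Basic Groth.Agent.An.H10.Trace Groth.Agent.An.H10.Test Groth.Agent.An.H10.Ops

variable {n : ℕ}

/-- Multiplication as a bilinear map. -/
abbrev LL : ℂ →L[ℝ] ℂ →L[ℝ] ℂ := ContinuousLinearMap.mul ℝ ℂ

theorem TF.cd (v : TF (Cn n)) : ContDiff ℝ ∞ v.fn := (smE_self_iff _).1 v.sm

theorem TF.li (v : TF (Cn n)) : LocallyIntegrable v.fn volume := v.cont.locallyIntegrable

theorem integrable_conv (η v : TF (Cn n)) (z : Cn n) : Integrable (fun t => η t * v (z - t)) :=
  (η.cont.mul (v.cont.comp (continuous_const.sub continuous_id))).integrable_of_hasCompactSupport η.cs.mul_right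

/-- Convolution with a test function. -/
def convL (η : TF (Cn n)) : TF (Cn n) →ₗ[ℂ] TF (Cn n) where
  toFun v := TF.mk (η.fn ⋆[LL, volume] v.fn)
    ((smE_self_iff _).2 (v.cs.contDiff_convolution_right LL (TF.li η) (TF.cd v)))
    (HasCompactSupport.convolution LL η.cs v.cs)
  map_add' u v := TF.ext fun z => by
    have h1 : ∀ v : TF (Cn n), TF.mk (η.fn ⋆[LL, volume] v.fn)
      ((smE_self_iff _).2 (v.cs.contDiff_convolution_right LL (TF.li η) (TF.cd v)))
      (HasCompactSupport.convolution LL η.cs v.cs) z = ∫ t, η t * v (z - t) := fun v => rfl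
    rw [TF.add_apply, h1, h1, h1, ← integral_add (integrable_conv η u z) (integrable_conv η v z)]
    congr 1; funext t; rw [TF.add_apply]; ring
  map_smul' c v := TF.ext fun z => by
    have h1 : ∀ v : TF (Cn n), TF.mk (η.fn ⋆[LL, volume] v.fn)
      ((smE_self_iff _).2 (v.cs.contDiff_convolution_right LL (TF.li η) (TF.cd v)))
      (HasCompactSupport.convolution LL η.cs v.cs) z = ∫ t, η t * v (z - t) := fun v => rfl
    rw [TF.smul_apply, h1, h1, ← integral_const_mul]
    congr 1; funext t; rw [TF.smul_apply]; simp only [RingHom.id_apply]; ring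

theorem convL_apply (η v : TF (Cn n)) (z : Cn n) : convL η v z = ∫ t, η t * v (z - t) := rfl

theorem convL_comm (η v : TF (Cn n)) : convL η v = convL v η := by
  refine TF.ext fun z => ?_
  rw [convL_apply, convL_apply, ← integral_sub_left_eq_self (fun t => v t * η (z - t)) volume z]
  congr 1; funext t; rw [sub_sub_self, mul_comm]

theorem fd_convL (η v : TF (Cn n)) (z w : Cn n) :
    fd (convL η v).fn z w = ∫ t, η t * fd v.fn (z - t) w := by
  have h1 := (v.cs.hasFDerivAt_convolution_right LL (TF.li η) ((TF.cd v).of_le (by simp)) z).fderiv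
  have h2 : fd (convL η v).fn z = fderiv ℝ (η.fn ⋆[LL, volume] v.fn) z := fd_self _ z
  rw [h2, h1, convolution_precompR_apply LL (TF.li η) (v.cs.fderiv ℝ)
    ((TF.cd v).continuous_fderiv (by simp))]
  refine integral_congr_ae (Eventually.of_forall fun t => ?_)
  simp only
  rw [fd_self]
  rfl

theorem fdv_cont (v : TF (Cn n)) (w : Cn n) : Continuous (fun z => fd v.fn z w) := (v.sm.fd w).continuous

theorem integrable_conv_fd (η v : TF (Cn n)) (z w : Cn n) :
    Integrable (fun t => η t * fd v.fn (z - t) w) :=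
  (η.cont.mul ((fdv_cont v w).comp (continuous_const.sub continuous_id))).integrable_of_hasCompactSupport
    η.cs.mul_right

theorem dL_convL (k : Fin n) (η v : TF (Cn n)) : dL k (convL η v) = convL η (dL k v) := by
  refine TF.ext fun z => ?_
  have h1 : dL k (convL η v) z = (1/2) * fd (convL η v).fn z (Pi.single k 1) +
      (-Complex.I/2) * fd (convL η v).fn z (Pi.single k Complex.I) := by
    rw [dL_apply, d]; ring
  rw [h1, fd_convL, fd_convL, convL_apply, ← integral_const_mul, ← integral_const_mul, ← integral_add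
    ((integrable_conv_fd η v z _).const_mul _) ((integrable_conv_fd η v z _).const_mul _)]
  congr 1; funext t
  rw [dL_apply, d]; ring

theorem dbL_convL (k : Fin n) (η v : TF (Cn n)) : dbL k (convL η v) = convL η (dbL k v) := by
  refine TF.ext fun z => ?_
  have h1 : dbL k (convL η v) z = (1/2) * fd (convL η v).fn z (Pi.single k 1) +
      (Complex.I/2) * fd (convL η v).fn z (Pi.single k Complex.I) := by
    rw [dbL_apply, db]; ring
  rw [h1, fd_convL, fd_convL, convL_apply, ← integral_const_mul, ← integral_const_mul, ← integral_add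
    ((integrable_conv_fd η v z _).const_mul _) ((integrable_conv_fd η v z _).const_mul _)]
  congr 1; funext t
  rw [dbL_apply, db]; ring

/-- Translation. -/
def trn (t : Cn n) (v : TF (Cn n)) : TF (Cn n) := TF.mk (fun z => v (z - t))
  ((smE_self_iff _).2 ((TF.cd v).comp (contDiff_id.sub contDiff_const)))
  (v.cs.comp_homeomorph (Homeomorph.subRight t))

theorem trn_apply (t : Cn n) (v : TF (Cn n)) (z : Cn n) : trn t v z = v (z - t) := rfl

theorem norm_trn (t : Cn n) (v : TF (Cn n)) : ‖trn t v‖ = ‖v‖ := by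
  refine (sq_eq_sq₀ (norm_nonneg _) (norm_nonneg _)).1 ?_
  rw [norm_sq, norm_sq, intE_self, intE_self]
  exact integral_sub_right_eq_self (fun z => ‖v z‖ ^ 2) t

theorem inner_self_def (F G : TF (Cn n)) : inner ℂ F G = ∫ z, conj (F z) * G z := by
  rw [inner_def, intE_self]

theorem inner_trn (t : Cn n) (v w : TF (Cn n)) : inner ℂ (trn t w) v = inner ℂ w (trn (-t) v) := by
  rw [inner_self_def, inner_self_def,
    ← integral_sub_right_eq_self (fun z => conj (w z) * (trn (-t) v) z) t]
  congr 1; funext z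
  rw [trn_apply, trn_apply]
  congr 2
  abel

theorem inner_convL (η v w : TF (Cn n)) : inner ℂ w (convL η v) = ∫ t, η t * inner ℂ w (trn t v) := by
  rw [inner_self_def]
  have h1 : ∀ z, conj (w z) * convL η v z = ∫ t, conj (w z) * (η t * v (z - t)) := by
    intro z; rw [convL_apply, integral_const_mul]
  have h2 : ∀ t, η t * inner ℂ w (trn t v) = ∫ z, conj (w z) * (η t * v (z - t)) := by
    intro t; rw [inner_self_def, ← integral_const_mul]
    congr 1; funext z; rw [trn_apply]; ring
  simp only [h1, h2]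
  refine integral_integral_swap ?_
  refine Continuous.integrable_of_hasCompactSupport ?_ ?_
  · refine ((Complex.continuous_conj.comp (w.cont.comp continuous_fst))).mul
      ((η.cont.comp continuous_snd).mul (v.cont.comp (continuous_fst.sub continuous_snd)))
  · refine HasCompactSupport.intro (w.cs.prod η.cs) ?_
    rintro ⟨z, t⟩ h
    simp only [Function.uncurry_apply_pair]
    rw [mem_prod, not_and_or] at h
    rcases h with h | h
    · rw [image_eq_zero_of_notMem_tsupport h]; simp
    · rw [image_eq_zero_of_notMem_tsupport h]; simp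

theorem norm_inner_convL_le (η v w : TF (Cn n)) :
    ‖inner ℂ w (convL η v)‖ ≤ (∫ t, ‖η t‖) * (‖w‖ * ‖v‖) := by
  rw [inner_convL, ← integral_mul_const]
  refine norm_integral_le_of_norm_le ?_ (Eventually.of_forall fun t => ?_)
  · exact ((η.cont.integrable_of_hasCompactSupport η.cs).norm).mul_const _
  · rw [norm_mul]
    gcongr
    exact (norm_inner_le_norm _ _).trans (by rw [norm_trn])

theorem norm_convL_le (η v : TF (Cn n)) : ‖convL η v‖ ≤ (∫ t, ‖η t‖) * ‖v‖ := by
  rcases eq_or_lt_of_le (norm_nonneg (convL η v)) with h | h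
  · rw [← h]; exact mul_nonneg (integral_nonneg fun t => norm_nonneg _) (norm_nonneg _)
  · have h1 := norm_inner_convL_le η v (convL η v)
    have h2 : ‖inner ℂ (convL η v) (convL η v)‖ = ‖convL η v‖ * ‖convL η v‖ := by
      rw [inner_self_eq_norm_sq_to_K]; simp [sq]
    rw [h2] at h1
    have h3 : ‖convL η v‖ * ‖convL η v‖ ≤ ‖convL η v‖ * ((∫ t, ‖η t‖) * ‖v‖) := by
      calc _ ≤ _ := h1
        _ = _ := by ring
    exact le_of_mul_le_mul_left h3 h

theorem bdd_convL (η : TF (Cn n)) : Bdd (convL η) := ⟨_, norm_convL_le η⟩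

theorem bdd_dL_convL (k : Fin n) (η : TF (Cn n)) : Bdd (dL k ∘ₗ convL η) := by
  refine ⟨∫ t, ‖dL k η t‖, fun v => ?_⟩
  have h : (dL k ∘ₗ convL η) v = convL (dL k η) v := by
    rw [LinearMap.comp_apply, convL_comm, dL_convL, convL_comm]
  rw [h]
  exact norm_convL_le _ _

theorem bdd_dbL_convL (k : Fin n) (η : TF (Cn n)) : Bdd (dbL k ∘ₗ convL η) := by
  refine ⟨∫ t, ‖dbL k η t‖, fun v => ?_⟩
  have h : (dbL k ∘ₗ convL η) v = convL (dbL k η) v := by
    rw [LinearMap.comp_apply, convL_comm, dbL_convL, convL_comm]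
  rw [h]
  exact norm_convL_le _ _

theorem inner_convL_symm {η : TF (Cn n)} (hr : ∀ t, conj (η t) = η t) (he : ∀ t, η (-t) = η t)
    (v w : TF (Cn n)) : inner ℂ (convL η v) w = inner ℂ v (convL η w) := by
  rw [← inner_conj_symm, inner_convL, inner_convL, ← integral_conj]
  rw [← integral_neg_eq_self (fun t => η t * inner ℂ v (trn t w))]
  congr 1; funext t
  rw [map_mul, hr, he, inner_conj_symm, inner_trn]

/-- The bump function. -/
def bump (r : ℝ) (hr : 0 < r) : ContDiffBump (0 : Cn n) := ⟨r / 2, r, by positivity, by linarith⟩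

/-- The mollifier. -/
def mol (n : ℕ) (r : ℝ) (hr : 0 < r) : TF (Cn n) := TF.mk (fun z => (((bump r hr).normed volume z : ℝ) : ℂ))
  ((smE_self_iff _).2 (Complex.ofRealCLM.contDiff.comp (bump r hr).contDiff_normed))
  ((bump r hr).hasCompactSupport_normed.comp_left (g := fun x : ℝ => (x : ℂ)) (by simp))

theorem mol_apply (r : ℝ) (hr : 0 < r) (z : Cn n) :
    mol n r hr z = (((bump r hr).normed volume z : ℝ) : ℂ) := rfl

theorem mol_conj (r : ℝ) (hr : 0 < r) (z : Cn n) : conj (mol n r hr z) = mol n r hr z := by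
  rw [mol_apply, Complex.conj_ofReal]

theorem mol_neg (r : ℝ) (hr : 0 < r) (z : Cn n) : mol n r hr (-z) = mol n r hr z := by
  rw [mol_apply, mol_apply, ContDiffBump.normed_neg]

theorem norm_mol (r : ℝ) (hr : 0 < r) (z : Cn n) : ‖mol n r hr z‖ = (bump r hr).normed volume z := by
  rw [mol_apply, Complex.norm_real, Real.norm_of_nonneg (ContDiffBump.nonneg_normed _ _)]

theorem integral_norm_mol (r : ℝ) (hr : 0 < r) : ∫ z, ‖mol n r hr z‖ = 1 := by
  simp only [norm_mol]
  exact (bump r hr).integral_normed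

theorem integral_mol (r : ℝ) (hr : 0 < r) : ∫ z, mol n r hr z = 1 := by
  have h : ∫ z : Cn n, (((bump r hr).normed volume z : ℝ) : ℂ) = ((∫ z : Cn n, (bump r hr).normed volume z : ℝ) : ℂ) :=
    integral_ofReal
  rw [(bump r hr).integral_normed] at h
  exact h.trans (by simp)

theorem mol_eq_zero (r : ℝ) (hr : 0 < r) {z : Cn n} (hz : z ∉ Metric.ball (0 : Cn n) r) : mol n r hr z = 0 := by
  rw [mol_apply]
  have h : z ∉ Function.support ((bump (n := n) r hr).normed volume) := by
    rw [ContDiffBump.support_normed_eq]; exact hz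
  rw [Function.notMem_support.1 h]
  simp

/-- The mollification operators. -/
def J (n : ℕ) (k : ℕ) : TF (Cn n) →ₗ[ℂ] TF (Cn n) := convL (mol n (1 / (k + 1)) (by positivity))

theorem norm_J_le (k : ℕ) (v : TF (Cn n)) : ‖J n k v‖ ≤ 1 * ‖v‖ := by
  refine (norm_convL_le _ _).trans ?_
  rw [integral_norm_mol]

theorem bdd_J (k : ℕ) : Bdd (J n k) := ⟨1, norm_J_le k⟩

theorem inner_J (k : ℕ) (v w : TF (Cn n)) : inner ℂ (J n k v) w = inner ℂ v (J n k w) :=
  inner_convL_symm (mol_conj _ _) (mol_neg _ _) v w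

theorem dL_J (j : Fin n) (k : ℕ) (v : TF (Cn n)) : dL j (J n k v) = J n k (dL j v) := dL_convL _ _ _

theorem dbL_J (j : Fin n) (k : ℕ) (v : TF (Cn n)) : dbL j (J n k v) = J n k (dbL j v) := dbL_convL _ _ _

theorem bdd_dL_J (j : Fin n) (k : ℕ) : Bdd (dL j ∘ₗ J n k) := bdd_dL_convL j _

theorem bdd_dbL_J (j : Fin n) (k : ℕ) : Bdd (dbL j ∘ₗ J n k) := bdd_dbL_convL j _

/-- A cutoff function. -/
def cutB (R : ℝ) (hR : 0 < R) : ContDiffBump (0 : Cn n) := ⟨R, R + 1, hR, by linarith⟩

/-- A cutoff function. -/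
def cut (n : ℕ) (R : ℝ) (hR : 0 < R) : TF (Cn n) :=
  TF.mk (fun z => (((cutB R hR : ContDiffBump (0 : Cn n)) z : ℝ) : ℂ))
  ((smE_self_iff _).2 (Complex.ofRealCLM.contDiff.comp (cutB R hR).contDiff))
  ((cutB R hR).hasCompactSupport.comp_left (g := fun x : ℝ => (x : ℂ)) (by simp))

theorem cut_eq_one {R : ℝ} (hR : 0 < R) {z : Cn n} (hz : z ∈ Metric.closedBall (0 : Cn n) R) :
    cut n R hR z = 1 := by
  have h : ((cutB R hR : ContDiffBump (0 : Cn n)) z : ℝ) = 1 :=
    (cutB R hR).one_of_mem_closedBall hz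
  have h2 : cut n R hR z = (((cutB R hR : ContDiffBump (0 : Cn n)) z : ℝ) : ℂ) := rfl
  rw [h2, h]; simp

theorem norm_convL_sub_le {r : ℝ} (hr : 0 < r) (v : TF (Cn n)) {ε : ℝ}
    (h : ∀ z t, ‖t‖ < r → ‖v (z - t) - v z‖ ≤ ε) (z : Cn n) :
    ‖convL (mol n r hr) v z - v z‖ ≤ ε := by
  have h1 : v z = ∫ t, mol n r hr t * v z := by
    rw [integral_mul_const, integral_mol, one_mul]
  have h2 : convL (mol n r hr) v z - v z = ∫ t, mol n r hr t * (v (z - t) - v z) := by
    conv_lhs => rw [convL_apply, h1]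
    rw [← integral_sub (integrable_conv _ _ _)
      (((mol n r hr).cont.integrable_of_hasCompactSupport (mol n r hr).cs).mul_const _)]
    congr 1; funext t; ring
  rw [h2]
  have h3 : ε = ∫ t, ‖mol n r hr t‖ * ε := by
    rw [integral_mul_const, integral_norm_mol, one_mul]
  rw [h3]
  refine norm_integral_le_of_norm_le ?_ (Eventually.of_forall fun t => ?_)
  · exact (((mol n r hr).cont.integrable_of_hasCompactSupport (mol n r hr).cs).norm).mul_const _
  · rw [norm_mul]
    by_cases ht : t ∈ Metric.ball (0 : Cn n) r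
    · gcongr
      exact h z t (by simpa using ht)
    · rw [mol_eq_zero r hr ht]; simp

theorem tendsto_J (v : TF (Cn n)) : Tendsto (fun k => J n k v) atTop (𝓝 v) := by
  obtain ⟨R, hR⟩ := v.cs.isBounded.subset_closedBall (0 : Cn n)
  set R' : ℝ := max R 0 + 1 with hR'
  have hR'0 : 0 < R' := by positivity
  have huc : UniformContinuous v.fn := v.cs.uniformContinuous_of_continuous v.cont
  rw [Metric.tendsto_atTop]
  intro ε hε
  set B : ℝ := ‖cut n R' hR'0‖ with hB
  have hB0 : 0 ≤ B := norm_nonneg _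
  obtain ⟨δ, hδ, hδ'⟩ := Metric.uniformContinuous_iff.1 huc (ε / (B + 1)) (by positivity)
  obtain ⟨N, hN⟩ := exists_nat_one_div_lt hδ
  refine ⟨N, fun k hk => ?_⟩
  have hkN : (1 : ℝ) / (k + 1) ≤ 1 / (N + 1) := by
    gcongr
  have h1 : ∀ z, ‖J n k v z - v z‖ ≤ ε / (B + 1) := by
    intro z
    refine norm_convL_sub_le _ v (fun z t ht => ?_) z
    rw [← dist_eq_norm]
    refine (hδ' ?_).le
    rw [dist_eq_norm]
    have : z - t - z = - t := by abel
    rw [this, norm_neg]
    exact ht.trans_le (hkN.trans hN.le)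
  have h2 : ‖J n k v - v‖ ≤ (ε / (B + 1)) * B := by
    refine norm_le_of_pointwise (by positivity) fun z => ?_
    rw [TF.sub_apply]
    by_cases hz : z ∈ Metric.closedBall (0 : Cn n) R'
    · rw [cut_eq_one hR'0 hz]
      simpa using h1 z
    · have hz' : R' < ‖z‖ := by
        simpa using hz
      have hv : ∀ t : Cn n, ‖t‖ ≤ 1 → v (z - t) = 0 := by
        intro t ht
        by_contra hcon
        have h3 := hR (subset_tsupport _ hcon)
        rw [mem_closedBall_zero_iff] at h3
        have h4 : ‖z‖ ≤ ‖z - t‖ + ‖t‖ := by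
          calc ‖z‖ = ‖(z - t) + t‖ := by congr 1; abel
            _ ≤ _ := norm_add_le _ _
        have h5 : R ≤ max R 0 := le_max_left _ _
        linarith
      have h3 : v z = 0 := by simpa using hv 0 (by simp)
      have h4 : J n k v z = 0 := by
        have h5 : J n k v z = ∫ t, mol n (1 / (k + 1)) (by positivity) t * v (z - t) := rfl
        rw [h5]
        refine integral_eq_zero_of_ae (Eventually.of_forall fun t => ?_)
        simp only [Pi.zero_apply]
        by_cases ht : t ∈ Metric.ball (0 : Cn n) (1 / (k + 1))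
        · rw [hv t, mul_zero]
          have h6 : ‖t‖ < 1 / ((k : ℝ) + 1) := by simpa using ht
          have h7 : (1 : ℝ) / (k + 1) ≤ 1 := by
            rw [div_le_one (by positivity)]
            have : (0 : ℝ) ≤ k := Nat.cast_nonneg k
            linarith
          linarith
        · rw [mol_eq_zero _ _ ht, zero_mul]
      rw [h3, h4]
      simp only [sub_zero, norm_zero]
      positivity
  rw [dist_eq_norm]
  calc ‖J n k v - v‖ ≤ (ε / (B + 1)) * B := h2
    _ < ε := by
      rw [div_mul_eq_mul_div, div_lt_iff₀ (by positivity)]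
      nlinarith

end Groth.Agent.An.H10.Conv
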