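import Groth.Agent.An.H10.Chart

/-!
# The density lemma (Hörmander)

Weights `w1, w2, w3`. `Gam f = (w2 f_k, -w1⁻¹ ∑ ∂_k (w2² f_k), w3 (∂̄_j f_k - ∂̄_k f_j))`.
A weak solution `(F, h)` of `T* F = h`, `∂̄ F = 0` is in the closure of the range of `Gam`.
-/

set_option autoImplicit false
set_option linter.unusedSectionVars false

open scoped ContDiff Topology ComplexConjugate
open Set Filter MeasureTheory UniformSpace

noncomputable section

namespace Groth.Agent.An.H10.Dens

open Groth.Agent.An.H10.Basic Groth.Agent.An.H10.Trace Groth.Agent.An.H10.Test Groth.Agent.An.H10.Ops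
  Groth.Agent.An.H10.Conv Groth.Agent.An.H10.Chart

variable {n : ℕ} {E : Type*} [TopologicalSpace E] [RDom n E] [T2Space E]

variable (E) in
/-- The Hilbert space. -/
abbrev HE := Completion (TF E)

section Cn

/-- The unweighted graph on `ℂⁿ`. -/
def B0 (f : Fin n → TF (Cn n)) : (Fin n → HE (Cn n)) × HE (Cn n) × (Fin n → Fin n → HE (Cn n)) :=
  (fun k => (f k : HE (Cn n)), ((∑ k, dL k (f k) : TF (Cn n)) : HE (Cn n)),
    fun j k => ((dbL j (f k) - dbL k (f j) : TF (Cn n)) : HE (Cn n)))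

theorem coe_sum {V ι : Type*} [NormedAddCommGroup V] (t : Finset ι) (f : ι → V) :
    ((∑ i ∈ t, f i : V) : Completion V) = ∑ i ∈ t, (f i : Completion V) := by
  classical
  induction t using Finset.induction_on with
  | empty => simp
  | insert i t hi ih => rw [Finset.sum_insert hi, Finset.sum_insert hi, Completion.coe_add, ih]

/-- An auxiliary map. -/
def Psi (A : TF (Cn n) →ₗ[ℂ] TF (Cn n)) (B D : Fin n → TF (Cn n) →ₗ[ℂ] TF (Cn n))
    (v : Fin n → HE (Cn n)) : (Fin n → HE (Cn n)) × HE (Cn n) × (Fin n → Fin n → HE (Cn n)) :=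
  (fun k => op A (v k), ∑ k, op (B k) (v k), fun j k => op (D j) (v k) - op (D k) (v j))

theorem continuous_Psi (A : TF (Cn n) →ₗ[ℂ] TF (Cn n)) (B D : Fin n → TF (Cn n) →ₗ[ℂ] TF (Cn n)) :
    Continuous (Psi A B D) := by
  unfold Psi
  fun_prop

theorem Psi_mem_closure (A : TF (Cn n) →ₗ[ℂ] TF (Cn n)) (B D : Fin n → TF (Cn n) →ₗ[ℂ] TF (Cn n))
    (S : Set ((Fin n → HE (Cn n)) × HE (Cn n) × (Fin n → Fin n → HE (Cn n))))
    (h : ∀ f : Fin n → TF (Cn n), Psi A B D (fun k => (f k : HE (Cn n))) ∈ S) (v : Fin n → HE (Cn n)) :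
    Psi A B D v ∈ closure S := by
  have hd : DenseRange (fun (f : Fin n → TF (Cn n)) (k : Fin n) => (f k : HE (Cn n))) :=
    DenseRange.piMap (fun _ => Completion.denseRange_coe)
  exact hd.induction_on (p := fun v => Psi A B D v ∈ closure S) v
    (isClosed_closure.preimage (continuous_Psi A B D)) (fun f => subset_closure (h f))

theorem mem_closure_of_J (v : Fin n → HE (Cn n)) (ν : ℕ) :
    Psi (J n ν) (fun k => dL k ∘ₗ J n ν) (fun k => dbL k ∘ₗ J n ν) v ∈ closure (range (B0 (n := n))) := by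
  refine Psi_mem_closure (J n ν) (fun k => dL k ∘ₗ J n ν) (fun k => dbL k ∘ₗ J n ν)
    (range (B0 (n := n))) (fun f => ?_) v
  refine mem_range.2 ⟨fun k => J n ν (f k), ?_⟩
  rw [B0, Psi]
  refine Prod.ext ?_ (Prod.ext ?_ ?_)
  · funext k; exact (op_coe (bdd_J ν) (f k)).symm
  · simp only
    rw [coe_sum]
    refine Finset.sum_congr rfl fun k _ => ?_
    exact (op_coe (bdd_dL_J k ν) (f k)).symm
  · funext j k
    simp only
    rw [Completion.coe_sub]
    have h1 := op_coe (bdd_dbL_J j ν) (f k)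
    have h2 := op_coe (bdd_dbL_J k ν) (f j)
    exact congrArg₂ (· - ·) h1.symm h2.symm

theorem tendsto_op_J (u : HE (Cn n)) : Tendsto (fun ν => op (J n ν) u) atTop (𝓝 u) := by
  have h := tendsto_op (T := fun ν => J n ν) (T0 := LinearMap.id) (C := 1) (l := atTop)
    (fun i x => norm_J_le i x) (fun x => by simp) (fun x => tendsto_J x) u
  rwa [op_id] at h

theorem dens_Cn (v : Fin n → HE (Cn n)) (G : HE (Cn n)) (C : Fin n → Fin n → HE (Cn n))
    (hG : ∀ w : TF (Cn n), ∑ k, inner ℂ (v k) (dbL k w : HE (Cn n)) = - inner ℂ G (w : HE (Cn n)))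
    (hC : ∀ (j k : Fin n) (w : TF (Cn n)), inner ℂ (v k) (dL j w : HE (Cn n)) -
      inner ℂ (v j) (dL k w : HE (Cn n)) = - inner ℂ (C j k) (w : HE (Cn n))) :
    ((v, G, C) : (Fin n → HE (Cn n)) × HE (Cn n) × (Fin n → Fin n → HE (Cn n))) ∈
      closure (range (B0 (n := n))) := by
  have h1 : ∀ ν : ℕ, ((fun k => op (J n ν) (v k), op (J n ν) G, fun j k => op (J n ν) (C j k)) :
      (Fin n → HE (Cn n)) × HE (Cn n) × (Fin n → Fin n → HE (Cn n))) ∈ closure (range (B0 (n := n))) := by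
    intro ν
    have h2 := mem_closure_of_J v ν
    have h3 : ∑ k, op (dL k ∘ₗ J n ν) (v k) = op (J n ν) G := by
      refine eq_of_inner_coe fun w => ?_
      rw [sum_inner, op_inner_coe (bdd_J ν) (fun x y => inner_J ν x y)]
      have h4 : ∀ k, inner ℂ (op (dL k ∘ₗ J n ν) (v k)) (w : HE (Cn n)) =
          - inner ℂ (v k) (dbL k (J n ν w) : HE (Cn n)) := by
        intro k
        rw [op_inner_coe (T' := fun w => - dbL k (J n ν w)) (bdd_dL_J k ν)]
        · rw [Completion.coe_neg, inner_neg_right]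
        · intro x y
          rw [LinearMap.comp_apply, inner_dL, inner_neg_right]
          rw [inner_J, dbL_J]
      simp only [h4]
      rw [Finset.sum_neg_distrib, hG, neg_neg]
    have h5 : ∀ j k, op (dbL j ∘ₗ J n ν) (v k) - op (dbL k ∘ₗ J n ν) (v j) = op (J n ν) (C j k) := by
      intro j k
      refine eq_of_inner_coe fun w => ?_
      have h4 : ∀ j k, inner ℂ (op (dbL j ∘ₗ J n ν) (v k)) (w : HE (Cn n)) =
          - inner ℂ (v k) (dL j (J n ν w) : HE (Cn n)) := by
        intro j k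
        rw [op_inner_coe (T' := fun w => - dL j (J n ν w)) (bdd_dbL_J j ν)]
        · rw [Completion.coe_neg, inner_neg_right]
        · intro x y
          rw [LinearMap.comp_apply, inner_dbL, inner_neg_right]
          rw [inner_J, dL_J]
      rw [inner_sub_left, h4, h4, op_inner_coe (bdd_J ν) (fun x y => inner_J ν x y)]
      have h6 := hC j k (J n ν w)
      linear_combination -h6
    rw [Psi, h3] at h2
    simp only [h5] at h2
    exact h2
  refine isClosed_closure.mem_of_tendsto (b := atTop) ?_ (Eventually.of_forall h1)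
  rw [nhds_prod_eq, nhds_prod_eq]
  refine Tendsto.prodMk ?_ (Tendsto.prodMk ?_ ?_)
  · exact tendsto_pi_nhds.2 fun k => tendsto_op_J (v k)
  · exact tendsto_op_J G
  · exact tendsto_pi_nhds.2 fun j => tendsto_pi_nhds.2 fun k => tendsto_op_J (C j k)

end Cn

theorem SmE.inv {F : E → ℂ} (hF : SmE F) (h : ∀ e, F e ≠ 0) : SmE (fun e => (F e)⁻¹) := fun e =>
  (hF e).inv (by simp only [Function.comp_apply]; exact h _)

theorem SmE.pow {F : E → ℂ} (hF : SmE F) (m : ℕ) : SmE (fun e => (F e) ^ m) := fun e => (hF e).pow m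

variable (E) in
/-- Weights. -/
structure Wt where
  w1 : E → ℂ
  w2 : E → ℂ
  w3 : E → ℂ
  s1 : SmE w1
  s2 : SmE w2
  s3 : SmE w3
  z1 : ∀ e, w1 e ≠ 0
  z2 : ∀ e, w2 e ≠ 0
  z3 : ∀ e, w3 e ≠ 0
  r1 : ∀ e, conj (w1 e) = w1 e
  r2 : ∀ e, conj (w2 e) = w2 e
  r3 : ∀ e, conj (w3 e) = w3 e

namespace Wt

variable (W : Wt E)

theorem i1 : SmE (fun e => (W.w1 e)⁻¹) := SmE.inv W.s1 W.z1
theorem i2 : SmE (fun e => (W.w2 e)⁻¹) := SmE.inv W.s2 W.z2

/-- First component. -/
def G1 (f : Fin n → TF E) (k : Fin n) : TF E := mulL W.w2 W.s2 (f k)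

/-- Second component, `e^{-φ1/2} T* f`. -/
def G2 (f : Fin n → TF E) : TF E :=
  - ∑ k, mulL _ W.i1 (dL k (mulL W.w2 W.s2 (mulL W.w2 W.s2 (f k))))

/-- Third component, `e^{-φ3/2} ∂̄ f`. -/
def G3 (f : Fin n → TF E) (j k : Fin n) : TF E := mulL W.w3 W.s3 (dbL j (f k) - dbL k (f j))

/-- The weighted graph. -/
def Gam (f : Fin n → TF E) : (Fin n → HE E) × HE E × (Fin n → Fin n → HE E) :=
  (fun k => (W.G1 f k : HE E), (W.G2 f : HE E), fun j k => (W.G3 f j k : HE E))

/-- The weak conditions. -/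
def WK (F : Fin n → HE E) : Prop := ∀ (j k : Fin n) (u : TF E),
  inner ℂ (F k) (mulL _ W.i2 (dL j u) : HE E) = inner ℂ (F j) (mulL _ W.i2 (dL k u) : HE E)

/-- The weak conditions. -/
def WT (F : Fin n → HE E) (h : HE E) : Prop := ∀ u : TF E,
  ∑ k, inner ℂ (F k) (mulL W.w2 W.s2 (dbL k u) : HE E) = inner ℂ h (mulL W.w1 W.s1 u : HE E)

end Wt

section algebra

theorem mulT_add (a b : TF E) : mulT (a + b) = mulT a + mulT b := by
  refine LinearMap.ext fun F => TF.ext fun e => ?_
  rw [LinearMap.add_apply, mulL_apply, TF.add_apply, TF.add_apply, mulL_apply, mulL_apply]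
  ring

theorem op_mulT_add (a b : TF E) (u : HE E) : op (mulT (a + b)) u = op (mulT a) u + op (mulT b) u :=
  ext_coe (A := op (mulT (a + b))) (B := op (mulT a) + op (mulT b)) (fun x => by
    rw [_root_.add_apply, op_coe (bdd_mulT _), op_coe (bdd_mulT _), op_coe (bdd_mulT _),
      mulT_add, LinearMap.add_apply, Completion.coe_add]) u

theorem op_mulT_sub (a b : TF E) (u : HE E) : op (mulT (a - b)) u = op (mulT a) u - op (mulT b) u := by
  have h := op_mulT_add (a - b) b u
  rw [sub_add_cancel] at h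
  rw [h]; abel

theorem op_mulT_zero (u : HE E) : op (mulT (0 : TF E)) u = 0 := by
  have h := op_mulT_add (0 : TF E) 0 u
  rw [add_zero] at h
  simpa using h

theorem op_mulT_sum {ι : Type*} (t : Finset ι) (a : ι → TF E) (u : HE E) :
    op (mulT (∑ i ∈ t, a i)) u = ∑ i ∈ t, op (mulT (a i)) u := by
  classical
  induction t using Finset.induction_on with
  | empty => simp only [Finset.sum_empty]; exact op_mulT_zero u
  | insert i t hi ih => rw [Finset.sum_insert hi, Finset.sum_insert hi, op_mulT_add, ih]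

end algebra

end Groth.Agent.An.H10.Dens
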