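import Groth.Agent.An.H10.Dens

/-!
# The density lemma, continued
-/

set_option autoImplicit false
set_option linter.unusedSectionVars false

open scoped ContDiff Topology ComplexConjugate
open Set Filter MeasureTheory UniformSpace

noncomputable section

namespace Groth.Agent.An.H10.Dens2

open Groth.Agent.An.H10.Basic Groth.Agent.An.H10.Trace Groth.Agent.An.H10.Test Groth.Agent.An.H10.Ops
  Groth.Agent.An.H10.Conv Groth.Agent.An.H10.Chart Groth.Agent.An.H10.Dens

variable {n : ℕ} {E : Type*} [TopologicalSpace E] [RDom n E] [T2Space E]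

section leibniz

theorem dL_mulT (k : Fin n) (a b : TF E) : dL k (mulT a b) = mulT (dL k a) b + mulT a (dL k b) :=
  TF.ext fun e => d_mul k a.sm b.sm e

theorem dbL_mulT (k : Fin n) (a b : TF E) : dbL k (mulT a b) = mulT (dbL k a) b + mulT a (dbL k b) :=
  TF.ext fun e => db_mul k a.sm b.sm e

theorem mulL_XL {a : E → ℂ} {ha : SmE a} (θ : TF E) (v : TF (Cn n)) :
    mulL a ha (XL θ v) = XL (mulL a ha θ) v := TF.ext fun e => by
  rw [mulL_apply, XL_apply, XL_apply, mulL_apply]; ring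

theorem conj_mulL {a : E → ℂ} {ha : SmE a} (hr : ∀ e, conj (a e) = a e) (θ : TF E) :
    TF.conj (mulL a ha θ) = mulL a ha (TF.conj θ) := TF.ext fun e => by
  rw [TF.conj_apply, mulL_apply, mulL_apply, TF.conj_apply, map_mul, hr]

theorem conj_inv {a : E → ℂ} (hr : ∀ e, conj (a e) = a e) (e : E) : conj ((a e)⁻¹) = (a e)⁻¹ := by
  rw [map_inv₀, hr]

theorem dL_zero_of {k : Fin n} {θ : TF E} {x : E} (hx : x ∉ tsupport θ.fn) : dL k θ x = 0 := by
  rw [dL_apply]; simp [d, support_fd_subset θ.fn x hx]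

theorem dbL_zero_of {k : Fin n} {θ : TF E} {x : E} (hx : x ∉ tsupport θ.fn) : dbL k θ x = 0 := by
  rw [dbL_apply]; simp [db, support_fd_subset θ.fn x hx]

theorem tsupport_mulL {a : E → ℂ} {ha : SmE a} (θ : TF E) : tsupport (mulL a ha θ).fn ⊆ tsupport θ.fn := by
  refine closure_mono fun e he => ?_
  intro h0
  exact he (by rw [mulL_apply, h0, mul_zero])

theorem zero_of {θ : TF E} {x : E} (hx : x ∉ tsupport θ.fn) : θ x = 0 := image_eq_zero_of_notMem_tsupport hx

end leibniz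

section PX

variable {S : Set E} (hS : InjOn (pr : E → Cn n) S)

include hS

theorem PX {x : TF E} (hx : ∀ e, e ∉ S → x e = 0) (u : HE E) (w : TF (Cn n)) :
    inner ℂ (op (PL x) u) (w : HE (Cn n)) = inner ℂ u (XL (TF.conj x) w : HE E) :=
  op_inner_coe (bdd_PL hS hx) (fun u v => inner_PL hS hx u v) u w

theorem op_XL_PL {a b : TF E} (ha : ∀ e, e ∉ S → a e = 0) (hb : ∀ e, e ∉ S → b e = 0) (u : HE E) :
    op (XL a) (op (PL b) u) = op (mulT (mulT a b)) u := by
  rw [op_comp (bdd_XL hS ha) (bdd_PL hS hb)]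
  congr 1
  congr 1
  exact LinearMap.ext fun u => XL_PL hS hb ha u

end PX

/-- An auxiliary map. -/
def Phi (a : TF E) (b : Fin n → TF E) (c : TF E) (D : Fin n → TF E) (g : TF E)
    (y : (Fin n → HE (Cn n)) × HE (Cn n) × (Fin n → Fin n → HE (Cn n))) :
    (Fin n → HE E) × HE E × (Fin n → Fin n → HE E) :=
  (fun k => op (XL a) (y.1 k), -(∑ k, op (XL (b k)) (y.1 k)) - op (XL c) y.2.1,
    fun j k => op (XL (D j)) (y.1 k) - op (XL (D k)) (y.1 j) + op (XL g) (y.2.2 j k))

theorem continuous_Phi (a : TF E) (b : Fin n → TF E) (c : TF E) (D : Fin n → TF E) (g : TF E) :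
    Continuous (Phi a b c D g) := by
  unfold Phi
  fun_prop

variable (W : Wt E)

/-- The vector `X_κ(F, h)`. -/
def Xv (κ : TF E) (F : Fin n → HE E) (h : HE E) : (Fin n → HE E) × HE E × (Fin n → Fin n → HE E) :=
  (fun k => op (mulT κ) (F k),
    op (mulT κ) h - ∑ k, op (mulT (mulL _ W.i1 (mulL W.w2 W.s2 (dL k κ)))) (F k),
    fun j k => op (mulT (mulL W.w3 W.s3 (mulL _ W.i2 (dbL j κ)))) (F k) -
      op (mulT (mulL W.w3 W.s3 (mulL _ W.i2 (dbL k κ)))) (F j))

theorem Phi_B0 {θ : TF E} (hS : InjOn (pr : E → Cn n) (tsupport θ.fn)) (f : Fin n → TF (Cn n)) :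
    Phi (mulL W.w2 W.s2 θ) (fun k => mulL _ W.i1 (dL k (mulL W.w2 W.s2 (mulL W.w2 W.s2 θ))))
      (mulL _ W.i1 (mulL W.w2 W.s2 (mulL W.w2 W.s2 θ))) (fun j => mulL W.w3 W.s3 (dbL j θ))
      (mulL W.w3 W.s3 θ) (B0 f) = W.Gam (fun k => XL θ (f k)) := by
  have h2 : ∀ e, e ∉ tsupport θ.fn → mulL W.w2 W.s2 θ e = 0 := fun e he => by
    rw [mulL_apply, zero_of he, mul_zero]
  have hb : ∀ k : Fin n, ∀ e, e ∉ tsupport θ.fn →
      (mulL _ W.i1 (dL k (mulL W.w2 W.s2 (mulL W.w2 W.s2 θ)))) e = 0 := fun k e he => by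
    rw [mulL_apply, dL_zero_of (fun h => he (tsupport_mulL _ (tsupport_mulL _ h))), mul_zero]
  have hc : ∀ e, e ∉ tsupport θ.fn → (mulL _ W.i1 (mulL W.w2 W.s2 (mulL W.w2 W.s2 θ))) e = 0 := fun e he => by
    rw [mulL_apply, mulL_apply, mulL_apply, zero_of he]; ring
  have hD : ∀ j : Fin n, ∀ e, e ∉ tsupport θ.fn → (mulL W.w3 W.s3 (dbL j θ)) e = 0 := fun k e he => by
    rw [mulL_apply, dbL_zero_of he, mul_zero]
  have hg : ∀ e, e ∉ tsupport θ.fn → mulL W.w3 W.s3 θ e = 0 := fun e he => by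
    rw [mulL_apply, zero_of he, mul_zero]
  rw [Phi, B0, Wt.Gam]
  refine Prod.ext ?_ (Prod.ext ?_ ?_)
  · funext k
    simp only
    rw [op_coe (bdd_XL hS h2), Wt.G1, mulL_XL]
  · simp only
    rw [op_coe (bdd_XL hS hc), Wt.G2, Completion.coe_neg, coe_sum, map_sum, coe_sum, ← Finset.sum_neg_distrib,
      ← Finset.sum_neg_distrib, ← Finset.sum_sub_distrib]
    refine Finset.sum_congr rfl fun k _ => ?_
    rw [op_coe (bdd_XL hS (hb k)), mulL_XL, mulL_XL, dL_XL, map_add, mulL_XL, mulL_XL, Completion.coe_add]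
    abel
  · funext j k
    simp only
    rw [op_coe (bdd_XL hS (hD j)), op_coe (bdd_XL hS (hD k)), op_coe (bdd_XL hS hg), Wt.G3, dbL_XL, dbL_XL,
      ← Completion.coe_sub, ← Completion.coe_add]
    congr 1
    refine TF.ext fun e => ?_
    simp only [mulL_apply, XL_apply, TF.add_apply, TF.sub_apply]
    ring

theorem dens_local {F : Fin n → HE E} {h : HE E} (hK : W.WK F) (hT : W.WT F h) {κ : TF E} (hκ : Small κ) :
    Xv W κ F h ∈ closure (range W.Gam) := by
  obtain ⟨θ, hS, hθκ⟩ := hκ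
  set S : Set E := tsupport θ.fn with hSdef
  have hθκ' : ∀ e, θ e * κ e = κ e := fun e => congrArg (fun f : TF E => f e) hθκ
  have hκS : tsupport κ.fn ⊆ S := by
    refine closure_mono fun e he => ?_
    intro h0
    refine he ?_
    rw [← hθκ' e, h0, zero_mul]
  have hz : ∀ e, e ∉ S → κ e = 0 := fun e he => zero_of (fun h => he (hκS h))
  set κ1 : TF E := mulL _ W.i2 κ with hκ1
  set κ2 : TF E := mulL _ W.i2 κ1 with hκ2
  have hκ1S : tsupport κ1.fn ⊆ S := (tsupport_mulL _).trans hκS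
  have hκ2S : tsupport κ2.fn ⊆ S := (tsupport_mulL _).trans hκ1S
  have z1 : ∀ e, e ∉ S → κ1 e = 0 := fun e he => zero_of (fun h => he (hκ1S h))
  have z2 : ∀ e, e ∉ S → κ2 e = 0 := fun e he => zero_of (fun h => he (hκ2S h))
  have z3 : ∀ e, e ∉ S → mulL W.w1 W.s1 κ2 e = 0 := fun e he => by rw [mulL_apply, z2 e he, mul_zero]
  have z4 : ∀ k : Fin n, ∀ e, e ∉ S → mulL W.w2 W.s2 (dL k κ2) e = 0 := fun k e he => by
    rw [mulL_apply, dL_zero_of (fun h => he (hκ2S h)), mul_zero]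
  have z5 : ∀ k : Fin n, ∀ e, e ∉ S → mulL _ W.i2 (dbL k κ) e = 0 := fun k e he => by
    rw [mulL_apply, dbL_zero_of (fun h => he (hκS h)), mul_zero]
  have e1' : ∀ e, κ1 e = (W.w2 e)⁻¹ * κ e := fun e => rfl
  have e2' : ∀ e, κ2 e = (W.w2 e)⁻¹ * ((W.w2 e)⁻¹ * κ e) := fun e => rfl
  have hw2κ2 : mulL W.w2 W.s2 κ2 = κ1 := TF.ext fun e => by
    rw [mulL_apply, hκ2, mulL_apply, ← mul_assoc, mul_inv_cancel₀ (W.z2 e), one_mul]
  -- the data on `ℂⁿ`
  set v : Fin n → HE (Cn n) := fun k => op (PL κ1) (F k) with hv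
  set G : HE (Cn n) := - op (PL (mulL W.w1 W.s1 κ2)) h +
    ∑ k, op (PL (mulL W.w2 W.s2 (dL k κ2))) (F k) with hG
  set C : Fin n → Fin n → HE (Cn n) := fun j k => op (PL (mulL _ W.i2 (dbL j κ))) (F k) -
    op (PL (mulL _ W.i2 (dbL k κ))) (F j) with hC
  have h1 : ∀ w : TF (Cn n), ∑ k, inner ℂ (v k) (dbL k w : HE (Cn n)) = - inner ℂ G (w : HE (Cn n)) := by
    intro w
    have e1 := hT (XL (TF.conj κ2) w)
    have e2 : ∀ k : Fin n, mulL W.w2 W.s2 (dbL k (XL (TF.conj κ2) w)) =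
        XL (TF.conj (mulL W.w2 W.s2 (dL k κ2))) w + XL (TF.conj κ1) (dbL k w) := by
      intro k
      rw [dbL_XL, map_add, mulL_XL, mulL_XL, dbL_conj, ← conj_mulL W.r2, ← conj_mulL W.r2, hw2κ2]
    simp only [e2, Completion.coe_add, inner_add_right, Finset.sum_add_distrib] at e1
    rw [mulL_XL, ← conj_mulL W.r1] at e1
    have e3 : ∀ k, inner ℂ (v k) (dbL k w : HE (Cn n)) = inner ℂ (F k) (XL (TF.conj κ1) (dbL k w) : HE E) :=
      fun k => PX hS z1 (F k) (dbL k w)
    simp only [e3]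
    rw [hG, inner_add_left, inner_neg_left, sum_inner, PX hS z3]
    have e4 : ∀ k, inner ℂ (op (PL (mulL W.w2 W.s2 (dL k κ2))) (F k)) (w : HE (Cn n)) =
        inner ℂ (F k) (XL (TF.conj (mulL W.w2 W.s2 (dL k κ2))) w : HE E) := fun k => PX hS (z4 k) (F k) w
    simp only [e4]
    linear_combination e1
  have h2 : ∀ (j k : Fin n) (w : TF (Cn n)), inner ℂ (v k) (dL j w : HE (Cn n)) -
      inner ℂ (v j) (dL k w : HE (Cn n)) = - inner ℂ (C j k) (w : HE (Cn n)) := by
    intro j k w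
    have e1 := hK j k (XL (TF.conj κ) w)
    have e2 : ∀ j : Fin n, mulL _ W.i2 (dL j (XL (TF.conj κ) w)) =
        XL (TF.conj (mulL _ W.i2 (dbL j κ))) w + XL (TF.conj κ1) (dL j w) := by
      intro j
      rw [dL_XL, map_add, mulL_XL, mulL_XL, dL_conj, ← conj_mulL (conj_inv W.r2),
        ← conj_mulL (conj_inv W.r2)]
    rw [e2, e2, Completion.coe_add, Completion.coe_add, inner_add_right, inner_add_right] at e1
    rw [hC]
    simp only
    rw [inner_sub_left, PX hS (z5 j), PX hS (z5 k), hv]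
    simp only
    rw [PX hS z1, PX hS z1]
    linear_combination e1
  have h3 := dens_Cn v G C h1 h2
  -- transport to `E`
  set a : TF E := mulL W.w2 W.s2 θ with ha
  set b : Fin n → TF E := fun k => mulL _ W.i1 (dL k (mulL W.w2 W.s2 (mulL W.w2 W.s2 θ))) with hb
  set c : TF E := mulL _ W.i1 (mulL W.w2 W.s2 (mulL W.w2 W.s2 θ)) with hc
  set D : Fin n → TF E := fun j => mulL W.w3 W.s3 (dbL j θ) with hD
  set g : TF E := mulL W.w3 W.s3 θ with hg
  have ea : ∀ e, a e = W.w2 e * θ e := fun e => rfl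
  have eb : ∀ k e, b k e = (W.w1 e)⁻¹ * dL k (mulL W.w2 W.s2 (mulL W.w2 W.s2 θ)) e := fun k e => rfl
  have ec : ∀ e, c e = (W.w1 e)⁻¹ * (W.w2 e * (W.w2 e * θ e)) := fun e => rfl
  have eD : ∀ j e, D j e = W.w3 e * dbL j θ e := fun j e => rfl
  have eg : ∀ e, g e = W.w3 e * θ e := fun e => rfl
  have za : ∀ e, e ∉ S → a e = 0 := fun e he => by rw [ha, mulL_apply, zero_of he, mul_zero]
  have zb : ∀ k : Fin n, ∀ e, e ∉ S → b k e = 0 := fun k e he => by
    rw [hb, mulL_apply, dL_zero_of (fun h => he (tsupport_mulL _ (tsupport_mulL _ h))), mul_zero]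
  have zc : ∀ e, e ∉ S → c e = 0 := fun e he => by
    rw [hc, mulL_apply, mulL_apply, mulL_apply, zero_of he]; ring
  have zD : ∀ j : Fin n, ∀ e, e ∉ S → D j e = 0 := fun k e he => by
    rw [hD, mulL_apply, dbL_zero_of he, mul_zero]
  have zg : ∀ e, e ∉ S → g e = 0 := fun e he => by rw [hg, mulL_apply, zero_of he, mul_zero]
  have h4 : Phi a b c D g (v, G, C) ∈ closure (range W.Gam) := by
    have h5 : MapsTo (Phi a b c D g) (range (B0 (n := n))) (range W.Gam) := by
      rintro _ ⟨f, rfl⟩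
      exact ⟨_, (Phi_B0 W hS f).symm⟩
    exact map_mem_closure (continuous_Phi a b c D g) h3 h5
  have h6 : Phi a b c D g (v, G, C) = Xv W κ F h := by
    rw [Phi, Xv]
    refine Prod.ext ?_ (Prod.ext ?_ ?_)
    · funext k
      simp only [hv]
      rw [op_XL_PL hS za z1]
      congr 1
      congr 1
      congr 1
      refine TF.ext fun e => ?_
      rw [mulL_apply, ea, e1']
      have := hθκ' e
      have hz2 := W.z2 e
      field_simp
      linear_combination this
    · simp only [hv, hG]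
      rw [map_add, map_neg, map_sum, op_XL_PL hS zc z3]
      have e1 : ∀ k, op (XL (b k)) (op (PL κ1) (F k)) = op (mulT (mulT (b k) κ1)) (F k) :=
        fun k => op_XL_PL hS (zb k) z1 _
      have e2 : ∀ k, op (XL c) (op (PL (mulL W.w2 W.s2 (dL k κ2))) (F k)) =
          op (mulT (mulT c (mulL W.w2 W.s2 (dL k κ2)))) (F k) := fun k => op_XL_PL hS zc (z4 k) _
      simp only [e1, e2]
      have e3 : mulT c (mulL W.w1 W.s1 κ2) = κ := by
        refine TF.ext fun e => ?_
        rw [mulL_apply, ec, mulL_apply, e2']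
        have := hθκ' e
        have hz1 := W.z1 e
        have hz2 := W.z2 e
        field_simp
        linear_combination this
      have e4 : ∀ k : Fin n, mulL _ W.i1 (mulL W.w2 W.s2 (dL k κ)) =
          mulT (b k) κ1 + mulT c (mulL W.w2 W.s2 (dL k κ2)) := by
        intro k
        have e5 : κ = mulT (mulL W.w2 W.s2 (mulL W.w2 W.s2 θ)) κ2 := by
          refine TF.ext fun e => ?_
          rw [mulL_apply, mulL_apply, mulL_apply, e2']
          have := hθκ' e
          have hz2 := W.z2 e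
          field_simp
          linear_combination -this
        conv_lhs => rw [e5]
        rw [dL_mulT, map_add, map_add]
        congr 1
        · refine TF.ext fun e => ?_
          simp only [mulL_apply, eb, e1', e2']
          have hz2 := W.z2 e
          field_simp
        · refine TF.ext fun e => ?_
          simp only [mulL_apply, ec]
          ring
      rw [e3]
      simp only [e4, op_mulT_add, Finset.sum_add_distrib]
      abel
    · funext j k
      simp only [hv, hC]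
      rw [map_sub, op_XL_PL hS (zD j) z1, op_XL_PL hS (zD k) z1, op_XL_PL hS zg (z5 j), op_XL_PL hS zg (z5 k)]
      have e4 : ∀ j : Fin n, mulL W.w3 W.s3 (mulL _ W.i2 (dbL j κ)) =
          mulT (D j) κ1 + mulT g (mulL _ W.i2 (dbL j κ)) := by
        intro j
        have e5 := dbL_mulT j θ κ
        rw [hθκ] at e5
        refine TF.ext fun e => ?_
        have e6 : dbL j κ e = dbL j θ e * κ e + θ e * dbL j κ e := congrArg (fun f : TF E => f e) e5
        simp only [TF.add_apply, mulL_apply, eg, eD, e1']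
        linear_combination (W.w3 e * (W.w2 e)⁻¹) * e6
      rw [e4 j, e4 k, op_mulT_add, op_mulT_add]
      abel
  rwa [h6] at h4

end Groth.Agent.An.H10.Dens2
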