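import Groth.Agent.An.H10.Dens2

/-!
# The density lemma: globalization
-/

set_option autoImplicit false
set_option linter.unusedSectionVars false

open scoped ContDiff Topology ComplexConjugate
open Set Filter MeasureTheory UniformSpace

noncomputable section

namespace Groth.Agent.An.H10.Dens3

open Groth.Agent.An.H10.Basic Groth.Agent.An.H10.Trace Groth.Agent.An.H10.Test Groth.Agent.An.H10.Ops
  Groth.Agent.An.H10.Conv Groth.Agent.An.H10.Chart Groth.Agent.An.H10.Dens Groth.Agent.An.H10.Dens2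

variable {n : ℕ} {E : Type*} [TopologicalSpace E] [RDom n E] [T2Space E] (W : Wt E)

theorem Gam_add (f g : Fin n → TF E) : W.Gam (f + g) = W.Gam f + W.Gam g := by
  rw [Wt.Gam, Wt.Gam, Wt.Gam]
  refine Prod.ext ?_ (Prod.ext ?_ ?_)
  · funext k
    change ((W.G1 (f + g) k : TF E) : HE E) = (W.G1 f k : HE E) + (W.G1 g k : HE E)
    rw [← Completion.coe_add, Wt.G1, Wt.G1, Wt.G1, Pi.add_apply, map_add]
  · change ((W.G2 (f + g) : TF E) : HE E) = (W.G2 f : HE E) + (W.G2 g : HE E)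
    rw [← Completion.coe_add, Wt.G2, Wt.G2, Wt.G2, ← neg_add, ← Finset.sum_add_distrib]
    simp only [Pi.add_apply, map_add]
  · funext j k
    change ((W.G3 (f + g) j k : TF E) : HE E) = (W.G3 f j k : HE E) + (W.G3 g j k : HE E)
    rw [← Completion.coe_add, Wt.G3, Wt.G3, Wt.G3, Pi.add_apply, Pi.add_apply, map_add, map_add]
    congr 1
    refine TF.ext fun e => ?_
    simp only [mulL_apply, TF.add_apply, TF.sub_apply]
    ring

theorem Gam_zero : W.Gam 0 = 0 := by
  have h := Gam_add W 0 0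
  rw [add_zero] at h
  exact (left_eq_add.1 h)

theorem closure_add {x y : (Fin n → HE E) × HE E × (Fin n → Fin n → HE E)}
    (hx : x ∈ closure (range W.Gam)) (hy : y ∈ closure (range W.Gam)) : x + y ∈ closure (range W.Gam) := by
  refine map_mem_closure₂ continuous_add hx hy ?_
  rintro _ ⟨f, rfl⟩ _ ⟨g, rfl⟩
  exact ⟨f + g, Gam_add W f g⟩

theorem closure_zero : (0 : (Fin n → HE E) × HE E × (Fin n → Fin n → HE E)) ∈ closure (range W.Gam) :=
  subset_closure ⟨0, Gam_zero W⟩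

theorem closure_sum {ι : Type*} (t : Finset ι) {x : ι → (Fin n → HE E) × HE E × (Fin n → Fin n → HE E)}
    (hx : ∀ i ∈ t, x i ∈ closure (range W.Gam)) : ∑ i ∈ t, x i ∈ closure (range W.Gam) := by
  classical
  induction t using Finset.induction_on with
  | empty => rw [Finset.sum_empty]; exact closure_zero W
  | insert i t hi ih =>
    rw [Finset.sum_insert hi]
    exact closure_add W (hx i (Finset.mem_insert_self i t))
      (ih fun j hj => hx j (Finset.mem_insert_of_mem hj))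

theorem Xv_add (κ κ' : TF E) (F : Fin n → HE E) (h : HE E) :
    Xv W (κ + κ') F h = Xv W κ F h + Xv W κ' F h := by
  rw [Xv, Xv, Xv]
  refine Prod.ext ?_ (Prod.ext ?_ ?_)
  · funext k
    exact op_mulT_add κ κ' (F k)
  · simp only [map_add, op_mulT_add, Finset.sum_add_distrib, Prod.snd_add, Prod.fst_add]
    abel
  · funext j k
    simp only [map_add, op_mulT_add, Prod.snd_add, Pi.add_apply]
    abel

theorem Xv_zero (F : Fin n → HE E) (h : HE E) : Xv W 0 F h = 0 := by
  have h := Xv_add W 0 0 F h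
  rw [add_zero] at h
  exact (left_eq_add.1 h)

theorem Xv_sum {ι : Type*} (t : Finset ι) (κ : ι → TF E) (F : Fin n → HE E) (h : HE E) :
    Xv W (∑ i ∈ t, κ i) F h = ∑ i ∈ t, Xv W (κ i) F h := by
  classical
  induction t using Finset.induction_on with
  | empty => rw [Finset.sum_empty, Finset.sum_empty]; exact Xv_zero W F h
  | insert i t hi ih => rw [Finset.sum_insert hi, Finset.sum_insert hi, Xv_add, ih]

theorem Xv_mem {F : Fin n → HE E} {h : HE E} (hK : W.WK F) (hT : W.WT F h) (κ : TF E) :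
    Xv W κ F h ∈ closure (range W.Gam) := by
  obtain ⟨t, f, hf, rfl⟩ := exists_partition κ
  rw [Xv_sum]
  exact closure_sum W t fun e he => dens_local W hK hT (hf e he)

/-- Cutoff functions adapted to the weights. -/
structure Cutoffs where
  η : ℕ → TF E
  C : ℝ
  b1 : ∀ ν e, ‖η ν e‖ ≤ C
  b2 : ∀ ν (k : Fin n) e, ‖(W.w1 e)⁻¹ * (W.w2 e * dL k (η ν) e)‖ ≤ C
  b3 : ∀ ν (k : Fin n) e, ‖W.w3 e * ((W.w2 e)⁻¹ * dbL k (η ν) e)‖ ≤ C
  ev : ∀ K : Set E, IsCompact K → ∀ᶠ ν in atTop, ∀ e ∈ K, η ν e = 1 ∧ (∀ k : Fin n, dL k (η ν) e = 0) ∧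
    (∀ k : Fin n, dbL k (η ν) e = 0)

theorem tendsto_mulT_one {a : ℕ → TF E} {C : ℝ} (h1 : ∀ ν e, ‖a ν e‖ ≤ C)
    (h2 : ∀ K : Set E, IsCompact K → ∀ᶠ ν in atTop, ∀ e ∈ K, a ν e = 1) (u : HE E) :
    Tendsto (fun ν => op (mulT (a ν)) u) atTop (𝓝 u) := by
  have h3 : ∀ (ν : ℕ) (x : TF E), ‖mulT (a ν) x‖ ≤ (max C 1) * ‖x‖ := fun ν x =>
    norm_mulL_le (le_trans zero_le_one (le_max_right _ _)) (fun e => (h1 ν e).trans (le_max_left _ _)) x
  have h := tendsto_op (T := fun ν => mulT (a ν)) (T0 := LinearMap.id) (C := max C 1) (l := atTop) h3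
    (fun x => by
      rw [LinearMap.id_apply]
      exact le_mul_of_one_le_left (norm_nonneg _) (le_max_right _ _)) ?_ u
  · rwa [op_id] at h
  · intro x
    refine tendsto_const_nhds.congr' ?_
    filter_upwards [h2 _ x.cs] with ν hν
    refine TF.ext fun e => ?_
    rw [LinearMap.id_apply, mulL_apply]
    by_cases he : e ∈ tsupport x.fn
    · rw [hν e he, one_mul]
    · rw [zero_of he, mul_zero]

theorem tendsto_mulT_zero {a : ℕ → TF E} {C : ℝ} (h1 : ∀ ν e, ‖a ν e‖ ≤ C)
    (h2 : ∀ K : Set E, IsCompact K → ∀ᶠ ν in atTop, ∀ e ∈ K, a ν e = 0) (u : HE E) :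
    Tendsto (fun ν => op (mulT (a ν)) u) atTop (𝓝 0) := by
  have h3 : ∀ (ν : ℕ) (x : TF E), ‖mulT (a ν) x‖ ≤ (max C 0) * ‖x‖ := fun ν x =>
    norm_mulL_le (le_max_right _ _) (fun e => (h1 ν e).trans (le_max_left _ _)) x
  have h := tendsto_op (T := fun ν => mulT (a ν)) (T0 := 0) (C := max C 0) (l := atTop) h3
    (fun x => by
      rw [LinearMap.zero_apply, norm_zero]
      positivity) ?_ u
  · rwa [op_zero] at h
  · intro x
    refine tendsto_const_nhds.congr' ?_
    filter_upwards [h2 _ x.cs] with ν hν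
    refine TF.ext fun e => ?_
    rw [LinearMap.zero_apply, mulL_apply, TF.zero_apply]
    by_cases he : e ∈ tsupport x.fn
    · rw [hν e he, zero_mul]
    · rw [zero_of he, mul_zero]

/-- **The density lemma.** -/
theorem dens (c : Cutoffs W) {F : Fin n → HE E} {h : HE E} (hK : W.WK F) (hT : W.WT F h) :
    ((F, h, 0) : (Fin n → HE E) × HE E × (Fin n → Fin n → HE E)) ∈ closure (range W.Gam) := by
  refine isClosed_closure.mem_of_tendsto (b := atTop) (f := fun ν => Xv W (c.η ν) F h) ?_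
    (Eventually.of_forall fun ν => Xv_mem W hK hT (c.η ν))
  have e1 : ∀ k : Fin n, ∀ u : HE E,
      Tendsto (fun ν => op (mulT (mulL _ W.i1 (mulL W.w2 W.s2 (dL k (c.η ν))))) u) atTop (𝓝 0) := by
    intro k u
    refine tendsto_mulT_zero (a := fun ν => mulL _ W.i1 (mulL W.w2 W.s2 (dL k (c.η ν)))) (C := c.C)
      (fun ν e => c.b2 ν k e) (fun K hK => ?_) u
    filter_upwards [c.ev K hK] with ν hν e he
    rw [mulL_apply, mulL_apply, (hν e he).2.1 k, mul_zero, mul_zero]
  have e2 : ∀ k : Fin n, ∀ u : HE E,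
      Tendsto (fun ν => op (mulT (mulL W.w3 W.s3 (mulL _ W.i2 (dbL k (c.η ν))))) u) atTop (𝓝 0) := by
    intro k u
    refine tendsto_mulT_zero (a := fun ν => mulL W.w3 W.s3 (mulL _ W.i2 (dbL k (c.η ν)))) (C := c.C)
      (fun ν e => c.b3 ν k e) (fun K hK => ?_) u
    filter_upwards [c.ev K hK] with ν hν e he
    rw [mulL_apply, mulL_apply, (hν e he).2.2 k, mul_zero, mul_zero]
  have e3 : ∀ u : HE E, Tendsto (fun ν => op (mulT (c.η ν)) u) atTop (𝓝 u) := fun u =>
    tendsto_mulT_one c.b1 (fun K hK => by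
      filter_upwards [c.ev K hK] with ν hν e he
      exact (hν e he).1) u
  simp only [Xv]
  rw [nhds_prod_eq, nhds_prod_eq]
  refine Tendsto.prodMk ?_ (Tendsto.prodMk ?_ ?_)
  · exact tendsto_pi_nhds.2 fun k => e3 (F k)
  · have h1 : Tendsto (fun ν => ∑ k, op (mulT (mulL _ W.i1 (mulL W.w2 W.s2 (dL k (c.η ν))))) (F k)) atTop
        (𝓝 (∑ k : Fin n, (0 : HE E))) := tendsto_finsetSum _ fun k _ => e1 k (F k)
    have h2 := (e3 h).sub h1
    simpa using h2
  · refine tendsto_pi_nhds.2 fun j => tendsto_pi_nhds.2 fun k => ?_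
    have h2 := (e2 j (F k)).sub (e2 k (F j))
    simpa using h2

end Groth.Agent.An.H10.Dens3
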