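import Groth.Agent.An.H10.Exist

/-!
# The basic estimate
-/

set_option autoImplicit false
set_option linter.unusedSectionVars false

open scoped ContDiff Topology ComplexConjugate
open Set Filter MeasureTheory UniformSpace

noncomputable section

namespace Groth.Agent.An.H10.Est

open Groth.Agent.An.H10.Basic Groth.Agent.An.H10.Trace Groth.Agent.An.H10.Test Groth.Agent.An.H10.Ops
  Groth.Agent.An.H10.Conv Groth.Agent.An.H10.Chart Groth.Agent.An.H10.Dens Groth.Agent.An.H10.Dens2
  Groth.Agent.An.H10.Dens3 Groth.Agent.An.H10.Exist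

variable {n : ℕ} {E : Type*} [TopologicalSpace E] [RDom n E] [T2Space E]

section exp

theorem SmE.exp {g : E → ℂ} (hg : SmE g) : SmE (fun e => Complex.exp (g e)) := fun e => (hg e).cexp

theorem fd_exp {g : E → ℂ} (hg : SmE g) (e : E) (v : Cn n) :
    fd (fun e => Complex.exp (g e)) e v = Complex.exp (g e) * fd g e v := by
  have h1 : HasFDerivAt (fun z => Complex.exp ((g ∘ s e) z)) (Complex.exp ((g ∘ s e) (pr e)) • fd g e) (pr e) :=
    (hg.differentiableAt e).hasFDerivAt.cexp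
  have h2 : fd (fun e => Complex.exp (g e)) e = Complex.exp ((g ∘ s e) (pr e)) • fd g e := h1.fderiv
  rw [h2]
  simp [s_pr]

theorem d_exp (k : Fin n) {g : E → ℂ} (hg : SmE g) (e : E) :
    d k (fun e => Complex.exp (g e)) e = Complex.exp (g e) * d k g e := by
  simp only [d, fd_exp hg]; ring

theorem db_exp (k : Fin n) {g : E → ℂ} (hg : SmE g) (e : E) :
    db k (fun e => Complex.exp (g e)) e = Complex.exp (g e) * db k g e := by
  simp only [db, fd_exp hg]; ring

end exp

/-- The weights attached to `φ' = 2a`, `ψ = 2b`. -/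
def wt (a b : E → ℂ) (ha : SmE a) (hb : SmE b) (ra : ∀ e, conj (a e) = a e) (rb : ∀ e, conj (b e) = b e) :
    Wt E where
  w1 := fun e => Complex.exp (b e + (b e - a e))
  w2 := fun e => Complex.exp (b e - a e)
  w3 := fun e => Complex.exp (- a e)
  s1 := SmE.exp (hb.add (hb.sub ha))
  s2 := SmE.exp (hb.sub ha)
  s3 := SmE.exp ha.neg
  z1 := fun e => Complex.exp_ne_zero _
  z2 := fun e => Complex.exp_ne_zero _
  z3 := fun e => Complex.exp_ne_zero _
  r1 := fun e => by rw [← Complex.exp_conj, map_add, map_sub, ra, rb]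
  r2 := fun e => by rw [← Complex.exp_conj, map_sub, ra, rb]
  r3 := fun e => by rw [← Complex.exp_conj, map_neg, ra]

section estimate

variable {a b : E → ℂ} (ha : SmE a) (hb : SmE b) (ra : ∀ e, conj (a e) = a e) (rb : ∀ e, conj (b e) = b e)

/-- The twisted derivative. -/
def DD (k : Fin n) (g : TF E) : TF E := dL k g - mulL _ (ha.d k) g

/-- The twisted derivative. -/
def DB (k : Fin n) (g : TF E) : TF E := dbL k g + mulL _ (ha.db k) g

include ha ra in
theorem conj_d (k : Fin n) (e : E) : conj (d k a e) = db k a e := by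
  rw [← db_conj k ha]
  congr 1
  funext x
  exact ra x

include ra in
theorem inner_DD (k : Fin n) (g h : TF E) : inner ℂ (DD ha k g) h = - inner ℂ g (DB ha k h) := by
  rw [DD, DB, inner_sub_left, inner_dL, inner_mulL, inner_add_right]
  have h1 : mulL (fun e => conj (d k a e)) (ha.d k).conj h = mulL _ (ha.db k) h := TF.ext fun e => by
    rw [mulL_apply, mulL_apply, conj_d ha ra]
  rw [h1]
  ring

include ra in
theorem inner_DD' (k : Fin n) (g h : TF E) : inner ℂ g (DD ha k h) = - inner ℂ (DB ha k g) h := by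
  rw [← inner_conj_symm, inner_DD ha ra, map_neg, inner_conj_symm]

theorem DD_DB (j k : Fin n) (g : TF E) :
    DB ha k (DD ha j g) = DD ha j (DB ha k g) - mulL (fun e => 2 * db k (d j a) e) (((ha.d j).db k).const_mul 2) g := by
  refine TF.ext fun e => ?_
  rw [TF.sub_apply, mulL_apply]
  have h1 : DB ha k (DD ha j g) e = (dbL k (dL j g) e - (db k (d j a) e * g e + d j a e * dbL k g e)) +
      db k a e * (dL j g e - d j a e * g e) := by
    have h2 : DB ha k (DD ha j g) e = dbL k (DD ha j g) e + db k a e * (DD ha j g) e := rfl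
    have h3 : dbL k (DD ha j g) e = dbL k (dL j g) e - dbL k (mulL _ (ha.d j) g) e := by
      rw [DD, map_sub]; rfl
    have h4 : dbL k (mulL _ (ha.d j) g) e = db k (d j a) e * g e + d j a e * dbL k g e :=
      db_mul k (ha.d j) g.sm e
    rw [h2, h3, h4]
    rfl
  have h5 : DD ha j (DB ha k g) e = (dL j (dbL k g) e + (d j (db k a) e * g e + db k a e * dL j g e)) -
      d j a e * (dbL k g e + db k a e * g e) := by
    have h2 : DD ha j (DB ha k g) e = dL j (DB ha k g) e - d j a e * (DB ha k g) e := rfl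
    have h3 : dL j (DB ha k g) e = dL j (dbL k g) e + dL j (mulL _ (ha.db k) g) e := by
      rw [DB, map_add]; rfl
    have h4 : dL j (mulL _ (ha.db k) g) e = d j (db k a) e * g e + db k a e * dL j g e :=
      d_mul j (ha.db k) g.sm e
    rw [h2, h3, h4]
    rfl
  rw [h1, h5, dbL_dL_comm, db_d_comm k j ha e]
  ring

theorem re_inner_ge (x y : TF E) : - (1 / 2) * ‖x - y‖ ^ 2 ≤ (inner ℂ y x).re := by
  have h := @norm_sub_sq ℂ _ _ _ _ x y
  have h2 : RCLike.re (inner ℂ x y) = (inner ℂ y x).re := inner_re_symm (𝕜 := ℂ) x y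
  rw [h2] at h
  nlinarith [sq_nonneg ‖x‖, sq_nonneg ‖y‖]

include ra in
theorem basic_identity (g : Fin n → TF E) :
    (∑ j, ∑ k, inner ℂ (g j) (mulL (fun e => 2 * db j (d k a) e) (((ha.d k).db j).const_mul 2) (g k))).re ≤
      ‖∑ j, DD ha j (g j)‖ ^ 2 + (1 / 2) * ∑ j, ∑ k, ‖DB ha j (g k) - DB ha k (g j)‖ ^ 2 := by
  have h1 : ((‖∑ j, DD ha j (g j)‖ ^ 2 : ℝ) : ℂ) = ∑ j, ∑ k, (inner ℂ (DB ha k (g j)) (DB ha j (g k)) +
      inner ℂ (g j) (mulL (fun e => 2 * db j (d k a) e) (((ha.d k).db j).const_mul 2) (g k))) := by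
    have h2 := inner_self_eq_norm_sq_to_K (𝕜 := ℂ) (∑ j, DD ha j (g j))
    push_cast
    rw [show ((‖∑ j, DD ha j (g j)‖ : ℝ) : ℂ) = ((‖∑ j, DD ha j (g j)‖ : ℝ) : ℂ) from rfl]
    refine Eq.trans (Eq.symm h2) ?_
    rw [sum_inner]
    refine Finset.sum_congr rfl fun j _ => ?_
    rw [inner_sum]
    refine Finset.sum_congr rfl fun k _ => ?_
    rw [inner_DD ha ra, DD_DB, inner_sub_right, inner_DD' ha ra]
    ring
  have h3 := congrArg Complex.re h1
  rw [Complex.ofReal_re] at h3
  simp only [Finset.sum_add_distrib, Complex.add_re] at h3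
  rw [h3]
  have h4 : - ((1 / 2) * ∑ j, ∑ k, ‖DB ha j (g k) - DB ha k (g j)‖ ^ 2) ≤
      (∑ j, ∑ k, inner ℂ (DB ha k (g j)) (DB ha j (g k))).re := by
    rw [Complex.re_sum, Finset.mul_sum, ← Finset.sum_neg_distrib]
    refine Finset.sum_le_sum fun j _ => ?_
    rw [Complex.re_sum, Finset.mul_sum, ← Finset.sum_neg_distrib]
    refine Finset.sum_le_sum fun k _ => ?_
    have := re_inner_ge (DB ha j (g k)) (DB ha k (g j))
    linarith
  linarith

theorem norm_add_sq_le_two (x y : TF E) : ‖x + y‖ ^ 2 ≤ 2 * ‖x‖ ^ 2 + 2 * ‖y‖ ^ 2 := by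
  have h := parallelogram_law_with_norm ℂ x y
  nlinarith [sq_nonneg ‖x - y‖]

theorem intE_sum {M ι : Type*} [NormedAddCommGroup M] [NormedSpace ℝ M] (t : Finset ι) {F : ι → E → M}
    (hF : ∀ i, HasCompactSupport (F i)) (hc : ∀ i, Continuous (F i)) :
    intE (fun e => ∑ i ∈ t, F i e) = ∑ i ∈ t, intE (F i) ∧ HasCompactSupport (fun e => ∑ i ∈ t, F i e) := by
  classical
  induction t using Finset.induction_on with
  | empty =>
    simp only [Finset.sum_empty]
    exact ⟨intE_zero, HasCompactSupport.zero⟩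
  | insert i t hi ih =>
    simp only [Finset.sum_insert hi]
    refine ⟨?_, (hF i).add ih.2⟩
    rw [intE_add (hF i) (hc i) ih.2 (continuous_finsetSum _ fun i _ => hc i), ih.1]

/-- Pointwise positivity implies positivity of integrals. -/
theorem positivity_int {q : Fin n → E → ℂ} (hq : ∀ j, SmE (q j)) {c : Fin n → E → ℂ} (hc : ∀ j, SmE (c j))
    {L : Fin n → Fin n → E → ℂ} (hL : ∀ j k, SmE (L j k))
    (pos : ∀ e (x : Fin n → ℂ), ∑ j, ‖q j e * x j‖ ^ 2 + 2 * ‖∑ k, c k e * x k‖ ^ 2 ≤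
      (∑ j, ∑ k, conj (x j) * (L j k e * x k)).re) (g : Fin n → TF E) :
    ∑ j, ‖mulL _ (hq j) (g j)‖ ^ 2 + 2 * ‖∑ k, mulL _ (hc k) (g k)‖ ^ 2 ≤
      (∑ j, ∑ k, inner ℂ (g j) (mulL _ (hL j k) (g k))).re := by
  have h1 : ∑ j, ‖mulL _ (hq j) (g j)‖ ^ 2 = intE (fun e => ∑ j, ‖q j e * g j e‖ ^ 2) := by
    rw [(intE_sum Finset.univ (F := fun j e => ‖q j e * g j e‖ ^ 2) (fun j => cs_normSq (mulL _ (hq j) (g j)).cs)
      (fun j => cont_normSq (mulL _ (hq j) (g j)).cont)).1]
    refine Finset.sum_congr rfl fun j _ => ?_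
    rw [norm_sq]
    rfl
  have h2 : 2 * ‖∑ k, mulL _ (hc k) (g k)‖ ^ 2 = intE (fun e => 2 * ‖∑ k, c k e * g k e‖ ^ 2) := by
    rw [norm_sq, ← show (ContinuousLinearMap.mul ℝ ℝ) 2 (intE fun e => ‖(∑ k, mulL _ (hc k) (g k)) e‖ ^ 2) =
      2 * (intE fun e => ‖(∑ k, mulL _ (hc k) (g k)) e‖ ^ 2) from rfl,
      ← intE_map _ (cs_normSq (∑ k, mulL _ (hc k) (g k)).cs) (cont_normSq (∑ k, mulL _ (hc k) (g k)).cont)]
    congr 1
    funext e
    rw [TF.sum_apply]
    rfl
  have h3 : (∑ j, ∑ k, inner ℂ (g j) (mulL _ (hL j k) (g k))).re =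
      intE (fun e => (∑ j, ∑ k, conj (g j e) * (L j k e * g k e)).re) := by
    have e0 : ∀ j k, HasCompactSupport (fun e => conj (g j e) * (L j k e * g k e)) := fun j k =>
      cs_conj_mul (mulL _ (hL j k) (g k)).cs
    have e0' : ∀ j k, Continuous (fun e => conj (g j e) * (L j k e * g k e)) := fun j k =>
      cont_conj_mul (g j).cont (mulL _ (hL j k) (g k)).cont
    have e1 := fun j => intE_sum Finset.univ (F := fun k e => conj (g j e) * (L j k e * g k e)) (e0 j) (e0' j)
    have e2 := intE_sum Finset.univ (F := fun j e => ∑ k, conj (g j e) * (L j k e * g k e))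
      (fun j => (e1 j).2) (fun j => continuous_finsetSum _ fun k _ => e0' j k)
    have e3 := intE_map Complex.reCLM e2.2 (continuous_finsetSum _ fun j _ =>
      continuous_finsetSum _ fun k _ => e0' j k)
    have e4 : (∑ j, ∑ k, inner ℂ (g j) (mulL _ (hL j k) (g k))) =
        intE (fun e => ∑ j, ∑ k, conj (g j e) * (L j k e * g k e)) := by
      rw [e2.1]
      refine Finset.sum_congr rfl fun j _ => ?_
      rw [(e1 j).1]
      rfl
    rw [e4]
    exact e3.symm
  rw [h1, h2, h3]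
  have c1 := intE_sum Finset.univ (F := fun j e => ‖q j e * g j e‖ ^ 2) (fun j => cs_normSq (mulL _ (hq j) (g j)).cs)
      (fun j => cont_normSq (mulL _ (hq j) (g j)).cont)
  have c1' : Continuous (fun e => ∑ j, ‖q j e * g j e‖ ^ 2) :=
    continuous_finsetSum _ fun j _ => cont_normSq (mulL _ (hq j) (g j)).cont
  have hsumval : (fun e => ∑ k, c k e * g k e) = (∑ k, mulL _ (hc k) (g k)).fn := by
    rw [TF.sum_val]; rfl
  have c2 : HasCompactSupport (fun e => ‖∑ k, c k e * g k e‖ ^ 2) := by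
    have := cs_normSq (∑ k, mulL _ (hc k) (g k)).cs
    rw [← hsumval] at this
    exact this
  have c2' : Continuous (fun e => ‖∑ k, c k e * g k e‖ ^ 2) := by
    have := cont_normSq (∑ k, mulL _ (hc k) (g k)).cont
    rw [← hsumval] at this
    exact this
  have c3 : HasCompactSupport (fun e => 2 * ‖∑ k, c k e * g k e‖ ^ 2) := c2.mul_left
  rw [← intE_add c1.2 c1' c3 (continuous_const.mul c2')]
  refine intE_mono (c1.2.add c3) (c1'.add (continuous_const.mul c2')) ?_ ?_
    (fun e => pos e (fun j => g j e))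
  · have e0 : ∀ j k, HasCompactSupport (fun e => conj (g j e) * (L j k e * g k e)) := fun j k =>
      cs_conj_mul (mulL _ (hL j k) (g k)).cs
    have e0' : ∀ j k, Continuous (fun e => conj (g j e) * (L j k e * g k e)) := fun j k =>
      cont_conj_mul (g j).cont (mulL _ (hL j k) (g k)).cont
    have e1 := fun j => intE_sum Finset.univ (F := fun k e => conj (g j e) * (L j k e * g k e)) (e0 j) (e0' j)
    have e2 := intE_sum Finset.univ (F := fun j e => ∑ k, conj (g j e) * (L j k e * g k e))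
      (fun j => (e1 j).2) (fun j => continuous_finsetSum _ fun k _ => e0' j k)
    exact e2.2.comp_left (g := Complex.re) Complex.zero_re
  · exact Complex.continuous_re.comp (continuous_finsetSum _ fun j _ => continuous_finsetSum _ fun k _ =>
      cont_conj_mul (g j).cont (mulL _ (hL j k) (g k)).cont)

theorem w3_DB (f : TF E) (k : Fin n) :
    mulL _ (wt a b ha hb ra rb).s3 (dbL k f) = DB ha k (mulL _ (wt a b ha hb ra rb).s3 f) := by
  refine TF.ext fun e => ?_
  have h1 : DB ha k (mulL _ (wt a b ha hb ra rb).s3 f) e =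
      dbL k (mulL _ (wt a b ha hb ra rb).s3 f) e + db k a e * (Complex.exp (- a e) * f e) := rfl
  have h2 : dbL k (mulL _ (wt a b ha hb ra rb).s3 f) e =
      db k (fun e => Complex.exp (- a e)) e * f e + Complex.exp (- a e) * db k f.fn e :=
    db_mul k (SmE.exp ha.neg) f.sm e
  rw [h1, h2, db_exp k ha.neg, db_neg, mulL_apply]
  simp only [wt, dbL_apply]
  ring

theorem G2_eq (f : Fin n → TF E) : (wt a b ha hb ra rb).G2 f =
    - ∑ k, (DD ha k (mulL _ (wt a b ha hb ra rb).s3 (f k)) +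
      mulL (fun e => 2 * d k b e) ((hb.d k).const_mul 2) (mulL _ (wt a b ha hb ra rb).s3 (f k))) := by
  rw [Wt.G2]
  congr 1
  refine Finset.sum_congr rfl fun k _ => ?_
  refine TF.ext fun e => ?_
  set W := wt a b ha hb ra rb with hW
  have h1 : mulL _ W.s2 (mulL _ W.s2 (f k)) = mulL (fun e => Complex.exp (2 * b e))
      (SmE.exp (hb.const_mul 2)) (mulL _ W.s3 (mulL _ W.s3 (f k))) := TF.ext fun e => by
    simp only [mulL_apply, hW, wt]
    rw [← mul_assoc, ← mul_assoc, ← mul_assoc, ← Complex.exp_add, ← Complex.exp_add, ← Complex.exp_add]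
    congr 2
    ring
  set g : TF E := mulL _ W.s3 (f k) with hg
  have h2 : dL k (mulL (fun e => Complex.exp (2 * b e)) (SmE.exp (hb.const_mul 2)) (mulL _ W.s3 g)) e =
      d k (fun e => Complex.exp (2 * b e)) e * (Complex.exp (- a e) * g e) + Complex.exp (2 * b e) *
        d k (fun e => Complex.exp (- a e) * g e) e :=
    d_mul k (SmE.exp (hb.const_mul 2)) ((SmE.exp ha.neg).mul g.sm) e
  have h3 : d k (fun e => Complex.exp (- a e) * g e) e =
      d k (fun e => Complex.exp (- a e)) e * g e + Complex.exp (- a e) * d k g.fn e :=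
    d_mul k (SmE.exp ha.neg) g.sm e
  have h8 : mulL (fun e => 2 * d k b e) ((hb.d k).const_mul 2) g e = 2 * d k b e * g e := rfl
  rw [mulL_apply, h1, h2, h3, d_exp k (hb.const_mul 2), d_exp k ha.neg, d_neg, d_const_mul k hb, TF.add_apply,
    h8]
  have h4 : DD ha k g e = d k g.fn e - d k a e * g e := rfl
  rw [h4]
  have h5 : (W.w1 e)⁻¹ = Complex.exp (- (2 * b e) + a e) := by
    simp only [hW, wt]
    rw [← Complex.exp_neg]
    congr 1
    ring
  rw [h5, Complex.exp_add, Complex.exp_neg (2 * b e), Complex.exp_neg (a e)]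
  have h6 := Complex.exp_ne_zero (2 * b e)
  have h7 := Complex.exp_ne_zero (a e)
  field_simp
  ring

/-- **The a priori estimate.** -/
theorem apriori {q : Fin n → E → ℂ} (hq : ∀ j, SmE (q j))
    (pos : ∀ e (x : Fin n → ℂ), ∑ j, ‖q j e * x j‖ ^ 2 + 2 * ‖∑ k, 2 * d k b e * x k‖ ^ 2 ≤
      (∑ j, ∑ k, conj (x j) * (2 * db j (d k a) e * x k)).re) (f : Fin n → TF E) :
    ∑ j, ‖mulL _ (hq j) (mulL _ (wt a b ha hb ra rb).s3 (f j))‖ ^ 2 ≤
      2 * ‖(wt a b ha hb ra rb).G2 f‖ ^ 2 + (1 / 2) * ∑ j, ∑ k, ‖(wt a b ha hb ra rb).G3 f j k‖ ^ 2 := by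
  set W := wt a b ha hb ra rb with hW
  set g : Fin n → TF E := fun k => mulL _ W.s3 (f k) with hg
  have h1 := basic_identity ha ra g
  have h2 := positivity_int hq (c := fun k e => 2 * d k b e) (fun k => (hb.d k).const_mul 2)
    (L := fun j k e => 2 * db j (d k a) e) (fun j k => (((ha.d k).db j).const_mul 2)) pos g
  have h3 : ∀ j k, W.G3 f j k = DB ha j (g k) - DB ha k (g j) := by
    intro j k
    rw [Wt.G3, map_sub, w3_DB ha hb ra rb, w3_DB ha hb ra rb]
  have h4 : ∑ j, DD ha j (g j) = - W.G2 f + - ∑ k, mulL (fun e => 2 * d k b e) ((hb.d k).const_mul 2) (g k) := by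
    rw [hW, G2_eq ha hb ra rb f, Finset.sum_add_distrib]
    abel
  have h5 : ‖∑ j, DD ha j (g j)‖ ^ 2 ≤ 2 * ‖W.G2 f‖ ^ 2 +
      2 * ‖∑ k, mulL (fun e => 2 * d k b e) ((hb.d k).const_mul 2) (g k)‖ ^ 2 := by
    rw [h4]
    have := norm_add_sq_le_two (- W.G2 f) (- ∑ k, mulL (fun e => 2 * d k b e) ((hb.d k).const_mul 2) (g k))
    rwa [norm_neg, norm_neg] at this
  simp only [h3]
  linarith

end estimate

end Groth.Agent.An.H10.Est
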