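import Groth.Agent.An.H10.Dens3
import Mathlib.Analysis.InnerProductSpace.Dual
import Mathlib.Analysis.InnerProductSpace.PiL2
import Mathlib.Analysis.InnerProductSpace.Projection.Basic
import Mathlib.Analysis.Normed.Module.HahnBanach

/-!
# Existence from an a priori estimate
-/

set_option autoImplicit false
set_option linter.unusedSectionVars false

open scoped ContDiff Topology ComplexConjugate
open Set Filter MeasureTheory UniformSpace

noncomputable section

namespace Groth.Agent.An.H10.Exist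

open Groth.Agent.An.H10.Basic Groth.Agent.An.H10.Trace Groth.Agent.An.H10.Test Groth.Agent.An.H10.Ops
  Groth.Agent.An.H10.Conv Groth.Agent.An.H10.Chart Groth.Agent.An.H10.Dens Groth.Agent.An.H10.Dens2
  Groth.Agent.An.H10.Dens3

/-- Riesz representation of a functional bounded by the norm of an operator. -/
theorem exists_riesz {V H : Type*} [AddCommGroup V] [Module ℂ V] [NormedAddCommGroup H]
    [InnerProductSpace ℂ H] [CompleteSpace H] (T : V →ₗ[ℂ] H) (l : V →ₗ[ℂ] ℂ) {C : ℝ} (hC : 0 ≤ C)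
    (h : ∀ f, ‖l f‖ ≤ C * ‖T f‖) : ∃ U : H, ‖U‖ ≤ C ∧ ∀ f, inner ℂ U (T f) = l f := by
  obtain ⟨s, hs⟩ := T.rangeRestrict.exists_rightInverse_of_surjective T.range_rangeRestrict
  have hs' : ∀ y : LinearMap.range T, T (s y) = y := fun y => by
    have := congrArg (fun g : LinearMap.range T →ₗ[ℂ] LinearMap.range T => ((g y : LinearMap.range T) : H)) hs
    simpa using this
  set g : LinearMap.range T →ₗ[ℂ] ℂ := l ∘ₗ s with hg
  have hgb : ∀ y, ‖g y‖ ≤ C * ‖y‖ := fun y => by
    have := h (s y)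
    rw [hs'] at this
    exact this
  obtain ⟨G, hG1, hG2⟩ := exists_extension_norm_eq (𝕜 := ℂ) (LinearMap.range T) (g.mkContinuous C hgb)
  refine ⟨(InnerProductSpace.toDual ℂ H).symm G, ?_, fun f => ?_⟩
  · rw [LinearIsometryEquiv.norm_map, hG2]
    exact LinearMap.mkContinuous_norm_le g hC hgb
  · rw [InnerProductSpace.toDual_symm_apply]
    have h1 := hG1 ⟨T f, LinearMap.mem_range_self T f⟩
    rw [show G (T f) = G ((⟨T f, LinearMap.mem_range_self T f⟩ : LinearMap.range T) : H) from rfl, h1]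
    change l (s ⟨T f, _⟩) = l f
    have h2 : ‖l (s ⟨T f, LinearMap.mem_range_self T f⟩ - f)‖ ≤ C * ‖T (s ⟨T f, LinearMap.mem_range_self T f⟩ - f)‖ :=
      h _
    rw [map_sub T, hs', sub_self, norm_zero, mul_zero, map_sub] at h2
    exact sub_eq_zero.1 (norm_le_zero_iff.1 h2)

variable {n : ℕ} {E : Type*} [TopologicalSpace E] [RDom n E] [T2Space E] (W : Wt E)

/-- The product Hilbert space. -/
abbrev PH (n : ℕ) (E : Type*) [TopologicalSpace E] [RDom n E] [T2Space E] := PiLp 2 (fun _ : Fin n => HE E)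

/-- The closed subspace of `∂̄`-closed vectors. -/
def KS : Submodule ℂ (PH n E) where
  carrier := {F | W.WK (fun k => F k)}
  add_mem' := fun {F G} hF hG j k u => by
    simp only [PiLp.add_apply, inner_add_left]
    rw [hF j k u, hG j k u]
  zero_mem' := fun j k u => by simp
  smul_mem' := fun c F hF j k u => by
    simp only [PiLp.smul_apply, inner_smul_left]
    rw [hF j k u]

theorem isClosed_KS : IsClosed (KS W : Set (PH n E)) := by
  have h : (KS W : Set (PH n E)) = ⋂ (j : Fin n) (k : Fin n) (u : TF E),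
      {F : PH n E | inner ℂ (F k) (mulL _ W.i2 (dL j u) : HE E) = inner ℂ (F j) (mulL _ W.i2 (dL k u) : HE E)} := by
    ext F
    simp only [mem_iInter]
    rfl
  rw [h]
  refine isClosed_iInter fun j => isClosed_iInter fun k => isClosed_iInter fun u => ?_
  refine isClosed_eq ?_ ?_
  · exact Continuous.inner (by fun_prop) continuous_const
  · exact Continuous.inner (by fun_prop) continuous_const

instance : CompleteSpace (KS W) := (isClosed_KS W).completeSpace_coe

/-- `G2` as a linear map. -/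
def G2L : (Fin n → TF E) →ₗ[ℂ] TF E :=
  - ∑ k, (mulL _ W.i1) ∘ₗ (dL k) ∘ₗ (mulL W.w2 W.s2) ∘ₗ (mulL W.w2 W.s2) ∘ₗ LinearMap.proj k

theorem G2L_apply (f : Fin n → TF E) : G2L W f = W.G2 f := by
  rw [G2L, Wt.G2, LinearMap.neg_apply, LinearMap.sum_apply]
  rfl

theorem inner_mulL_real {a : E → ℂ} {ha : SmE a} (hr : ∀ e, conj (a e) = a e) (F G : TF E) :
    inner ℂ (mulL a ha F) G = inner ℂ F (mulL a ha G) := by
  rw [inner_mulL]
  congr 1
  refine TF.ext fun e => ?_
  rw [mulL_apply, mulL_apply, hr]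

theorem inner_G2 (f : Fin n → TF E) (u : TF E) :
    inner ℂ (W.G2 f) (mulL W.w1 W.s1 u) = ∑ k, inner ℂ (W.G1 f k) (mulL W.w2 W.s2 (dbL k u)) := by
  rw [Wt.G2, inner_neg_left, sum_inner, ← Finset.sum_neg_distrib]
  refine Finset.sum_congr rfl fun k _ => ?_
  have h1 : mulL _ W.i1 (mulL W.w1 W.s1 u) = u := TF.ext fun e => by
    rw [mulL_apply, mulL_apply, ← mul_assoc, inv_mul_cancel₀ (W.z1 e), one_mul]
  rw [inner_mulL_real (conj_inv W.r1), h1, inner_dL, neg_neg, inner_mulL_real W.r2, Wt.G1]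

theorem inner_db_d_symm (j k : Fin n) (u v : TF E) :
    inner ℂ (dbL k u) (dL j v) = inner ℂ (dbL j u) (dL k v) := by
  rw [inner_dbL, inner_dbL, dL_dL_comm]

/-- The `∂̄` of a test function is closed. -/
theorem db_mem_KS (u : TF E) :
    (WithLp.toLp 2 (fun k : Fin n => (mulL W.w2 W.s2 (dbL k u) : HE E)) : PH n E) ∈ KS W := by
  intro j k v
  simp only
  rw [Completion.inner_coe, Completion.inner_coe, inner_mulL_real W.r2, inner_mulL_real W.r2]
  have h1 : ∀ v : TF E, mulL W.w2 W.s2 (mulL _ W.i2 v) = v := fun v => TF.ext fun e => by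
    rw [mulL_apply, mulL_apply, ← mul_assoc, mul_inv_cancel₀ (W.z2 e), one_mul]
  rw [h1, h1]
  exact inner_db_d_symm j k u v

theorem key_estimate (c : Cutoffs W) (A : Fin n → TF E) (hA : W.WK (fun k => (A k : HE E))) {C : ℝ}
    (hest : ∀ f : Fin n → TF E, ‖∑ k, inner ℂ (A k) (W.G1 f k)‖ ^ 2 ≤
      C ^ 2 * (2 * ‖W.G2 f‖ ^ 2 + (1 / 2) * ∑ j, ∑ k, ‖W.G3 f j k‖ ^ 2)) (f : Fin n → TF E) :
    ‖∑ k, inner ℂ (A k) (W.G1 f k)‖ ^ 2 ≤ C ^ 2 * (2 * ‖W.G2 f‖ ^ 2) := by
  set x : PH n E := WithLp.toLp 2 (fun k : Fin n => (W.G1 f k : HE E)) with hx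
  set a : PH n E := WithLp.toLp 2 (fun k : Fin n => (A k : HE E)) with ha
  have haK : a ∈ KS W := hA
  set F : PH n E := (KS W).starProjection x with hF
  have hFK : F ∈ KS W := (KS W).starProjection_apply_mem x
  have horth : ∀ w ∈ KS W, inner ℂ (x - F) w = 0 := fun w hw =>
    (KS W).starProjection_inner_eq_zero x w hw
  have hT : W.WT (fun k => F k) (W.G2 f : HE E) := by
    intro u
    have h1 := horth _ (db_mem_KS W u)
    rw [inner_sub_left, sub_eq_zero, PiLp.inner_apply, PiLp.inner_apply] at h1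
    simp only at h1
    rw [← h1]
    simp only [hx, Completion.inner_coe]
    exact (inner_G2 W f u).symm
  have hcl := dens W c (F := fun k => F k) (h := (W.G2 f : HE E)) hFK hT
  set Z : Set ((Fin n → HE E) × HE E × (Fin n → Fin n → HE E)) :=
    {y | ‖∑ k, inner ℂ (A k : HE E) (y.1 k)‖ ^ 2 ≤
      C ^ 2 * (2 * ‖y.2.1‖ ^ 2 + (1 / 2) * ∑ j, ∑ k, ‖y.2.2 j k‖ ^ 2)} with hZ
  have hZc : IsClosed Z := by
    refine isClosed_le ?_ ?_
    · refine (Continuous.norm (continuous_finsetSum _ fun k _ => ?_)).pow 2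
      exact Continuous.inner continuous_const (by fun_prop)
    · fun_prop
  have hsub : closure (range W.Gam) ⊆ Z := by
    refine closure_minimal ?_ hZc
    rintro _ ⟨f, rfl⟩
    have := hest f
    simp only [hZ, mem_ofPred_eq, Wt.Gam, Completion.inner_coe, Completion.norm_coe]
    exact this
  have h2 := hsub hcl
  simp only [hZ, mem_ofPred_eq, Pi.zero_apply, norm_zero, Completion.norm_coe] at h2
  have h3 : ∑ k, inner ℂ (A k) (W.G1 f k) = ∑ k, inner ℂ (A k : HE E) (F k) := by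
    have h4 := horth a haK
    rw [inner_sub_left, sub_eq_zero] at h4
    have h5 := congrArg conj h4
    rw [inner_conj_symm, inner_conj_symm, PiLp.inner_apply, PiLp.inner_apply] at h5
    simpa [ha, hx, Completion.inner_coe] using h5
  rw [h3]
  refine h2.trans ?_
  gcongr
  simp

/-- **Existence.** -/
theorem exists_solution (c : Cutoffs W) (A : Fin n → TF E) (hA : W.WK (fun k => (A k : HE E))) {C : ℝ}
    (hC : 0 ≤ C)
    (hest : ∀ f : Fin n → TF E, ‖∑ k, inner ℂ (A k) (W.G1 f k)‖ ^ 2 ≤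
      C ^ 2 * (2 * ‖W.G2 f‖ ^ 2 + (1 / 2) * ∑ j, ∑ k, ‖W.G3 f j k‖ ^ 2)) :
    ∃ U : HE E, ‖U‖ ≤ Real.sqrt 2 * C ∧
      ∀ f, inner ℂ U (W.G2 f : HE E) = ∑ k, inner ℂ (A k) (W.G1 f k) := by
  set l : (Fin n → TF E) →ₗ[ℂ] ℂ :=
    { toFun := fun f => ∑ k, inner ℂ (A k) (W.G1 f k)
      map_add' := fun f g => by
        rw [← Finset.sum_add_distrib]
        refine Finset.sum_congr rfl fun k _ => ?_
        rw [Wt.G1, Wt.G1, Wt.G1, Pi.add_apply, map_add, inner_add_right]
      map_smul' := fun c f => by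
        simp only [RingHom.id_apply, smul_eq_mul]
        rw [Finset.mul_sum]
        refine Finset.sum_congr rfl fun k _ => ?_
        rw [Wt.G1, Wt.G1, Pi.smul_apply, map_smul, inner_smul_right] } with hl
  obtain ⟨U, hU1, hU2⟩ := exists_riesz ((Completion.toComplL (𝕜 := ℂ) (E := TF E)).toLinearMap ∘ₗ G2L W) l
    (C := Real.sqrt 2 * C) (by positivity) (fun f => by
      have h1 := key_estimate W c A hA hest f
      have h2 : ‖((Completion.toComplL (𝕜 := ℂ) (E := TF E)).toLinearMap ∘ₗ G2L W) f‖ = ‖W.G2 f‖ := by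
        rw [LinearMap.comp_apply, G2L_apply]
        exact Completion.norm_coe _
      rw [h2]
      refine le_of_sq_le_sq ?_ (by positivity)
      have h3 : (Real.sqrt 2 * C * ‖W.G2 f‖) ^ 2 = C ^ 2 * (2 * ‖W.G2 f‖ ^ 2) := by
        rw [mul_pow, mul_pow, Real.sq_sqrt (by norm_num)]; ring
      rw [h3]
      exact h1)
  refine ⟨U, hU1, fun f => ?_⟩
  have h1 := hU2 f
  rw [LinearMap.comp_apply, G2L_apply] at h1
  exact h1

end Groth.Agent.An.H10.Exist
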