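import Groth.Agent.An.H10.Est

/-!
# Solving `∂̄ u = α` in the dual sense
-/

set_option autoImplicit false
set_option linter.unusedSectionVars false

open scoped ContDiff Topology ComplexConjugate
open Set Filter MeasureTheory UniformSpace

noncomputable section

namespace Groth.Agent.An.H10.Lam

open Groth.Agent.An.H10.Basic Groth.Agent.An.H10.Trace Groth.Agent.An.H10.Test Groth.Agent.An.H10.Ops
  Groth.Agent.An.H10.Conv Groth.Agent.An.H10.Chart Groth.Agent.An.H10.Dens Groth.Agent.An.H10.Dens2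
  Groth.Agent.An.H10.Dens3 Groth.Agent.An.H10.Exist Groth.Agent.An.H10.Est

variable {n : ℕ} {E : Type*} [TopologicalSpace E] [RDom n E] [T2Space E]

theorem exists_Lam {a b : E → ℂ} (ha : SmE a) (hb : SmE b) (ra : ∀ e, conj (a e) = a e)
    (rb : ∀ e, conj (b e) = b e) (c : Cutoffs (wt a b ha hb ra rb))
    {q : Fin n → E → ℂ} (hq : ∀ j, SmE (q j)) (rq : ∀ j e, conj (q j e) = q j e) (zq : ∀ j e, q j e ≠ 0)
    (pos : ∀ e (x : Fin n → ℂ), ∑ j, ‖q j e * x j‖ ^ 2 + 2 * ‖∑ k, 2 * d k b e * x k‖ ^ 2 ≤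
      (∑ j, ∑ k, conj (x j) * (2 * db j (d k a) e * x k)).re)
    (α : Fin n → TF E) (hα : ∀ j k, dbL j (α k) = dbL k (α j)) {C : ℝ} (hC : 0 ≤ C)
    (hαC : ∑ k, ‖mulL _ (SmE.inv (hq k) (zq k)) (mulL (fun e => Complex.exp (b e + (b e - a e)))
      (SmE.exp (hb.add (hb.sub ha))) (α k))‖ ^ 2 ≤ C ^ 2) :
    ∃ Λ : TF E →ₗ[ℂ] ℂ, (∀ k v, Λ (dL k v) = - inner ℂ (α k) v) ∧
      ∀ w, ‖Λ w‖ ≤ Real.sqrt 2 * C * ‖mulL _ (wt a b ha hb ra rb).i1 w‖ := by
  set W := wt a b ha hb ra rb with hW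
  set A : Fin n → TF E := fun k => mulL W.w2 W.s2 (α k) with hA
  have hi2 : ∀ v : TF E, mulL W.w2 W.s2 (mulL _ W.i2 v) = v := fun v => TF.ext fun e => by
    rw [mulL_apply, mulL_apply, ← mul_assoc, mul_inv_cancel₀ (W.z2 e), one_mul]
  have hWK : W.WK (fun k => (A k : HE E)) := by
    intro j k u
    rw [Completion.inner_coe, Completion.inner_coe]
    simp only [hA]
    rw [inner_mulL_real W.r2, inner_mulL_real W.r2, hi2, hi2]
    have h1 := inner_dbL j (α k) u
    have h2 := inner_dbL k (α j) u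
    rw [hα j k] at h1
    rw [h2] at h1
    exact (neg_injective h1).symm
  have hest : ∀ f : Fin n → TF E, ‖∑ k, inner ℂ (A k) (W.G1 f k)‖ ^ 2 ≤
      C ^ 2 * (2 * ‖W.G2 f‖ ^ 2 + (1 / 2) * ∑ j, ∑ k, ‖W.G3 f j k‖ ^ 2) := by
    intro f
    have h1 := apriori ha hb ra rb hq pos f
    set B : Fin n → TF E := fun k => mulL _ (SmE.inv (hq k) (zq k))
      (mulL (fun e => Complex.exp (b e + (b e - a e))) (SmE.exp (hb.add (hb.sub ha))) (α k)) with hB
    set Q : Fin n → TF E := fun k => mulL _ (hq k) (mulL _ W.s3 (f k)) with hQ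
    have h2 : ∀ k, inner ℂ (A k) (W.G1 f k) = inner ℂ (B k) (Q k) := by
      intro k
      rw [hA, hB, hQ, Wt.G1]
      simp only
      have r1' : ∀ e, conj (Complex.exp (b e + (b e - a e))) = Complex.exp (b e + (b e - a e)) := W.r1
      rw [inner_mulL_real W.r2, inner_mulL_real (conj_inv (rq k)), inner_mulL_real r1']
      congr 1
      refine TF.ext fun e => ?_
      simp only [mulL_apply, hW, wt]
      have h5 := zq k e
      have h6 : Complex.exp (b e + (b e - a e)) * Complex.exp (- a e) =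
          Complex.exp (b e - a e) * Complex.exp (b e - a e) := by
        rw [← Complex.exp_add, ← Complex.exp_add]
        congr 1
        ring
      have h7 : (q k e)⁻¹ * q k e = 1 := inv_mul_cancel₀ h5
      linear_combination (-(f k e)) * h6 - (Complex.exp (b e + (b e - a e)) * Complex.exp (- a e) * f k e) * h7
    simp only [h2]
    calc ‖∑ k, inner ℂ (B k) (Q k)‖ ^ 2 ≤ (∑ k, ‖B k‖ * ‖Q k‖) ^ 2 := by
          gcongr
          exact (norm_sum_le _ _).trans (Finset.sum_le_sum fun k _ => norm_inner_le_norm _ _)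
      _ ≤ (∑ k, ‖B k‖ ^ 2) * (∑ k, ‖Q k‖ ^ 2) := Finset.sum_mul_sq_le_sq_mul_sq _ _ _
      _ ≤ C ^ 2 * (2 * ‖W.G2 f‖ ^ 2 + (1 / 2) * ∑ j, ∑ k, ‖W.G3 f j k‖ ^ 2) := by
          gcongr
  obtain ⟨U, hU1, hU2⟩ := exists_solution W c A hWK hC hest
  refine ⟨(innerSL ℂ U).toLinearMap ∘ₗ (Completion.toComplL (𝕜 := ℂ) (E := TF E)).toLinearMap ∘ₗ
    (mulL _ W.i1), ?_, ?_⟩
  · intro k v
    have h1 := hU2 (Pi.single k (mulL _ W.i2 (mulL _ W.i2 v)))
    have h2 : W.G2 (Pi.single k (mulL _ W.i2 (mulL _ W.i2 v))) = - mulL _ W.i1 (dL k v) := by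
      rw [Wt.G2, Finset.sum_eq_single k]
      · rw [Pi.single_eq_same, hi2, hi2]
      · intro j _ hj
        rw [Pi.single_eq_of_ne hj, map_zero, map_zero, map_zero, map_zero]
      · intro h
        exact absurd (Finset.mem_univ k) h
    rw [h2, Completion.coe_neg, inner_neg_right] at h1
    have h3 : ∑ j, inner ℂ (A j) (W.G1 (Pi.single k (mulL _ W.i2 (mulL _ W.i2 v))) j) = inner ℂ (α k) v := by
      rw [Finset.sum_eq_single k]
      · rw [Wt.G1, Pi.single_eq_same, hi2]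
        simp only [hA]
        rw [inner_mulL_real W.r2, hi2]
      · intro j _ hj
        rw [Wt.G1, Pi.single_eq_of_ne hj, map_zero, inner_zero_right]
      · intro h
        exact absurd (Finset.mem_univ k) h
    rw [h3] at h1
    change inner ℂ U ((mulL _ W.i1 (dL k v) : TF E) : HE E) = _
    rw [← h1, neg_neg]
  · intro w
    change ‖inner ℂ U ((mulL _ W.i1 w : TF E) : HE E)‖ ≤ _
    refine (norm_inner_le_norm _ _).trans ?_
    rw [Completion.norm_coe]
    gcongr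

end Groth.Agent.An.H10.Lam
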