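import Mathlib.Analysis.SpecialFunctions.SmoothTransition
import Mathlib.Analysis.SpecialFunctions.Log.Deriv
import Mathlib.Analysis.Calculus.ContDiff.Deriv
import Mathlib.MeasureTheory.Integral.IntervalIntegral.FundThmCalculus

/-!
# One variable weight functions
-/

set_option autoImplicit false

open scoped ContDiff Topology
open Set Filter MeasureTheory

noncomputable section

namespace Groth.Agent.An.H10.OneVar

/-- A smooth step. -/
abbrev th : ℝ → ℝ := Real.smoothTransition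

theorem th_zero {x : ℝ} (hx : x ≤ 0) : th x = 0 := Real.smoothTransition.zero_of_nonpos hx

theorem th_one {x : ℝ} (hx : 1 ≤ x) : th x = 1 := Real.smoothTransition.one_of_one_le hx

theorem th_contDiff : ContDiff ℝ ∞ th := Real.smoothTransition.contDiff

theorem th_differentiable : Differentiable ℝ th := th_contDiff.differentiable (by simp)

theorem deriv_th_of_neg {x : ℝ} (hx : x < 0) : deriv th x = 0 := by
  have h : th =ᶠ[𝓝 x] fun _ => 0 := by
    filter_upwards [isOpen_Iio.mem_nhds hx] with y hy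
    exact Real.smoothTransition.zero_of_nonpos (le_of_lt hy)
  rw [h.deriv_eq]; simp

theorem deriv_th_of_gt {x : ℝ} (hx : 1 < x) : deriv th x = 0 := by
  have h : th =ᶠ[𝓝 x] fun _ => 1 := by
    filter_upwards [isOpen_Ioi.mem_nhds hx] with y hy
    exact Real.smoothTransition.one_of_one_le (le_of_lt hy)
  rw [h.deriv_eq]; simp

theorem deriv_th_nonneg (x : ℝ) : 0 ≤ deriv th x :=
  Real.smoothTransition.monotone.deriv_nonneg

theorem exists_deriv_th_bound : ∃ C : ℝ, 0 ≤ C ∧ ∀ x, |deriv th x| ≤ C := by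
  have hc : Continuous (deriv th) := th_contDiff.continuous_deriv (by simp)
  obtain ⟨C, hC⟩ := (isCompact_Icc (a := (0 : ℝ)) (b := 1)).exists_bound_of_continuousOn hc.continuousOn
  refine ⟨max C 0, le_max_right _ _, fun x => ?_⟩
  by_cases h0 : x < 0
  · rw [deriv_th_of_neg h0]; simp
  by_cases h1 : 1 < x
  · rw [deriv_th_of_gt h1]; simp
  · exact (hC x ⟨not_lt.1 h0, not_lt.1 h1⟩).trans (le_max_left _ _)

/-- The bound for the derivative of `th`. -/
def Cth : ℝ := exists_deriv_th_bound.choose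

theorem Cth_nonneg : 0 ≤ Cth := exists_deriv_th_bound.choose_spec.1

theorem deriv_th_le (x : ℝ) : |deriv th x| ≤ Cth := exists_deriv_th_bound.choose_spec.2 x

theorem th_nonneg (x : ℝ) : 0 ≤ th x := Real.smoothTransition.nonneg x

theorem th_le_one (x : ℝ) : th x ≤ 1 := Real.smoothTransition.le_one x

theorem abs_th_le (x : ℝ) : |th x| ≤ 1 := by
  rw [abs_of_nonneg (th_nonneg x)]; exact th_le_one x

/-- The weight `ψ/2`. -/
def bb (A : ℝ) (m : ℕ) (r : ℝ) : ℝ := m * (Real.log (1 + r) * th (r - A))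

theorem bb_contDiffAt (A : ℝ) (m : ℕ) {r : ℝ} (hr : 0 ≤ r) : ContDiffAt ℝ ∞ (bb A m) r := by
  have h1 : ContDiffAt ℝ ∞ (fun t : ℝ => Real.log (1 + t)) r :=
    (contDiffAt_const.add contDiffAt_id).log (by simp only [id]; linarith)
  have h2 : ContDiffAt ℝ ∞ (fun t : ℝ => th (t - A)) r :=
    (th_contDiff.comp (contDiff_id.sub contDiff_const)).contDiffAt
  exact contDiffAt_const.mul (h1.mul h2)

theorem bb_eq_zero {A : ℝ} (m : ℕ) {r : ℝ} (hr : r ≤ A) : bb A m r = 0 := by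
  rw [bb, th_zero (by linarith)]; simp

theorem bb_eq_log {A : ℝ} (m : ℕ) {r : ℝ} (hr : A + 1 ≤ r) : bb A m r = m * Real.log (1 + r) := by
  rw [bb, th_one (by linarith)]; simp

theorem bb_nonneg (A : ℝ) (m : ℕ) {r : ℝ} (hr : 0 ≤ r) : 0 ≤ bb A m r := by
  have h1 : 0 ≤ Real.log (1 + r) := Real.log_nonneg (by linarith)
  have h2 := th_nonneg (r - A)
  unfold bb
  positivity

theorem bb_hasDerivAt (A : ℝ) (m : ℕ) {r : ℝ} (hr : 0 ≤ r) : HasDerivAt (bb A m)
    (m * ((1 + r)⁻¹ * th (r - A) + Real.log (1 + r) * deriv th (r - A))) r := by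
  have h0 : (1 : ℝ) + r ≠ 0 := by
    have : (0 : ℝ) < 1 + r := by linarith
    exact this.ne'
  have h1 : HasDerivAt (fun t : ℝ => Real.log (1 + t)) ((1 + r)⁻¹) r := by
    have h3 : HasDerivAt (fun t : ℝ => 1 + t) 1 r := (hasDerivAt_id r).const_add 1
    simpa using h3.log h0
  have h2 : HasDerivAt (fun t : ℝ => th (t - A)) (deriv th (r - A)) r := by
    have h3 : HasDerivAt (fun t : ℝ => t - A) 1 r := (hasDerivAt_id r).sub_const A
    have h4 := (th_differentiable (r - A)).hasDerivAt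
    have h5 := h4.comp r h3
    rw [mul_one] at h5
    exact h5
  exact (h1.mul h2).const_mul _

theorem deriv_bb_le (A : ℝ) (m : ℕ) {r : ℝ} (hr : 0 ≤ r) :
    |deriv (bb A m) r| ≤ m * (1 + Cth) * (1 + r) := by
  rw [(bb_hasDerivAt A m hr).deriv, abs_mul, Nat.abs_cast, mul_assoc]
  have hC := Cth_nonneg
  have h1 : |(1 + r)⁻¹ * th (r - A)| ≤ 1 := by
    rw [abs_mul]
    have h2 : |(1 + r)⁻¹| ≤ 1 := by
      rw [abs_of_nonneg (by positivity)]
      exact inv_le_one_of_one_le₀ (by linarith)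
    calc _ ≤ 1 * 1 := mul_le_mul h2 (abs_th_le _) (abs_nonneg _) zero_le_one
      _ = 1 := by ring
  have h3 : |Real.log (1 + r) * deriv th (r - A)| ≤ (1 + r) * Cth := by
    rw [abs_mul]
    have h4 : |Real.log (1 + r)| ≤ 1 + r := by
      rw [abs_of_nonneg (Real.log_nonneg (by linarith))]
      have := Real.log_le_sub_one_of_pos (show (0 : ℝ) < 1 + r by linarith)
      linarith
    exact mul_le_mul h4 (deriv_th_le _) (abs_nonneg _) (by linarith)
  gcongr
  calc _ ≤ |(1 + r)⁻¹ * th (r - A)| + |Real.log (1 + r) * deriv th (r - A)| := abs_add_le _ _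
    _ ≤ 1 + (1 + r) * Cth := add_le_add h1 h3
    _ ≤ (1 + Cth) * (1 + r) := by nlinarith

theorem deriv_bb_zero {A : ℝ} (m : ℕ) {r : ℝ} (hr : r < A) : deriv (bb A m) r = 0 := by
  have h : bb A m =ᶠ[𝓝 r] fun _ => 0 := by
    filter_upwards [isOpen_Iio.mem_nhds hr] with y hy
    exact bb_eq_zero m (le_of_lt hy)
  rw [h.deriv_eq]; simp

/-- The derivative of the convex weight. -/
def xd (A B : ℝ) (p : ℕ) (t : ℝ) : ℝ := B * ((1 + t) ^ p * th (t - A + 1))

/-- The convex weight. -/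
def xx (A B : ℝ) (p : ℕ) (r : ℝ) : ℝ := ∫ t in (0 : ℝ)..r, xd A B p t

theorem xd_contDiff (A B : ℝ) (p : ℕ) : ContDiff ℝ ∞ (xd A B p) := by
  unfold xd
  exact contDiff_const.mul (((contDiff_const.add contDiff_id).pow p).mul
    (th_contDiff.comp ((contDiff_id.sub contDiff_const).add contDiff_const)))

theorem xx_hasDerivAt (A B : ℝ) (p : ℕ) (r : ℝ) : HasDerivAt (xx A B p) (xd A B p r) r :=
  intervalIntegral.integral_hasDerivAt_right ((xd_contDiff A B p).continuous.intervalIntegrable _ _)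
    ((xd_contDiff A B p).continuous.stronglyMeasurableAtFilter _ _) (xd_contDiff A B p).continuous.continuousAt

theorem deriv_xx (A B : ℝ) (p : ℕ) : deriv (xx A B p) = xd A B p := funext fun r => (xx_hasDerivAt A B p r).deriv

theorem xx_contDiff (A B : ℝ) (p : ℕ) : ContDiff ℝ ∞ (xx A B p) :=
  contDiff_infty_iff_deriv.2 ⟨fun r => (xx_hasDerivAt A B p r).differentiableAt, by
    rw [deriv_xx]; exact xd_contDiff A B p⟩

theorem xx_eq_zero {A : ℝ} (B : ℝ) (p : ℕ) {r : ℝ} (h0 : 0 ≤ r) (hr : r ≤ A - 1) : xx A B p r = 0 := by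
  rw [xx]
  rw [intervalIntegral.integral_congr (g := fun _ => (0 : ℝ))]
  · simp
  · intro t ht
    rw [uIcc_of_le h0] at ht
    simp only [xd]
    rw [th_zero (by linarith [ht.2])]
    ring

theorem deriv_xd_nonneg (A : ℝ) {B : ℝ} (hB : 0 ≤ B) (p : ℕ) {r : ℝ} (hr : 0 ≤ r) : 0 ≤ deriv (xd A B p) r := by
  have h1 : HasDerivAt (fun t : ℝ => (1 + t) ^ p) (p * (1 + r) ^ (p - 1) * 1) r :=
    ((hasDerivAt_id r).const_add 1).pow p
  have h2 : HasDerivAt (fun t : ℝ => th (t - A + 1)) (deriv th (r - A + 1)) r := by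
    have h3 : HasDerivAt (fun t : ℝ => t - A + 1) 1 r := ((hasDerivAt_id r).sub_const A).add_const 1
    have h4 := (th_differentiable (r - A + 1)).hasDerivAt
    have h5 := h4.comp r h3
    rw [mul_one] at h5
    exact h5
  have h5 : HasDerivAt (xd A B p) (B * (p * (1 + r) ^ (p - 1) * 1 * th (r - A + 1) +
      (1 + r) ^ p * deriv th (r - A + 1))) r := (h1.mul h2).const_mul B
  rw [h5.deriv]
  have := th_nonneg (r - A + 1)
  have := deriv_th_nonneg (r - A + 1)
  positivity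

theorem xd_eq {A : ℝ} (B : ℝ) (p : ℕ) {r : ℝ} (hr : A ≤ r) : xd A B p r = B * (1 + r) ^ p := by
  rw [xd, th_one (by linarith)]; ring

theorem xd_nonneg (A : ℝ) {B : ℝ} (hB : 0 ≤ B) (p : ℕ) {r : ℝ} (hr : 0 ≤ r) : 0 ≤ xd A B p r := by
  have := th_nonneg (r - A + 1)
  unfold xd
  positivity

/-- The key comparison. -/
theorem bb_xd (A : ℝ) (m : ℕ) {M : ℝ} (hM : 0 ≤ M) {r : ℝ} (hr : 0 ≤ r) :
    8 * (deriv (bb A m) r) ^ 2 * (M * (1 + r) ^ (2 * m)) ≤
      xd A (8 * m ^ 2 * (1 + Cth) ^ 2 * M) (2 * m + 2) r := by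
  have hC := Cth_nonneg
  rcases lt_or_ge r A with h | h
  · rw [deriv_bb_zero m h]
    have := xd_nonneg A (B := 8 * m ^ 2 * (1 + Cth) ^ 2 * M) (by positivity) (2 * m + 2) hr
    simpa using this
  · rw [xd_eq _ _ h]
    have h1 := deriv_bb_le A m hr
    have h2 : (deriv (bb A m) r) ^ 2 ≤ (m * (1 + Cth) * (1 + r)) ^ 2 := by
      rw [← sq_abs]
      gcongr
    calc 8 * (deriv (bb A m) r) ^ 2 * (M * (1 + r) ^ (2 * m))
        ≤ 8 * (m * (1 + Cth) * (1 + r)) ^ 2 * (M * (1 + r) ^ (2 * m)) := by gcongr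
      _ = _ := by ring

end Groth.Agent.An.H10.OneVar
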