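import Groth.Agent.An.H10.Test

/-!
# Operators on test functions and on their completion
-/

set_option autoImplicit false

open scoped ContDiff Topology ComplexConjugate
open Set Filter MeasureTheory UniformSpace

set_option linter.unusedSectionVars false

noncomputable section

namespace Groth.Agent.An.H10.Ops

open Groth.Agent.An.H10.Basic Groth.Agent.An.H10.Trace Groth.Agent.An.H10.Test

section abstractOp

variable {V W Z : Type*} [NormedAddCommGroup V] [InnerProductSpace ℂ V]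
  [NormedAddCommGroup W] [InnerProductSpace ℂ W] [NormedAddCommGroup Z] [InnerProductSpace ℂ Z]

/-- Bounded linear maps between pre-Hilbert spaces. -/
def Bdd (T : V →ₗ[ℂ] W) : Prop := ∃ C, ∀ x, ‖T x‖ ≤ C * ‖x‖

theorem Bdd.comp {T : V →ₗ[ℂ] W} {S : W →ₗ[ℂ] Z} (hS : Bdd S) (hT : Bdd T) : Bdd (S ∘ₗ T) := by
  obtain ⟨C, hC⟩ := hT
  obtain ⟨D, hD⟩ := hS
  refine ⟨|D| * |C|, fun x => ?_⟩
  calc ‖S (T x)‖ ≤ D * ‖T x‖ := hD _
    _ ≤ |D| * ‖T x‖ := by gcongr; exact le_abs_self D
    _ ≤ |D| * (|C| * ‖x‖) := by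
      gcongr
      exact (hC x).trans (by gcongr; exact le_abs_self C)
    _ = |D| * |C| * ‖x‖ := by ring

/-- Extension to the completions. -/
def op (T : V →ₗ[ℂ] W) : Completion V →L[ℂ] Completion W :=
  ((Completion.toComplL (𝕜 := ℂ) (E := W)).toLinearMap ∘ₗ T).extendOfNorm
    (Completion.toComplL (𝕜 := ℂ) (E := V)).toLinearMap

theorem denseRange_toCompl : DenseRange ((Completion.toComplL (𝕜 := ℂ) (E := V)).toLinearMap) :=
  Completion.denseRange_coe

theorem op_coe {T : V →ₗ[ℂ] W} (hT : Bdd T) (x : V) : op T (x : Completion V) = (T x : Completion W) := by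
  obtain ⟨C, hC⟩ := hT
  exact LinearMap.extendOfNorm_eq denseRange_toCompl
    ⟨C, fun x => by simpa [Completion.norm_coe] using hC x⟩ x

theorem norm_op_le {T : V →ₗ[ℂ] W} {C : ℝ} (hC : ∀ x, ‖T x‖ ≤ C * ‖x‖) (u : Completion V) :
    ‖op T u‖ ≤ C * ‖u‖ := by
  refine LinearMap.norm_extendOfNorm_apply_le (e := (Completion.toComplL (𝕜 := ℂ) (E := V)).toLinearMap)
    denseRange_toCompl C (fun x => ?_) u
  simpa [Completion.norm_coe] using hC x

theorem ext_coe {A B : Completion V →L[ℂ] Completion W} (h : ∀ x : V, A x = B x) (u : Completion V) :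
    A u = B u :=
  Completion.induction_on u (isClosed_eq A.continuous B.continuous) h

theorem op_comp {T : V →ₗ[ℂ] W} {S : W →ₗ[ℂ] Z} (hS : Bdd S) (hT : Bdd T) (u : Completion V) :
    op S (op T u) = op (S ∘ₗ T) u :=
  ext_coe (A := (op S).comp (op T)) (B := op (S ∘ₗ T)) (fun x => by
    rw [ContinuousLinearMap.comp_apply, op_coe hT, op_coe hS, op_coe (hS.comp hT)]; rfl) u

theorem op_inner_coe {T : V →ₗ[ℂ] W} {T' : W → V} (hT : Bdd T)
    (h : ∀ x y, inner ℂ (T x) y = inner ℂ x (T' y)) (u : Completion V) (y : W) :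
    inner ℂ (op T u) (y : Completion W) = inner ℂ u (T' y : Completion V) := by
  refine Completion.induction_on u (isClosed_eq ?_ ?_) fun x => ?_
  · exact Continuous.inner (op T).continuous continuous_const
  · exact Continuous.inner continuous_id continuous_const
  · rw [op_coe hT, Completion.inner_coe, Completion.inner_coe, h]

theorem op_inner {T : V →ₗ[ℂ] W} {T' : W →ₗ[ℂ] V} (hT : Bdd T) (hT' : Bdd T')
    (h : ∀ x y, inner ℂ (T x) y = inner ℂ x (T' y)) (u : Completion V) (v : Completion W) :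
    inner ℂ (op T u) v = inner ℂ u (op T' v) := by
  refine Completion.induction_on v (isClosed_eq ?_ ?_) fun y => ?_
  · exact Continuous.inner continuous_const continuous_id
  · exact Continuous.inner continuous_const (op T').continuous
  · rw [op_coe hT', op_inner_coe hT h]

theorem tendsto_op {ι : Type*} {l : Filter ι} {T : ι → V →ₗ[ℂ] W} {T0 : V →ₗ[ℂ] W} {C : ℝ}
    (hT : ∀ i x, ‖T i x‖ ≤ C * ‖x‖) (hT0 : ∀ x, ‖T0 x‖ ≤ C * ‖x‖)
    (h : ∀ x, Tendsto (fun i => T i x) l (𝓝 (T0 x))) (u : Completion V) :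
    Tendsto (fun i => op (T i) u) l (𝓝 (op T0 u)) := by
  rw [Metric.tendsto_nhds]
  intro ε hε
  have hC' : 0 < |C| + 1 := by positivity
  obtain ⟨x, hx⟩ : ∃ x : V, ‖u - (x : Completion V)‖ < ε / (3 * (|C| + 1)) := by
    have := Metric.dense_iff.1 (Completion.denseRange_coe (α := V)) u (ε / (3 * (|C| + 1))) (by positivity)
    obtain ⟨y, hy, x, rfl⟩ := this
    exact ⟨x, by rw [← dist_eq_norm, dist_comm]; exact hy⟩
  have h1 := (Metric.tendsto_nhds.1 (h x)) (ε / 3) (by positivity)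
  filter_upwards [h1] with i hi
  have h2 : ‖op (T i) u - op (T i) (x : Completion V)‖ < ε / 3 := by
    rw [← map_sub]
    calc _ ≤ C * ‖u - (x : Completion V)‖ := norm_op_le (hT i) _
      _ ≤ (|C| + 1) * ‖u - (x : Completion V)‖ := by
        gcongr; linarith [le_abs_self C]
      _ < (|C| + 1) * (ε / (3 * (|C| + 1))) := by gcongr
      _ = ε / 3 := by field_simp
  have h3 : ‖op T0 u - op T0 (x : Completion V)‖ < ε / 3 := by
    rw [← map_sub]
    calc _ ≤ C * ‖u - (x : Completion V)‖ := norm_op_le hT0 _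
      _ ≤ (|C| + 1) * ‖u - (x : Completion V)‖ := by
        gcongr; linarith [le_abs_self C]
      _ < (|C| + 1) * (ε / (3 * (|C| + 1))) := by gcongr
      _ = ε / 3 := by field_simp
  have h4 : ‖op (T i) (x : Completion V) - op T0 (x : Completion V)‖ < ε / 3 := by
    rw [op_coe ⟨C, hT i⟩, op_coe ⟨C, hT0⟩, ← Completion.coe_sub, Completion.norm_coe, ← dist_eq_norm]
    exact hi
  rw [dist_eq_norm]
  have h5 : op (T i) u - op T0 u = (op (T i) u - op (T i) (x : Completion V)) +
    (op (T i) (x : Completion V) - op T0 (x : Completion V)) - (op T0 u - op T0 (x : Completion V)) := by abel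
  rw [h5]
  calc _ ≤ ‖(op (T i) u - op (T i) (x : Completion V)) +
        (op (T i) (x : Completion V) - op T0 (x : Completion V))‖ + ‖op T0 u - op T0 (x : Completion V)‖ :=
        norm_sub_le _ _
    _ ≤ ‖op (T i) u - op (T i) (x : Completion V)‖ + ‖op (T i) (x : Completion V) - op T0 (x : Completion V)‖
        + ‖op T0 u - op T0 (x : Completion V)‖ := by gcongr; exact norm_add_le _ _
    _ < ε / 3 + ε / 3 + ε / 3 := by gcongr
    _ = ε := by ring

theorem op_id (u : Completion V) : op (LinearMap.id : V →ₗ[ℂ] V) u = u :=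
  ext_coe (A := op LinearMap.id) (B := ContinuousLinearMap.id ℂ _) (fun x => by
    rw [op_coe ⟨1, fun x => by simp⟩]; rfl) u

theorem op_zero (u : Completion V) : op (0 : V →ₗ[ℂ] W) u = 0 :=
  ext_coe (A := op 0) (B := 0) (fun x => by
    rw [op_coe ⟨0, fun x => by simp⟩]; simp) u

/-- Vectors are determined by their inner products with the dense subspace. -/
theorem eq_of_inner_coe {u v : Completion V} (h : ∀ x : V, inner ℂ u (x : Completion V) = inner ℂ v (x : Completion V)) :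
    u = v := by
  refine ext_inner_right ℂ fun w => ?_
  refine Completion.induction_on w (isClosed_eq ?_ ?_) h
  · exact Continuous.inner continuous_const continuous_id
  · exact Continuous.inner continuous_const continuous_id

end abstractOp

variable {n : ℕ} {E : Type*} [TopologicalSpace E] [RDom n E]

/-- Multiplication by a smooth function. -/
def mulL (a : E → ℂ) (ha : SmE a) : TF E →ₗ[ℂ] TF E where
  toFun F := TF.mk (fun e => a e * F e) (ha.mul F.sm) F.cs.mul_left
  map_add' F G := TF.ext fun e => by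
    simp only [TF.mk_apply, TF.add_apply]; ring
  map_smul' c F := TF.ext fun e => by
    simp only [TF.mk_apply, TF.smul_apply, RingHom.id_apply]; ring

theorem mulL_apply (a : E → ℂ) (ha : SmE a) (F : TF E) (e : E) : mulL a ha F e = a e * F e := rfl

variable [T2Space E]

/-- `∂/∂z_k` on test functions. -/
def dL (k : Fin n) : TF E →ₗ[ℂ] TF E where
  toFun F := TF.mk (d k F) (F.sm.d k) (d_cs F.cs k)
  map_add' F G := TF.ext fun e => d_add k F.sm G.sm e
  map_smul' c F := TF.ext fun e => d_const_mul k F.sm c e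

/-- `∂/∂\bar z_k` on test functions. -/
def dbL (k : Fin n) : TF E →ₗ[ℂ] TF E where
  toFun F := TF.mk (db k F) (F.sm.db k) (db_cs F.cs k)
  map_add' F G := TF.ext fun e => db_add k F.sm G.sm e
  map_smul' c F := TF.ext fun e => db_const_mul k F.sm c e

theorem dL_apply (k : Fin n) (F : TF E) (e : E) : dL k F e = d k F e := rfl
theorem dbL_apply (k : Fin n) (F : TF E) (e : E) : dbL k F e = db k F e := rfl
theorem dL_val (k : Fin n) (F : TF E) : (dL k F).fn = d k F.fn := rfl
theorem dbL_val (k : Fin n) (F : TF E) : (dbL k F).fn = db k F.fn := rfl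

theorem dL_dL_comm (j k : Fin n) (F : TF E) : dL j (dL k F) = dL k (dL j F) :=
  TF.ext fun e => d_d_comm j k F.sm e

theorem dbL_dL_comm (j k : Fin n) (F : TF E) : dbL j (dL k F) = dL k (dbL j F) :=
  TF.ext fun e => db_d_comm j k F.sm e

theorem dbL_dbL_comm (j k : Fin n) (F : TF E) : dbL j (dbL k F) = dbL k (dbL j F) :=
  TF.ext fun e => db_db_comm j k F.sm e

theorem norm_le_of_pointwise {F G : TF E} {C : ℝ} (hC : 0 ≤ C) (h : ∀ e, ‖F e‖ ≤ C * ‖G e‖) :
    ‖F‖ ≤ C * ‖G‖ := by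
  refine le_of_sq_le_sq ?_ (by positivity)
  rw [mul_pow, norm_sq, norm_sq]
  have h1 : C ^ 2 * intE (fun e => ‖G e‖ ^ 2) = intE (fun e => C ^ 2 * ‖G e‖ ^ 2) :=
    (intE_map ((ContinuousLinearMap.mul ℝ ℝ) (C ^ 2)) (cs_normSq G.cs) (cont_normSq G.cont)).symm
  rw [h1]
  refine intE_mono (cs_normSq F.cs) (cont_normSq F.cont) ((cs_normSq G.cs).mul_left)
    (continuous_const.mul (cont_normSq G.cont)) fun e => ?_
  calc ‖F e‖ ^ 2 ≤ (C * ‖G e‖) ^ 2 := by gcongr; exact h e
    _ = C ^ 2 * ‖G e‖ ^ 2 := by ring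

theorem norm_mulL_le {a : E → ℂ} {ha : SmE a} {C : ℝ} (hC : 0 ≤ C) (h : ∀ e, ‖a e‖ ≤ C) (F : TF E) :
    ‖mulL a ha F‖ ≤ C * ‖F‖ :=
  norm_le_of_pointwise hC fun e => by
    rw [mulL_apply, norm_mul]
    gcongr
    exact h e

theorem bdd_mulL {a : E → ℂ} {ha : SmE a} {C : ℝ} (h : ∀ e, ‖a e‖ ≤ C) : Bdd (mulL a ha) := by
  refine ⟨max C 0, norm_mulL_le (le_max_right _ _) fun e => (h e).trans (le_max_left _ _)⟩

theorem TF.exists_bound (a : TF E) : ∃ C, 0 ≤ C ∧ ∀ e, ‖a e‖ ≤ C := by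
  obtain ⟨C, hC⟩ := a.cs.exists_bound_of_continuous a.cont
  exact ⟨max C 0, le_max_right _ _, fun e => (hC e).trans (le_max_left _ _)⟩

/-- Multiplication by a test function. -/
abbrev mulT (a : TF E) : TF E →ₗ[ℂ] TF E := mulL a a.sm

theorem bdd_mulT (a : TF E) : Bdd (mulT a) := by
  obtain ⟨C, _, hC⟩ := TF.exists_bound a
  exact bdd_mulL hC

/-- The complex conjugate of a test function. -/
def TF.conj (a : TF E) : TF E := TF.mk (fun e => conj (a e)) a.sm.conj
  (a.cs.comp_left (g := fun c : ℂ => (starRingEnd ℂ) c) (map_zero _))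

theorem TF.conj_apply (a : TF E) (e : E) : TF.conj a e = (starRingEnd ℂ) (a e) := rfl

theorem inner_mulL {a : E → ℂ} {ha : SmE a} (F G : TF E) :
    inner ℂ (mulL a ha F) G = inner ℂ F (mulL (fun e => (starRingEnd ℂ) (a e)) ha.conj G) := by
  rw [inner_def, inner_def]
  congr 1
  funext e
  simp only [mulL_apply, map_mul]
  ring

theorem inner_mulT (a : TF E) (F G : TF E) :
    inner ℂ (mulT a F) G = inner ℂ F (mulT (TF.conj a) G) := inner_mulL F G

theorem inner_dbL (k : Fin n) (F G : TF E) : inner ℂ (dbL k F) G = - inner ℂ F (dL k G) := by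
  have h1 : HasCompactSupport (fun e => (starRingEnd ℂ) (F e) * G e) := cs_conj_mul G.cs
  have h := intE_d h1 (F.sm.conj.mul G.sm) k
  have h2 : d k (fun e => (starRingEnd ℂ) (F e) * G e) = fun e =>
      (starRingEnd ℂ) (dbL k F e) * G e + (starRingEnd ℂ) (F e) * dL k G e := by
    funext e
    rw [d_mul k F.sm.conj G.sm, d_conj k F.sm]
    rfl
  rw [h2, intE_add (cs_conj_mul G.cs) (cont_conj_mul (dbL k F).cont G.cont) (cs_conj_mul (dL k G).cs)
    (cont_conj_mul F.cont (dL k G).cont)] at h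
  rw [inner_def, inner_def]
  exact eq_neg_of_add_eq_zero_left h

theorem inner_dL (k : Fin n) (F G : TF E) : inner ℂ (dL k F) G = - inner ℂ F (dbL k G) := by
  have h1 : HasCompactSupport (fun e => (starRingEnd ℂ) (F e) * G e) := cs_conj_mul G.cs
  have h := intE_db h1 (F.sm.conj.mul G.sm) k
  have h2 : db k (fun e => (starRingEnd ℂ) (F e) * G e) = fun e =>
      (starRingEnd ℂ) (dL k F e) * G e + (starRingEnd ℂ) (F e) * dbL k G e := by
    funext e
    rw [db_mul k F.sm.conj G.sm, db_conj k F.sm]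
    rfl
  rw [h2, intE_add (cs_conj_mul G.cs) (cont_conj_mul (dL k F).cont G.cont) (cs_conj_mul (dbL k G).cs)
    (cont_conj_mul F.cont (dbL k G).cont)] at h
  rw [inner_def, inner_def]
  exact eq_neg_of_add_eq_zero_left h

section chart

theorem tr_inj {M : Type*} [AddCommMonoid M] {S : Set E} (hS : InjOn (pr : E → Cn n) S) {F : E → M}
    (hF : ∀ x, x ∉ S → F x = 0) {e : E} (he : e ∈ S) : tr F (pr e) = F e := by
  rw [tr, finsum_mem_eq_sum_of_inter_support_eq F (t := {e})]
  · simp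
  · ext x
    simp only [mem_inter_iff, mem_ofPred_eq, Function.mem_support, Finset.coe_singleton,
      mem_singleton_iff]
    constructor
    · rintro ⟨h1, h2⟩
      refine ⟨hS (by by_contra hx; exact h2 (hF x hx)) he h1, h2⟩
    · rintro ⟨h1, h2⟩
      exact ⟨by rw [h1], h2⟩

theorem tr_inj' {M : Type*} [AddCommMonoid M] {S : Set E} {F : E → M}
    (hF : ∀ x, x ∉ S → F x = 0) {z : Cn n} (hz : z ∉ (pr : E → Cn n) '' S) : tr F z = 0 :=
  tr_eq_zero hF hz

theorem tr_self {M : Type*} [AddCommMonoid M] (F : Cn n → M) (z : Cn n) : tr F z = F z :=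
  tr_inj (E := Cn n) (S := univ) (fun _ _ _ _ h => h) (fun _ h => absurd (mem_univ _) h) (mem_univ z)

theorem intE_self {M : Type*} [NormedAddCommGroup M] [NormedSpace ℝ M] (F : Cn n → M) :
    intE F = ∫ z, F z := by
  rw [intE]; congr 1; funext z; exact tr_self F z

/-- `u ↦ tr (θ u)`. -/
def PL (θ : TF E) : TF E →ₗ[ℂ] TF (Cn n) where
  toFun u := TF.mk (tr (fun e => θ e * u e)) ((smE_self_iff _).2 (tr_smooth (mulT θ u).cs (mulT θ u).sm))
    (tr_cs (mulT θ u).cs)
  map_add' u v := TF.ext fun z => by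
    simp only [TF.mk_apply, TF.add_apply]
    refine Eq.trans ?_ (tr_add (mulT θ u).cs (mulT θ v).cs z)
    congr 1; funext e; simp only [mulL_apply]; ring
  map_smul' c u := TF.ext fun z => by
    simp only [TF.mk_apply, TF.smul_apply, RingHom.id_apply]
    have h := tr_map (AddMonoidHom.mulLeft c) (mulT θ u).cs z
    simp only [AddMonoidHom.coe_mulLeft] at h
    rw [show tr (fun e => θ e * u e) z = tr (mulT θ u).fn z from rfl, ← h]
    congr 1; funext e; simp only [mulL_apply]; ring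

theorem PL_apply (θ u : TF E) (z : Cn n) : PL θ u z = tr (fun e => θ e * u e) z := rfl

/-- `v ↦ θ · (v ∘ p)`. -/
def XL (θ : TF E) : TF (Cn n) →ₗ[ℂ] TF E where
  toFun v := TF.mk (fun e => θ e * v (pr e))
    (θ.sm.mul (smE_comp_pr fun e => ((smE_self_iff _).1 v.sm).contDiffAt)) θ.cs.mul_right
  map_add' u v := TF.ext fun z => by
    simp only [TF.mk_apply, TF.add_apply]; ring
  map_smul' c u := TF.ext fun z => by
    simp only [TF.mk_apply, TF.smul_apply, RingHom.id_apply]; ring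

theorem XL_apply (θ : TF E) (v : TF (Cn n)) (e : E) : XL θ v e = θ e * v (pr e) := rfl

variable {S : Set E} (hS : InjOn (pr : E → Cn n) S)

include hS

theorem PL_pr {θ : TF E} (hθ : ∀ x, x ∉ S → θ x = 0) (u : TF E) {e : E} (he : e ∈ S) :
    PL θ u (pr e) = θ e * u e := by
  rw [PL_apply, tr_inj hS (fun x hx => by rw [hθ x hx, zero_mul]) he]

theorem XL_PL {θ θ' : TF E} (hθ : ∀ x, x ∉ S → θ x = 0) (hθ' : ∀ x, x ∉ S → θ' x = 0) (u : TF E) :
    XL θ' (PL θ u) = mulT (mulT θ' θ) u := by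
  refine TF.ext fun e => ?_
  rw [XL_apply, mulL_apply, mulL_apply]
  by_cases he : e ∈ S
  · rw [PL_pr hS hθ u he]; ring
  · rw [hθ' e he]; ring

theorem norm_PL {θ : TF E} (hθ : ∀ x, x ∉ S → θ x = 0) (u : TF E) : ‖PL θ u‖ = ‖mulT θ u‖ := by
  refine (sq_eq_sq₀ (norm_nonneg _) (norm_nonneg _)).1 ?_
  rw [norm_sq, norm_sq, intE_self, intE]
  refine integral_congr_ae (Eventually.of_forall fun z => ?_)
  by_cases hz : z ∈ (pr : E → Cn n) '' S
  · obtain ⟨e, he, rfl⟩ := hz
    simp only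
    rw [PL_pr hS hθ u he, tr_inj hS (fun x hx => by
      rw [mulL_apply, hθ x hx]; simp) he, mulL_apply]
  · simp only
    rw [PL_apply, tr_inj' (fun x hx => by rw [hθ x hx, zero_mul]) hz,
      tr_inj' (fun x hx => by rw [mulL_apply, hθ x hx]; simp) hz]
    simp

theorem bdd_PL {θ : TF E} (hθ : ∀ x, x ∉ S → θ x = 0) : Bdd (PL θ) := by
  obtain ⟨C, hC⟩ := bdd_mulT θ
  exact ⟨C, fun x => by rw [norm_PL hS hθ]; exact hC x⟩

theorem bdd_XL {θ : TF E} (hθ : ∀ x, x ∉ S → θ x = 0) : Bdd (XL θ) := by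
  obtain ⟨C, hC0, hC⟩ := TF.exists_bound θ
  refine ⟨C, fun v => ?_⟩
  refine le_of_sq_le_sq ?_ (by positivity)
  rw [mul_pow, norm_sq, norm_sq, intE_self]
  have h1 : C ^ 2 * ∫ z, ‖v z‖ ^ 2 = ∫ z, C ^ 2 * ‖v z‖ ^ 2 := (integral_const_mul _ _).symm
  rw [h1, intE]
  refine integral_mono (tr_integrable (cs_normSq (XL θ v).cs) (cont_normSq (XL θ v).cont)) ?_ fun z => ?_
  · exact (continuous_const.mul (cont_normSq v.cont)).integrable_of_hasCompactSupport
      ((cs_normSq v.cs).mul_left)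
  by_cases hz : z ∈ (pr : E → Cn n) '' S
  · obtain ⟨e, he, rfl⟩ := hz
    simp only
    rw [tr_inj hS (fun x hx => by rw [XL_apply, hθ x hx]; simp) he, XL_apply, norm_mul, mul_pow]
    gcongr
    exact hC e
  · simp only
    rw [tr_inj' (fun x hx => by rw [XL_apply, hθ x hx]; simp) hz]
    positivity

theorem inner_PL {θ : TF E} (hθ : ∀ x, x ∉ S → θ x = 0) (u : TF E) (v : TF (Cn n)) :
    inner ℂ (PL θ u) v = inner ℂ u (XL (TF.conj θ) v) := by
  rw [inner_def, inner_def, intE_self, intE]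
  refine integral_congr_ae (Eventually.of_forall fun z => ?_)
  by_cases hz : z ∈ (pr : E → Cn n) '' S
  · obtain ⟨e, he, rfl⟩ := hz
    simp only
    rw [PL_pr hS hθ u he, tr_inj hS (fun x hx => by
      rw [XL_apply, TF.conj_apply, hθ x hx]; simp) he, XL_apply, TF.conj_apply, map_mul]
    ring
  · simp only
    rw [PL_apply, tr_inj' (fun x hx => by rw [hθ x hx, zero_mul]) hz,
      tr_inj' (fun x hx => by rw [XL_apply, TF.conj_apply, hθ x hx]; simp) hz]
    simp

omit hS

theorem dL_XL (k : Fin n) (θ : TF E) (v : TF (Cn n)) :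
    dL k (XL θ v) = XL (dL k θ) v + XL θ (dL k v) := by
  refine TF.ext fun e => ?_
  have h1 : SmE (fun e : E => v (pr e)) := smE_comp_pr fun e => ((smE_self_iff _).1 v.sm).contDiffAt
  have h2 : dL k (XL θ v) e = d k (fun e => θ e * v (pr e)) e := rfl
  rw [h2, d_mul k θ.sm h1, d_comp_pr]
  rfl

theorem dbL_XL (k : Fin n) (θ : TF E) (v : TF (Cn n)) :
    dbL k (XL θ v) = XL (dbL k θ) v + XL θ (dbL k v) := by
  refine TF.ext fun e => ?_
  have h1 : SmE (fun e : E => v (pr e)) := smE_comp_pr fun e => ((smE_self_iff _).1 v.sm).contDiffAt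
  have h2 : dbL k (XL θ v) e = db k (fun e => θ e * v (pr e)) e := rfl
  rw [h2, db_mul k θ.sm h1, db_comp_pr]
  rfl

theorem dL_conj (k : Fin n) (θ : TF E) : dL k (TF.conj θ) = TF.conj (dbL k θ) :=
  TF.ext fun e => d_conj k θ.sm e

theorem dbL_conj (k : Fin n) (θ : TF E) : dbL k (TF.conj θ) = TF.conj (dL k θ) :=
  TF.ext fun e => db_conj k θ.sm e

end chart

end Groth.Agent.An.H10.Ops
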