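import Groth.Agent.An.H10.Calc
import Mathlib.Analysis.SpecialFunctions.Log.Deriv

/-!
# Levi forms; the exhaustion function; the logarithmic weight
-/

set_option autoImplicit false
set_option linter.unusedSectionVars false

open scoped ContDiff Topology ComplexConjugate
open Set Filter MeasureTheory UniformSpace

noncomputable section

namespace Groth.Agent.An.H10.Rho

open Groth.Agent.An.H10.Basic Groth.Agent.An.H10.Trace Groth.Agent.An.H10.Test Groth.Agent.An.H10.Ops
  Groth.Agent.An.H10.Dens Groth.Agent.An.H10.Calc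

variable {n : ℕ} {E : Type*} [TopologicalSpace E] [RDom n E] [T2Space E]

/-- The Levi form. -/
def lev (r : E → ℂ) (e : E) (x : Fin n → ℂ) : ℂ := ∑ j, ∑ k, conj (x j) * (db j (d k r) e * x k)

theorem lev_add {r s : E → ℂ} (hr : SmE r) (hs : SmE s) (e : E) (x : Fin n → ℂ) :
    lev (fun e => r e + s e) e x = lev r e x + lev s e x := by
  rw [lev, lev, lev, ← Finset.sum_add_distrib]
  refine Finset.sum_congr rfl fun j _ => ?_
  rw [← Finset.sum_add_distrib]
  refine Finset.sum_congr rfl fun k _ => ?_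
  have h1 : d k (fun e => r e + s e) = fun e => d k r e + d k s e := funext fun e => d_add k hr hs e
  rw [h1, db_add j (hr.d k) (hs.d k)]
  ring

theorem lev_const_mul {r : E → ℂ} (hr : SmE r) (c : ℂ) (e : E) (x : Fin n → ℂ) :
    lev (fun e => c * r e) e x = c * lev r e x := by
  rw [lev, lev, Finset.mul_sum]
  refine Finset.sum_congr rfl fun j _ => ?_
  rw [Finset.mul_sum]
  refine Finset.sum_congr rfl fun k _ => ?_
  have h1 : d k (fun e => c * r e) = fun e => c * d k r e := funext fun e => d_const_mul k hr c e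
  rw [h1, db_const_mul j (hr.d k)]
  ring

theorem lev_sum {ι : Type*} (t : Finset ι) {r : ι → E → ℂ} (hr : ∀ i, SmE (r i)) (e : E) (x : Fin n → ℂ) :
    lev (fun e => ∑ i ∈ t, r i e) e x = ∑ i ∈ t, lev (r i) e x := by
  classical
  induction t using Finset.induction_on with
  | empty =>
    simp only [Finset.sum_empty, lev]
    have h1 : ∀ k, d k (fun _ : E => (0 : ℂ)) = fun _ => 0 := fun k => funext fun e => d_const k 0 e
    simp [h1, db_const]
  | insert i t hi ih =>
    simp only [Finset.sum_insert hi]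
    rw [lev_add (hr i) (SmE.sum fun i _ => hr i), ih]

theorem normSq_sum_eq (y x : Fin n → ℂ) : ((‖∑ k, y k * x k‖ ^ 2 : ℝ) : ℂ) =
    ∑ j, ∑ k, conj (x j) * (conj (y j) * y k * x k) := by
  have h1 : ((‖∑ k, y k * x k‖ ^ 2 : ℝ) : ℂ) = conj (∑ k, y k * x k) * (∑ k, y k * x k) := by
    rw [Complex.conj_mul']; push_cast; rfl
  rw [h1, map_sum, Finset.sum_mul]
  refine Finset.sum_congr rfl fun j _ => ?_
  rw [Finset.mul_sum]
  refine Finset.sum_congr rfl fun k _ => ?_
  rw [map_mul]; ring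

/-- The Levi form of a composition. -/
theorem lev_comp {G : ℝ → ℝ} {r : E → ℝ} (hr : SmR r) (hG : ∀ e, ContDiffAt ℝ ∞ G (r e))
    (hG' : ∀ e, ContDiffAt ℝ ∞ (deriv G) (r e)) (e : E) (x : Fin n → ℂ) :
    lev (fun e => ((G (r e) : ℝ) : ℂ)) e x =
      ((deriv (deriv G) (r e) : ℝ) : ℂ) * ((‖∑ k, d k (fun e => (r e : ℂ)) e * x k‖ ^ 2 : ℝ) : ℂ) +
        ((deriv G (r e) : ℝ) : ℂ) * lev (fun e => (r e : ℂ)) e x := by
  rw [normSq_sum_eq, lev, lev, Finset.mul_sum, Finset.mul_sum, ← Finset.sum_add_distrib]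
  refine Finset.sum_congr rfl fun j _ => ?_
  rw [Finset.mul_sum, Finset.mul_sum, ← Finset.sum_add_distrib]
  refine Finset.sum_congr rfl fun k _ => ?_
  have h1 : d k (fun e => ((G (r e) : ℝ) : ℂ)) =
      fun e => ((deriv G (r e) : ℝ) : ℂ) * d k (fun e => (r e : ℂ)) e := funext fun e => d_comp_real k hr hG e
  have hr' : SmE (fun e => (r e : ℂ)) := hr
  have h2 : SmE (fun e => ((deriv G (r e) : ℝ) : ℂ)) := hr.comp hG'
  rw [h1, db_mul j h2 (hr'.d k), db_comp_real j hr hG', db_eq_conj_d j hr]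
  ring

section rho

variable (D : MvPolynomial (Fin n) ℂ) (hD : ∀ e : E, pe D e ≠ 0)

/-- `1/D`. -/
def gD (e : E) : ℂ := (pe D e)⁻¹

include hD

theorem smE_gD : SmE (gD D : E → ℂ) := SmE.inv (smE_pe D) hD

theorem db_gD (k : Fin n) (e : E) : db k (gD D : E → ℂ) e = 0 := db_inv_hol (smE_pe D) hD (fun e => db_pe k D e) e

theorem d_gD (k : Fin n) (e : E) : d k (gD D : E → ℂ) e = - (gD D e) ^ 2 * pe (MvPolynomial.pderiv k D) e := by
  have h := d_inv (smE_pe D) hD k e
  rw [d_pe] at h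
  exact h

omit hD

/-- The exhaustion function. -/
def rho (e : E) : ℝ := ∑ j, ‖zc j e‖ ^ 2 + ‖gD D e‖ ^ 2

theorem rho_nonneg (e : E) : 0 ≤ rho D e := by unfold rho; positivity

theorem rho_coe : (fun e : E => (rho D e : ℂ)) =
    fun e => ∑ j, zc j e * conj (zc j e) + gD D e * conj (gD D e) := by
  funext e
  simp only [rho, Complex.mul_conj']
  push_cast
  rfl

include hD

theorem smR_rho : SmR (rho D : E → ℝ) := by
  rw [SmR, rho_coe]
  exact (SmE.sum fun j _ => (smE_zc j).mul (smE_zc j).conj).add ((smE_gD D hD).mul (smE_gD D hD).conj)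

theorem d_rho (k : Fin n) : d k (fun e : E => (rho D e : ℂ)) =
    fun e => conj (zc k e) + d k (gD D) e * conj (gD D e) := by
  funext e
  have h1 : ∀ j : Fin n, d k (fun e : E => zc j e * conj (zc j e)) e = if j = k then conj (zc j e) else 0 := by
    intro j
    rw [d_mul k (smE_zc j) (smE_zc j).conj, d_conj k (smE_zc j), d_zc, db_zc]
    by_cases h : j = k <;> simp [h]
  rw [rho_coe, d_add k (SmE.sum fun j _ => (smE_zc j).mul (smE_zc j).conj) ((smE_gD D hD).mul (smE_gD D hD).conj),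
    d_sum k (fun j _ => (smE_zc j).mul (smE_zc j).conj), d_mul k (smE_gD D hD) (smE_gD D hD).conj,
    d_conj k (smE_gD D hD), db_gD D hD]
  simp only [h1, Finset.sum_ite_eq', Finset.mem_univ, if_true]
  simp

theorem db_d_rho (j k : Fin n) (e : E) : db j (d k (fun e : E => (rho D e : ℂ))) e =
    (if k = j then 1 else 0) + conj (d j (gD D) e) * d k (gD D) e := by
  have h0 : db j (gD D : E → ℂ) = fun _ => 0 := funext fun e => db_gD D hD j e
  rw [d_rho D hD, db_add j (smE_zc k).conj (((smE_gD D hD).d k).mul (smE_gD D hD).conj), db_conj j (smE_zc k),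
    d_zc, db_mul j ((smE_gD D hD).d k) (smE_gD D hD).conj, db_d_comm j k (smE_gD D hD), h0, d_const,
    db_conj j (smE_gD D hD)]
  by_cases h : k = j
  · simp [h]; ring
  · simp [h]; ring

theorem lev_rho (e : E) (x : Fin n → ℂ) : lev (fun e : E => (rho D e : ℂ)) e x =
    ((∑ j, ‖x j‖ ^ 2 + ‖∑ k, d k (gD D) e * x k‖ ^ 2 : ℝ) : ℂ) := by
  rw [Complex.ofReal_add, normSq_sum_eq, lev]
  have h1 : ((∑ j, ‖x j‖ ^ 2 : ℝ) : ℂ) = ∑ j, ∑ k, conj (x j) * ((if k = j then 1 else 0) * x k) := by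
    push_cast
    refine Finset.sum_congr rfl fun j _ => ?_
    rw [Finset.sum_eq_single j]
    · rw [if_pos rfl, one_mul, Complex.conj_mul']
    · intro k _ hk; rw [if_neg hk]; ring
    · intro h; exact absurd (Finset.mem_univ j) h
  rw [h1, ← Finset.sum_add_distrib]
  refine Finset.sum_congr rfl fun j _ => ?_
  rw [← Finset.sum_add_distrib]
  refine Finset.sum_congr rfl fun k _ => ?_
  rw [db_d_rho D hD]
  ring

theorem d_rho_bound : ∃ M : ℝ, 0 ≤ M ∧ ∃ m : ℕ, ∀ (k : Fin n) (e : E),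
    ‖d k (fun e : E => (rho D e : ℂ)) e‖ ≤ M * (1 + rho D e) ^ m := by
  choose M hM m hm using fun k : Fin n => norm_eval_le (MvPolynomial.pderiv k D)
  refine ⟨∑ k, (1 + M k * 2 ^ (m k)), Finset.sum_nonneg fun k _ => by have := hM k; positivity,
    ∑ k, (m k + 3), fun k e => ?_⟩
  have hr := rho_nonneg D e
  have h1 : (1 : ℝ) ≤ 1 + rho D e := by linarith
  have hzk : ∀ j, ‖zc j e‖ ≤ 1 + rho D e := by
    intro j
    have h2 : ‖zc j e‖ ^ 2 ≤ ∑ j, ‖zc j e‖ ^ 2 :=
      Finset.single_le_sum (f := fun j => ‖zc j e‖ ^ 2) (fun j _ => by positivity) (Finset.mem_univ j)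
    have h3 : ‖zc j e‖ ^ 2 ≤ rho D e := by unfold rho; nlinarith [sq_nonneg ‖gD D e‖]
    nlinarith [sq_nonneg (‖zc j e‖ - 1), norm_nonneg (zc j e)]
  have hg : ‖gD D e‖ ≤ 1 + rho D e := by
    have h3 : ‖gD D e‖ ^ 2 ≤ rho D e := by
      unfold rho
      have : 0 ≤ ∑ j, ‖zc j e‖ ^ 2 := Finset.sum_nonneg fun j _ => by positivity
      linarith
    nlinarith [sq_nonneg (‖gD D e‖ - 1), norm_nonneg (gD D e)]
  have hpr : ‖(pr e : Cn n)‖ ≤ 1 + rho D e := (pi_norm_le_iff_of_nonneg (by positivity)).2 fun j => hzk j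
  have hP : ‖pe (MvPolynomial.pderiv k D) e‖ ≤ M k * 2 ^ (m k) * (1 + rho D e) ^ (m k) := by
    refine (hm k (pr e)).trans ?_
    rw [mul_assoc, ← mul_pow]
    have := hM k
    gcongr
    linarith
  simp only [d_rho D hD, d_gD D hD]
  have hMk : 0 ≤ M k := hM k
  calc ‖conj (zc k e) + -gD D e ^ 2 * pe (MvPolynomial.pderiv k D) e * conj (gD D e)‖
      ≤ ‖conj (zc k e)‖ + ‖-gD D e ^ 2 * pe (MvPolynomial.pderiv k D) e * conj (gD D e)‖ := norm_add_le _ _
    _ = ‖zc k e‖ + ‖gD D e‖ ^ 2 * ‖pe (MvPolynomial.pderiv k D) e‖ * ‖gD D e‖ := by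
        rw [norm_mul, norm_mul, norm_neg, norm_pow, RCLike.norm_conj, RCLike.norm_conj]
    _ ≤ (1 + rho D e) + (1 + rho D e) ^ 2 * (M k * 2 ^ (m k) * (1 + rho D e) ^ (m k)) * (1 + rho D e) := by
        gcongr
        exact hzk k
    _ = (1 + rho D e) ^ 1 + M k * 2 ^ (m k) * (1 + rho D e) ^ (m k + 3) := by ring
    _ ≤ (1 + rho D e) ^ (m k + 3) + M k * 2 ^ (m k) * (1 + rho D e) ^ (m k + 3) := by
        have := pow_le_pow_right₀ h1 (show 1 ≤ m k + 3 by omega)
        linarith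
    _ = (1 + M k * 2 ^ (m k)) * (1 + rho D e) ^ (m k + 3) := by ring
    _ ≤ (∑ k, (1 + M k * 2 ^ (m k))) * (1 + rho D e) ^ (∑ k, (m k + 3)) := by
        have e1 := Finset.single_le_sum (f := fun k => 1 + M k * 2 ^ (m k))
            (fun k _ => by have := hM k; positivity) (Finset.mem_univ k)
        have e2 := Finset.single_le_sum (f := fun k => m k + 3) (fun k _ => by positivity) (Finset.mem_univ k)
        have e3 := pow_le_pow_right₀ h1 e2
        exact mul_le_mul e1 e3 (by positivity) (le_trans (by positivity) e1)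

end rho

section phi

variable (c : Cn n)

/-- `|z_j - c_j|²`. -/
def tt (j : Fin n) (e : E) : ℝ := ‖zc j e - c j‖ ^ 2

theorem tt_nonneg (j : Fin n) (e : E) : 0 ≤ tt c j e := by unfold tt; positivity

theorem smE_zcc (j : Fin n) : SmE (fun e : E => zc j e - c j) := (smE_zc j).sub (smE_const _)

theorem tt_coe (j : Fin n) : (fun e : E => (tt c j e : ℂ)) = fun e => (zc j e - c j) * conj (zc j e - c j) := by
  funext e
  simp only [tt, Complex.mul_conj']
  push_cast
  rfl

theorem smR_tt (j : Fin n) : SmR (tt c j : E → ℝ) := by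
  rw [SmR, tt_coe]
  exact (smE_zcc c j).mul (smE_zcc c j).conj

theorem d_zcc (j k : Fin n) (e : E) : d k (fun e : E => zc j e - c j) e = if j = k then 1 else 0 := by
  rw [d_sub k (smE_zc j) (smE_const _), d_zc, d_const, sub_zero]

theorem db_zcc (j k : Fin n) (e : E) : db k (fun e : E => zc j e - c j) e = 0 := by
  rw [db_sub k (smE_zc j) (smE_const _), db_zc, db_const, sub_zero]

theorem d_tt (j k : Fin n) : d k (fun e : E => (tt c j e : ℂ)) =
    fun e => (if j = k then 1 else 0) * conj (zc j e - c j) := by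
  funext e
  rw [tt_coe, d_mul k (smE_zcc c j) (smE_zcc c j).conj, d_conj k (smE_zcc c j), d_zcc, db_zcc]
  simp

theorem db_d_tt (i j k : Fin n) (e : E) : db i (d k (fun e : E => (tt c j e : ℂ))) e =
    (if j = k then 1 else 0) * (if j = i then 1 else 0) := by
  rw [d_tt, db_const_mul i (smE_zcc c j).conj, db_conj i (smE_zcc c j), d_zcc]
  by_cases h : j = i <;> simp [h]

theorem lev_tt (j : Fin n) (e : E) (x : Fin n → ℂ) : lev (fun e : E => (tt c j e : ℂ)) e x = ((‖x j‖ ^ 2 : ℝ) : ℂ) := by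
  rw [lev, Finset.sum_eq_single j]
  · rw [Finset.sum_eq_single j]
    · rw [db_d_tt]
      simp only [if_true, one_mul]
      rw [Complex.conj_mul']; push_cast; rfl
    · intro k _ hk
      rw [db_d_tt, if_neg (Ne.symm hk)]; ring
    · intro h; exact absurd (Finset.mem_univ j) h
  · intro i _ hi
    refine Finset.sum_eq_zero fun k _ => ?_
    rw [db_d_tt, if_neg (Ne.symm hi)]; ring
  · intro h; exact absurd (Finset.mem_univ j) h

theorem contDiffAt_log {t : ℝ} (ht : 0 ≤ t) : ContDiffAt ℝ ∞ (fun t : ℝ => Real.log (1 + t)) t :=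
  (contDiffAt_const.add contDiffAt_id).log (by simp only [id]; linarith)

theorem deriv_log {t : ℝ} (ht : -1 < t) : deriv (fun t : ℝ => Real.log (1 + t)) t = (1 + t)⁻¹ := by
  have h1 : HasDerivAt (fun t : ℝ => 1 + t) 1 t := (hasDerivAt_id t).const_add 1
  have h0 : (1 : ℝ) + t ≠ 0 := by have : 0 < 1 + t := by linarith
                                  exact this.ne'
  have h2 := h1.log h0
  rw [h2.deriv]; simp

theorem deriv_log_eventually {t : ℝ} (ht : -1 < t) :
    deriv (fun t : ℝ => Real.log (1 + t)) =ᶠ[𝓝 t] fun t => (1 + t)⁻¹ := by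
  filter_upwards [isOpen_Ioi.mem_nhds ht] with x hx
  exact deriv_log hx

theorem contDiffAt_deriv_log {t : ℝ} (ht : 0 ≤ t) :
    ContDiffAt ℝ ∞ (deriv (fun t : ℝ => Real.log (1 + t))) t := by
  have h1 : ContDiffAt ℝ ∞ (fun t : ℝ => (1 + t)⁻¹) t :=
    (contDiffAt_const.add contDiffAt_id).inv (by simp only [id]; linarith)
  exact h1.congr_of_eventuallyEq (deriv_log_eventually (by linarith))

theorem deriv_deriv_log {t : ℝ} (ht : 0 ≤ t) :
    deriv (deriv (fun t : ℝ => Real.log (1 + t))) t = - ((1 + t)⁻¹) ^ 2 := by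
  rw [(deriv_log_eventually (t := t) (by linarith)).deriv_eq]
  have h1 : HasDerivAt (fun t : ℝ => 1 + t) 1 t := (hasDerivAt_id t).const_add 1
  have h0 : (1 : ℝ) + t ≠ 0 := by have : 0 < 1 + t := by linarith
                                  exact this.ne'
  have h2 := h1.inv h0
  have h3 := h2.deriv
  rw [show (fun t : ℝ => (1 + t)⁻¹) = (fun t : ℝ => 1 + t)⁻¹ from rfl, h3]
  field_simp

/-- The logarithmic weight. -/
def phi (e : E) : ℝ := ∑ j, Real.log (1 + tt c j e)

theorem smR_log (j : Fin n) : SmR (fun e : E => Real.log (1 + tt c j e)) :=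
  (smR_tt c j).comp (G := fun t => Real.log (1 + t)) fun e => contDiffAt_log (tt_nonneg c j e)

theorem phi_coe : (fun e : E => (phi c e : ℂ)) = fun e => ∑ j, ((Real.log (1 + tt c j e) : ℝ) : ℂ) := by
  funext e; simp [phi]

theorem smR_phi : SmR (phi c : E → ℝ) := by
  rw [SmR, phi_coe]
  exact SmE.sum fun j _ => smR_log c j

theorem lev_phi (e : E) (x : Fin n → ℂ) : lev (fun e : E => (phi c e : ℂ)) e x =
    ((∑ j, ‖((1 + tt c j e)⁻¹ : ℝ) * x j‖ ^ 2 : ℝ) : ℂ) := by
  rw [phi_coe, lev_sum _ (fun j => smR_log c j)]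
  push_cast
  refine Finset.sum_congr rfl fun j _ => ?_
  have h := lev_comp (E := E) (G := fun t => Real.log (1 + t)) (smR_tt c j)
    (fun e => contDiffAt_log (tt_nonneg c j e)) (fun e => contDiffAt_deriv_log (tt_nonneg c j e)) e x
  rw [h, lev_tt, deriv_deriv_log (tt_nonneg c j e), deriv_log (by have := tt_nonneg c j e; linarith)]
  have h2 : ∑ k, d k (fun e : E => (tt c j e : ℂ)) e * x k = conj (zc j e - c j) * x j := by
    rw [Finset.sum_eq_single j]
    · rw [d_tt]; simp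
    · intro k _ hk
      rw [d_tt, if_neg (Ne.symm hk)]; ring
    · intro h; exact absurd (Finset.mem_univ j) h
  have h3 : ‖zc j e - c j‖ ^ 2 = tt c j e := rfl
  have h4 : (0 : ℝ) < 1 + tt c j e := by have := tt_nonneg c j e; linarith
  have h5 : ‖(((1 + tt c j e)⁻¹ : ℝ) : ℂ)‖ = (1 + tt c j e)⁻¹ := by
    rw [Complex.norm_real, Real.norm_of_nonneg (by positivity)]
  rw [h2, norm_mul, RCLike.norm_conj, mul_pow, h3]
  have h6 : -(1 + tt c j e)⁻¹ ^ 2 * (tt c j e * ‖x j‖ ^ 2) + (1 + tt c j e)⁻¹ * ‖x j‖ ^ 2 =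
      ‖(((1 + tt c j e)⁻¹ : ℝ) : ℂ) * x j‖ ^ 2 := by
    rw [norm_mul, h5]
    field_simp
    ring
  have h7 := congrArg (fun r : ℝ => (r : ℂ)) h6
  push_cast at h7 ⊢
  exact h7

end phi

end Groth.Agent.An.H10.Rho
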