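import Groth.Agent.An.H10.Trace
import Mathlib.Analysis.InnerProductSpace.Completion
import Mathlib.Analysis.Normed.Operator.Extend

/-!
# Test functions on a Riemann domain

`TF E = C_c^∞(E)`, a pre-Hilbert space with `⟪F, G⟫ = ∫ \bar F G`, its completion `H E`.
-/

set_option autoImplicit false
set_option linter.unusedSectionVars false

open scoped ContDiff Topology ComplexConjugate
open Set Filter MeasureTheory UniformSpace

noncomputable section

namespace Groth.Agent.An.H10.Test

open Groth.Agent.An.H10.Basic Groth.Agent.An.H10.Trace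

variable {n : ℕ} {E : Type*} [TopologicalSpace E] [RDom n E]

section IBP

theorem integral_fderiv_eq_zero {g : Cn n → ℂ} (hg : HasCompactSupport g) (hs : ContDiff ℝ ∞ g) (v : Cn n) :
    ∫ z, fderiv ℝ g z v = 0 := by
  have h1 : Continuous (fun z => fderiv ℝ g z v) :=
    ((hs.continuous_fderiv (by simp)).clm_apply continuous_const)
  have h2 : HasCompactSupport (fun z => fderiv ℝ g z v) := hg.fderiv_apply ℝ v
  have h3 : Integrable (fun z => fderiv ℝ g z v) := h1.integrable_of_hasCompactSupport h2
  have h4 : Integrable g := hs.continuous.integrable_of_hasCompactSupport hg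
  have h := integral_mul_fderiv_eq_neg_fderiv_mul_of_integrable (𝕜 := ℂ) (f := fun _ : Cn n => (1 : ℂ)) (g := g)
    (v := v) (μ := volume) (by simp) (by simpa using h3) (by simpa using h4)
    (fun _ _ => differentiableAt_const _) (fun x _ => hs.differentiable (by simp) x)
  simpa using h

variable [T2Space E]

theorem fd_cs {F : E → ℂ} (hF : HasCompactSupport F) (v : Cn n) : HasCompactSupport (fun e => fd F e v) :=
  hF.mono' fun e he => by
    by_contra hcon
    exact he (by simp [support_fd_subset F e hcon])

theorem intE_fd {F : E → ℂ} (hF : HasCompactSupport F) (hc : SmE F) (v : Cn n) :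
    intE (fun e => fd F e v) = 0 := by
  rw [intE, ← integral_fderiv_eq_zero (tr_cs hF) (tr_smooth hF hc) v]
  refine integral_congr_ae (Eventually.of_forall fun z => ?_)
  exact (tr_fd hF hc z v).symm

theorem d_cs {F : E → ℂ} (hF : HasCompactSupport F) (j : Fin n) : HasCompactSupport (d j F) :=
  hF.mono' fun e he => by
    by_contra hcon
    exact he (by simp [d, support_fd_subset F e hcon])

theorem db_cs {F : E → ℂ} (hF : HasCompactSupport F) (j : Fin n) : HasCompactSupport (db j F) :=
  hF.mono' fun e he => by
    by_contra hcon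
    exact he (by simp [db, support_fd_subset F e hcon])

/-- Multiplication by a complex number, as a real continuous linear map. -/
def mulC (c : ℂ) : ℂ →L[ℝ] ℂ := (ContinuousLinearMap.mul ℝ ℂ) c

theorem intE_const_mul (c : ℂ) {F : E → ℂ} (hF : HasCompactSupport F) (hc : Continuous F) :
    intE (fun e => c * F e) = c * intE F :=
  intE_map (mulC c) hF hc

theorem intE_comb {F G : E → ℂ} (a b : ℂ) (hF : HasCompactSupport F) (hc : Continuous F)
    (hG : HasCompactSupport G) (hc' : Continuous G) :
    intE (fun e => a * F e + b * G e) = a * intE F + b * intE G := by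
  have h1 : HasCompactSupport (fun e => a * F e) := hF.mul_left
  have h2 : HasCompactSupport (fun e => b * G e) := hG.mul_left
  rw [intE_add h1 (continuous_const.mul hc) h2 (continuous_const.mul hc'), intE_const_mul _ hF hc,
    intE_const_mul _ hG hc']

theorem intE_d {F : E → ℂ} (hF : HasCompactSupport F) (hc : SmE F) (j : Fin n) : intE (d j F) = 0 := by
  have h : d j F = fun e => (1/2) * fd F e (Pi.single j 1) + (-Complex.I/2) * fd F e (Pi.single j Complex.I) := by
    funext e; simp only [d]; ring
  rw [h, intE_comb _ _ (fd_cs hF _) (hc.fd _).continuous (fd_cs hF _) (hc.fd _).continuous,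
    intE_fd hF hc, intE_fd hF hc]
  simp

theorem intE_db {F : E → ℂ} (hF : HasCompactSupport F) (hc : SmE F) (j : Fin n) : intE (db j F) = 0 := by
  have h : db j F = fun e => (1/2) * fd F e (Pi.single j 1) + (Complex.I/2) * fd F e (Pi.single j Complex.I) := by
    funext e; simp only [db]; ring
  rw [h, intE_comb _ _ (fd_cs hF _) (hc.fd _).continuous (fd_cs hF _) (hc.fd _).continuous,
    intE_fd hF hc, intE_fd hF hc]
  simp

end IBP

variable (E) in
/-- The space of test functions, as a submodule. -/
def tfSub : Submodule ℂ (E → ℂ) where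
  carrier := {F | SmE F ∧ HasCompactSupport F}
  add_mem' := fun {F G} hF hG => ⟨hF.1.add hG.1, hF.2.add hG.2⟩
  zero_mem' := ⟨smE_const 0, HasCompactSupport.zero⟩
  smul_mem' := fun c F hF => ⟨hF.1.const_mul c, hF.2.mul_left (f := fun _ => c)⟩

variable (E) in
/-- Test functions. -/
def TF : Type _ := ↥(tfSub E)

instance : AddCommGroup (TF E) := inferInstanceAs (AddCommGroup ↥(tfSub E))

instance : Module ℂ (TF E) := inferInstanceAs (Module ℂ ↥(tfSub E))

namespace TF

/-- The underlying function. -/
def fn (F : TF E) : E → ℂ := fun e => (show ↥(tfSub E) from F).1 e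

instance : CoeFun (TF E) (fun _ => E → ℂ) := ⟨TF.fn⟩

theorem sm (F : TF E) : SmE F.fn := (show ↥(tfSub E) from F).2.1

theorem cs (F : TF E) : HasCompactSupport F.fn := (show ↥(tfSub E) from F).2.2

theorem cont (F : TF E) : Continuous F.fn := F.sm.continuous

theorem ext {F G : TF E} (h : ∀ e, F e = G e) : F = G := Subtype.ext (funext h)

theorem add_val (F G : TF E) : (F + G).fn = fun e => F e + G e := rfl
theorem add_apply (F G : TF E) (e : E) : (F + G) e = F e + G e := rfl
theorem sub_apply (F G : TF E) (e : E) : (F - G) e = F e - G e := rfl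
theorem neg_apply (F : TF E) (e : E) : (-F) e = - F e := rfl
theorem smul_apply (c : ℂ) (F : TF E) (e : E) : (c • F) e = c * F e := rfl
theorem zero_apply (e : E) : (0 : TF E) e = 0 := rfl

theorem sum_val {ι : Type*} (t : Finset ι) (F : ι → TF E) : (∑ i ∈ t, F i).fn = fun e => ∑ i ∈ t, F i e := by
  classical
  induction t using Finset.induction_on with
  | empty => rfl
  | insert i t hi ih =>
    rw [Finset.sum_insert hi, add_val, ih]
    funext e
    rw [Finset.sum_insert hi]

theorem sum_apply {ι : Type*} (t : Finset ι) (F : ι → TF E) (e : E) : (∑ i ∈ t, F i) e = ∑ i ∈ t, F i e := by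
  rw [sum_val]

/-- Make a test function. -/
def mk (F : E → ℂ) (h1 : SmE F) (h2 : HasCompactSupport F) : TF E := (⟨F, h1, h2⟩ : ↥(tfSub E))

theorem mk_apply (F : E → ℂ) (h1 : SmE F) (h2 : HasCompactSupport F) (e : E) : mk F h1 h2 e = F e := rfl

end TF

section inner

variable [T2Space E]

theorem cs_conj_mul {F G : E → ℂ} (hG : HasCompactSupport G) :
    HasCompactSupport (fun e => conj (F e) * G e) := hG.mul_left

theorem cont_conj_mul {F G : E → ℂ} (hF : Continuous F) (hG : Continuous G) :
    Continuous (fun e => conj (F e) * G e) := (Complex.continuous_conj.comp hF).mul hG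

theorem intE_ofReal {F : E → ℝ} (hF : HasCompactSupport F) (hc : Continuous F) :
    intE (fun e => (F e : ℂ)) = ((intE F : ℝ) : ℂ) :=
  intE_map Complex.ofRealCLM hF hc

theorem cs_normSq {F : E → ℂ} (hF : HasCompactSupport F) : HasCompactSupport (fun e => ‖F e‖ ^ 2) :=
  hF.comp_left (g := fun c : ℂ => ‖c‖ ^ 2) (by simp)

theorem cont_normSq {F : E → ℂ} (hF : Continuous F) : Continuous (fun e => ‖F e‖ ^ 2) :=
  hF.norm.pow 2

/-- The inner product on test functions. -/
def ip (F G : TF E) : ℂ := intE (fun e => conj (F e) * G e)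

theorem ip_self (F : TF E) : ip F F = ((intE (fun e => ‖F e‖ ^ 2) : ℝ) : ℂ) := by
  rw [← intE_ofReal (cs_normSq F.cs) (cont_normSq F.cont), ip]
  congr 1
  funext e
  rw [Complex.conj_mul']
  push_cast
  rfl

/-- The inner product core. -/
def core : InnerProductSpace.Core ℂ (TF E) where
  inner := ip
  conj_inner_symm F G := by
    have h := intE_map (Complex.conjCLE.toContinuousLinearMap) (cs_conj_mul (F := G.fn) F.cs)
      (cont_conj_mul G.cont F.cont)
    refine (Eq.trans ?_ h.symm).trans ?_
    · rfl
    · rw [ip]
      congr 1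
      funext e
      simp [mul_comm]
  re_inner_nonneg F := by
    rw [ip_self]
    simp only [RCLike.re_to_complex, Complex.ofReal_re]
    exact intE_nonneg fun e => by positivity
  add_left F G K := by
    rw [ip, ip, ip, ← intE_add (cs_conj_mul K.cs) (cont_conj_mul F.cont K.cont) (cs_conj_mul K.cs)
      (cont_conj_mul G.cont K.cont)]
    congr 1
    funext e
    rw [TF.add_apply, map_add, add_mul]
  smul_left F G c := by
    rw [ip, ip, ← intE_const_mul (conj c) (cs_conj_mul (F := F.fn) G.cs) (cont_conj_mul F.cont G.cont)]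
    congr 1
    funext e
    rw [TF.smul_apply, map_mul, mul_assoc]
  definite F hF := by
    rw [ip_self] at hF
    refine TF.ext fun e => ?_
    have h := eq_zero_of_intE (cs_normSq F.cs) (cont_normSq F.cont) (fun e => by positivity)
      (by exact_mod_cast hF) e
    rw [TF.zero_apply]
    simpa using h

instance : NormedAddCommGroup (TF E) := @InnerProductSpace.Core.toNormedAddCommGroup ℂ (TF E) _ _ _ core

instance : InnerProductSpace ℂ (TF E) := InnerProductSpace.ofCore core.toCore

theorem inner_def (F G : TF E) : inner ℂ F G = intE (fun e => conj (F e) * G e) := rfl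

theorem norm_sq (F : TF E) : ‖F‖ ^ 2 = intE (fun e => ‖F e‖ ^ 2) := by
  have h := inner_self_eq_norm_sq_to_K (𝕜 := ℂ) F
  rw [inner_def] at h
  have h2 := ip_self F
  rw [ip] at h2
  rw [h2] at h
  have h3 : ((intE (fun e => ‖F e‖ ^ 2) : ℝ) : ℂ) = ((‖F‖ ^ 2 : ℝ) : ℂ) := by
    rw [h]; push_cast; rfl
  exact (Complex.ofReal_injective h3).symm

end inner

end Groth.Agent.An.H10.Test
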