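import Groth.Agent.An.H10.Basic

/-!
# Fibre sums

`tr F z = ∑_{p e = z} F e` for `F : E → M` with compact support, on a Hausdorff Riemann domain `E`
over `ℂⁿ`, and the integral `intE F = ∫ tr F`.
-/

set_option autoImplicit false

open scoped ContDiff Topology
open Set Filter MeasureTheory

noncomputable section

namespace Groth.Agent.An.H10.Trace

open Groth.Agent.An.H10.Basic

variable {n : ℕ} {E : Type*} [TopologicalSpace E] [RDom n E]

/-- The fibre sum. -/
def tr {M : Type*} [AddCommMonoid M] (F : E → M) (z : Cn n) : M := ∑ᶠ e ∈ {e : E | pr e = z}, F e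

theorem exists_sheets [T2Space E] {K : Set E} (hK : IsCompact K) (z0 : Cn n) :
    ∃ (t : Finset E) (φ : E → OpenPartialHomeomorph E (Cn n)) (N : Set (Cn n)),
      IsOpen N ∧ z0 ∈ N ∧ (∀ e ∈ t, IsCh (φ e) ∧ N ⊆ (φ e).target) ∧
      (∀ e ∈ t, ∀ e' ∈ t, e ≠ e' → Disjoint (φ e).source (φ e').source) ∧
      (∀ x ∈ K, pr x ∈ N → ∃ e ∈ t, x ∈ (φ e).source) := by
  classical
  have hS : IsCompact (K ∩ {x : E | pr x = z0}) :=
    hK.inter_right (isClosed_singleton.preimage continuous_pr)
  obtain ⟨t0, ht0, ht0'⟩ := hS.elim_nhds_subcover (fun e => (ch e).source)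
    (fun e _ => (ch e).open_source.mem_nhds (mem_ch e))
  have hsub : K ∩ {x : E | pr x = z0} ⊆ (t0 : Set E) := by
    intro x hx
    have h1 := ht0' hx
    simp only [mem_iUnion] at h1
    obtain ⟨e, he, hxe⟩ := h1
    have h2 : pr e = z0 := (ht0 e he).2
    have h3 : (ch e).symm (pr x) = x := (isCh_ch e).symm_pr hxe
    have h4 : (ch e).symm (pr e) = e := (isCh_ch e).symm_pr (mem_ch e)
    have h5 : x = e := by
      refine h3.symm.trans (Eq.trans ?_ h4)
      rw [h2, show pr x = z0 from hx.2]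
    rw [h5]; exact he
  have hfin : (K ∩ {x : E | pr x = z0}).Finite := t0.finite_toSet.subset hsub
  obtain ⟨U, hU, hU'⟩ := hfin.t2_separation
  set t : Finset E := hfin.toFinset with ht
  set φ : E → OpenPartialHomeomorph E (Cn n) := fun e => (ch e).restrOpen (U e) (hU e).2 with hφ
  have hφs : ∀ e, (φ e).source = (ch e).source ∩ U e := fun e => rfl
  have hφc : ∀ e, IsCh (φ e) := by
    intro e x hx
    exact isCh_ch e x hx.1
  have hmem : ∀ e, e ∈ (φ e).source := fun e => ⟨mem_ch e, (hU e).1⟩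
  set K' : Set E := K \ ⋃ e ∈ t, (φ e).source with hK'
  have hK'c : IsCompact K' := hK.diff (isOpen_biUnion fun e _ => (φ e).open_source)
  refine ⟨t, φ, (⋂ e ∈ t, (φ e).target) ∩ (pr '' K')ᶜ, ?_, ⟨?_, ?_⟩, ?_, ?_, ?_⟩
  · exact (isOpen_biInter_finset fun e _ => (φ e).open_target).inter
      (hK'c.image continuous_pr).isClosed.isOpen_compl
  · simp only [mem_iInter]
    intro e he
    have h1 : pr e = z0 := ((hfin.mem_toFinset).1 he).2
    rw [← h1]
    exact (hφc e).pr_mem (hmem e)
  · rintro ⟨x, hx, hx'⟩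
    have h1 : x ∈ t := (hfin.mem_toFinset).2 ⟨hx.1, hx'⟩
    exact hx.2 (mem_biUnion h1 (hmem x))
  · intro e he
    refine ⟨hφc e, fun z hz => ?_⟩
    have h1 := hz.1
    simp only [mem_iInter] at h1
    exact h1 e he
  · intro e he e' he' hne
    have h1 := hU' ((hfin.mem_toFinset).1 he) ((hfin.mem_toFinset).1 he') hne
    exact h1.mono inter_subset_right inter_subset_right
  · intro x hx hxN
    by_contra hcon
    push Not at hcon
    refine hxN.2 ⟨x, ⟨hx, ?_⟩, rfl⟩
    simp only [mem_iUnion, not_exists]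
    exact hcon

theorem tr_eq_sum {M : Type*} [AddCommMonoid M] {K : Set E} {F : E → M} (hF : ∀ x, x ∉ K → F x = 0)
    {t : Finset E} {φ : E → OpenPartialHomeomorph E (Cn n)} {N : Set (Cn n)}
    (h1 : ∀ e ∈ t, IsCh (φ e) ∧ N ⊆ (φ e).target)
    (h2 : ∀ e ∈ t, ∀ e' ∈ t, e ≠ e' → Disjoint (φ e).source (φ e').source)
    (h3 : ∀ x ∈ K, pr x ∈ N → ∃ e ∈ t, x ∈ (φ e).source) {z : Cn n} (hz : z ∈ N) :
    tr F z = ∑ e ∈ t, F ((φ e).symm z) := by
  classical
  have hinj : ∀ e ∈ t, ∀ e' ∈ t, (φ e).symm z = (φ e').symm z → e = e' := by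
    intro e he e' he' h
    by_contra hne
    have h4 := h2 e he e' he' hne
    have h5 : (φ e).symm z ∈ (φ e).source := (φ e).map_target ((h1 e he).2 hz)
    have h6 : (φ e).symm z ∈ (φ e').source := by
      rw [h]; exact (φ e').map_target ((h1 e' he').2 hz)
    exact (Set.disjoint_left.1 h4) h5 h6
  rw [tr, finsum_mem_eq_sum_of_inter_support_eq F (t := t.image fun e => (φ e).symm z)]
  · rw [Finset.sum_image hinj]
  · ext x
    simp only [mem_inter_iff, mem_ofPred_eq, Function.mem_support, Finset.coe_image, mem_image,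
      Finset.mem_coe]
    constructor
    · rintro ⟨hx, hx'⟩
      have hxK : x ∈ K := by
        by_contra hcon
        exact hx' (hF x hcon)
      obtain ⟨e, he, hxe⟩ := h3 x hxK (by rw [hx]; exact hz)
      refine ⟨⟨e, he, ?_⟩, hx'⟩
      rw [← hx]
      exact (h1 e he).1.symm_pr hxe
    · rintro ⟨⟨e, he, hxe⟩, hx'⟩
      refine ⟨?_, hx'⟩
      rw [← hxe]
      exact (h1 e he).1.pr_symm ((h1 e he).2 hz)

theorem finite_fibre [T2Space E] {K : Set E} (hK : IsCompact K) (z : Cn n) :
    ({e : E | pr e = z} ∩ K).Finite := by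
  classical
  obtain ⟨t, φ, N, hN, hz, h1, h2, h3⟩ := exists_sheets hK z
  refine (t.finite_toSet.image (fun e => (φ e).symm z)).subset ?_
  rintro x ⟨hx, hxK⟩
  obtain ⟨e, he, hxe⟩ := h3 x hxK (by rw [show pr x = z from hx]; exact hz)
  refine ⟨e, he, ?_⟩
  simp only
  rw [← show pr x = z from hx]
  exact (h1 e he).1.symm_pr hxe

theorem finite_support [T2Space E] {M : Type*} [AddCommMonoid M] {F : E → M}
    (hF : HasCompactSupport F) (z : Cn n) : ({e : E | pr e = z} ∩ Function.support F).Finite :=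
  (finite_fibre hF z).subset (inter_subset_inter_right _ subset_closure)

theorem tr_add [T2Space E] {M : Type*} [AddCommMonoid M] {F G : E → M}
    (hF : HasCompactSupport F) (hG : HasCompactSupport G) (z : Cn n) :
    tr (fun e => F e + G e) z = tr F z + tr G z :=
  finsum_mem_add_distrib' (finite_support hF z) (finite_support hG z)

theorem tr_map [T2Space E] {M M' : Type*} [AddCommMonoid M] [AddCommMonoid M'] (g : M →+ M') {F : E → M}
    (hF : HasCompactSupport F) (z : Cn n) : tr (fun e => g (F e)) z = g (tr F z) :=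
  (g.map_finsum_mem' (finite_support hF z)).symm

theorem tr_eq_zero {M : Type*} [AddCommMonoid M] {F : E → M} {K : Set E}
    (hF : ∀ x, x ∉ K → F x = 0) {z : Cn n} (hz : z ∉ (pr : E → Cn n) '' K) : tr F z = 0 := by
  rw [tr]
  refine finsum_mem_eq_zero_of_forall_eq_zero ?_
  intro x hx
  exact hF x (fun h => hz ⟨x, h, hx⟩)

theorem tr_zero {M : Type*} [AddCommMonoid M] (z : Cn n) : tr (fun _ : E => (0 : M)) z = 0 :=
  finsum_mem_eq_zero_of_forall_eq_zero fun _ _ => rfl

theorem tr_cs [T2Space E] {M : Type*} [AddCommMonoid M] {F : E → M}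
    (hF : HasCompactSupport F) : HasCompactSupport (tr F : Cn n → M) := by
  refine HasCompactSupport.intro (hF.image (continuous_pr (E := E))) ?_
  intro z hz
  exact tr_eq_zero (fun x hx => image_eq_zero_of_notMem_tsupport hx) hz

theorem tr_continuous [T2Space E] {M : Type*} [AddCommMonoid M] [TopologicalSpace M] [ContinuousAdd M]
    {F : E → M} (hF : HasCompactSupport F) (hc : Continuous F) : Continuous (tr F : Cn n → M) := by
  rw [continuous_iff_continuousAt]
  intro z
  obtain ⟨t, φ, N, hN, hz, h1, h2, h3⟩ := exists_sheets hF z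
  have h4 : (tr F : Cn n → M) =ᶠ[𝓝 z] fun z => ∑ e ∈ t, F ((φ e).symm z) := by
    filter_upwards [hN.mem_nhds hz] with y hy
    exact tr_eq_sum (fun x hx => image_eq_zero_of_notMem_tsupport hx) h1 h2 h3 hy
  refine ContinuousAt.congr ?_ h4.symm
  refine tendsto_finsetSum _ fun e he => ?_
  exact hc.continuousAt.comp ((φ e).continuousAt_symm ((h1 e he).2 hz))

theorem tr_smooth [T2Space E] {F : E → ℂ} (hF : HasCompactSupport F) (hc : SmE F) :
    ContDiff ℝ ∞ (tr F : Cn n → ℂ) := by
  rw [contDiff_iff_contDiffAt]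
  intro z
  obtain ⟨t, φ, N, hN, hz, h1, h2, h3⟩ := exists_sheets hF z
  have h4 : (tr F : Cn n → ℂ) =ᶠ[𝓝 z] fun z => ∑ e ∈ t, F ((φ e).symm z) := by
    filter_upwards [hN.mem_nhds hz] with y hy
    exact tr_eq_sum (fun x hx => image_eq_zero_of_notMem_tsupport hx) h1 h2 h3 hy
  refine ContDiffAt.congr_of_eventuallyEq ?_ h4
  exact ContDiffAt.sum fun e he => (h1 e he).1.contDiffAt hc ((h1 e he).2 hz)

theorem support_fd_subset (F : E → ℂ) (e : E) (he : e ∉ tsupport F) : fd F e = 0 := by
  have h : F =ᶠ[𝓝 e] fun _ => 0 := by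
    rw [notMem_tsupport_iff_eventuallyEq] at he
    exact he
  rw [fd_congr h, fd_const]

theorem tr_fd [T2Space E] {F : E → ℂ} (hF : HasCompactSupport F) (hc : SmE F) (z v : Cn n) :
    fderiv ℝ (tr F : Cn n → ℂ) z v = tr (fun e => fd F e v) z := by
  obtain ⟨t, φ, N, hN, hz, h1, h2, h3⟩ := exists_sheets hF z
  have h4 : (tr F : Cn n → ℂ) =ᶠ[𝓝 z] fun z => ∑ e ∈ t, (F ∘ (φ e).symm) z := by
    filter_upwards [hN.mem_nhds hz] with y hy
    exact tr_eq_sum (fun x hx => image_eq_zero_of_notMem_tsupport hx) h1 h2 h3 hy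
  rw [h4.fderiv_eq, fderiv_fun_sum (fun e he =>
    ((h1 e he).1.contDiffAt hc ((h1 e he).2 hz)).differentiableAt (by simp))]
  rw [tr_eq_sum (K := tsupport F) (F := fun e => fd F e v) (fun x hx => by
    rw [support_fd_subset F x hx]; rfl) h1 h2 h3 hz]
  rw [_root_.sum_apply]
  refine Finset.sum_congr rfl fun e he => ?_
  rw [(h1 e he).1.fd_symm F ((h1 e he).2 hz)]

/-- The integral over `E`. -/
def intE {M : Type*} [NormedAddCommGroup M] [NormedSpace ℝ M] (F : E → M) : M := ∫ z : Cn n, tr F z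

section intE

variable [T2Space E] {M : Type*} [NormedAddCommGroup M] [NormedSpace ℝ M]

theorem tr_integrable {F : E → M} (hF : HasCompactSupport F) (hc : Continuous F) :
    Integrable (tr F : Cn n → M) :=
  (tr_continuous hF hc).integrable_of_hasCompactSupport (tr_cs hF)

theorem intE_add {F G : E → M} (hF : HasCompactSupport F) (hc : Continuous F)
    (hG : HasCompactSupport G) (hc' : Continuous G) : intE (fun e => F e + G e) = intE F + intE G := by
  have h : (tr (fun e => F e + G e) : Cn n → M) = fun z => tr F z + tr G z := by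
    funext z; exact tr_add hF hG z
  rw [intE, h, integral_add (tr_integrable hF hc) (tr_integrable hG hc')]
  rfl

theorem intE_map {M' : Type*} [NormedAddCommGroup M'] [NormedSpace ℝ M'] [CompleteSpace M] [CompleteSpace M']
    (L : M →L[ℝ] M') {F : E → M} (hF : HasCompactSupport F) (hc : Continuous F) :
    intE (fun e => L (F e)) = L (intE F) := by
  have h : (tr (fun e => L (F e)) : Cn n → M') = fun z => L (tr F z) := by
    funext z; exact tr_map (L : M →+ M') hF z
  rw [intE, h, L.integral_comp_comm (tr_integrable hF hc)]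
  rfl

theorem intE_zero : intE (fun _ : E => (0 : M)) = 0 := by
  rw [intE]
  simp [tr_zero]

theorem tr_nonneg {F : E → ℝ} (h : ∀ e, 0 ≤ F e) (z : Cn n) : 0 ≤ tr F z := by
  rw [tr]
  exact finsum_nonneg fun e => finsum_nonneg fun _ => h e

theorem tr_mono {F G : E → ℝ} (hF : HasCompactSupport F) (hG : HasCompactSupport G)
    (h : ∀ e, F e ≤ G e) (z : Cn n) : tr F z ≤ tr G z := by
  have h1 : tr (fun e => G e + (-F e)) z = tr G z + tr (fun e => - F e) z := tr_add hG hF.neg z
  have h2 : tr (fun e => - F e) z = - tr F z := tr_map (-AddMonoidHom.id ℝ) hF z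
  have h3 : 0 ≤ tr (fun e => G e + (-F e)) z := tr_nonneg (fun e => by linarith [h e]) z
  linarith

theorem intE_nonneg {F : E → ℝ} (h : ∀ e, 0 ≤ F e) : 0 ≤ intE F :=
  integral_nonneg fun z => tr_nonneg h z

theorem intE_mono {F G : E → ℝ} (hF : HasCompactSupport F) (hc : Continuous F)
    (hG : HasCompactSupport G) (hc' : Continuous G) (h : ∀ e, F e ≤ G e) : intE F ≤ intE G :=
  integral_mono (tr_integrable hF hc) (tr_integrable hG hc') (fun z => tr_mono hF hG h z)

theorem le_tr {F : E → ℝ} (hF : HasCompactSupport F) (h : ∀ e, 0 ≤ F e) (e : E) : F e ≤ tr F (pr e) := by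
  classical
  rw [tr, finsum_mem_eq_sum _ (finite_support hF (pr e))]
  by_cases he : F e = 0
  · rw [he]; exact Finset.sum_nonneg fun i _ => h i
  · exact Finset.single_le_sum (f := F) (fun i _ => h i)
      (((finite_support hF (pr e)).mem_toFinset).2 ⟨rfl, he⟩)

theorem eq_zero_of_intE {F : E → ℝ} (hF : HasCompactSupport F) (hc : Continuous F)
    (h : ∀ e, 0 ≤ F e) (h0 : intE F = 0) (e : E) : F e = 0 := by
  have h1 : (tr F : Cn n → ℝ) =ᵐ[volume] 0 :=
    (integral_eq_zero_iff_of_nonneg (fun z => tr_nonneg h z) (tr_integrable hF hc)).1 h0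
  have h2 : (tr F : Cn n → ℝ) = 0 :=
    (Continuous.ae_eq_iff_eq _ (tr_continuous hF hc) continuous_zero).1 h1
  have h3 := le_tr hF h e
  rw [h2] at h3
  exact le_antisymm h3 (h e)

end intE

end Groth.Agent.An.H10.Trace
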