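import Groth.Agent.An.H10.Rho
import Groth.Agent.An.H10.OneVar

/-!
# The weights, the cutoffs and the existence theorem with truncated weights
-/

set_option autoImplicit false
set_option linter.unusedSectionVars false

open scoped ContDiff Topology ComplexConjugate
open Set Filter MeasureTheory UniformSpace

noncomputable section

namespace Groth.Agent.An.H10.Wts

open Groth.Agent.An.H10.Basic Groth.Agent.An.H10.Trace Groth.Agent.An.H10.Test Groth.Agent.An.H10.Ops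
  Groth.Agent.An.H10.Dens Groth.Agent.An.H10.Dens2 Groth.Agent.An.H10.Dens3 Groth.Agent.An.H10.Exist
  Groth.Agent.An.H10.Est Groth.Agent.An.H10.Lam Groth.Agent.An.H10.Calc Groth.Agent.An.H10.Rho
  Groth.Agent.An.H10.OneVar

variable {n : ℕ} {E : Type*} [TopologicalSpace E] [RDom n E] [T2Space E]
variable (D : MvPolynomial (Fin n) ℂ) (hD : ∀ e : E, pe D e ≠ 0)

/-- `ψ/2` on `E`. -/
def bE (A : ℝ) (m : ℕ) (e : E) : ℂ := ((bb A m (rho D e) : ℝ) : ℂ)

/-- `φ'/2` on `E`. -/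
def aE (c : Cn n) (N : ℝ) (A B : ℝ) (p : ℕ) (e : E) : ℂ :=
  (((N * phi c e + xx A B p (rho D e)) / 2 : ℝ) : ℂ)

/-- The multiplier for the Levi form of the logarithmic weight. -/
def qE (c : Cn n) (N : ℝ) (j : Fin n) (e : E) : ℂ := ((Real.sqrt N * (1 + tt c j e)⁻¹ : ℝ) : ℂ)

theorem smE_qE (c : Cn n) (N : ℝ) (j : Fin n) : SmE (qE c N j : E → ℂ) := by
  have h : SmR (fun e : E => Real.sqrt N * (1 + tt c j e)⁻¹) :=
    (smR_tt c j).comp (G := fun t => Real.sqrt N * (1 + t)⁻¹) fun e => by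
      have h0 : (1 : ℝ) + tt c j e ≠ 0 := by
        have := tt_nonneg c j e
        have h1 : 0 < 1 + tt c j e := by linarith
        exact h1.ne'
      exact contDiffAt_const.mul ((contDiffAt_const.add contDiffAt_id).inv h0)
  exact h

theorem qE_real (c : Cn n) (N : ℝ) (j : Fin n) (e : E) : conj (qE c N j e) = qE c N j e := Complex.conj_ofReal _

theorem qE_ne (c : Cn n) {N : ℝ} (hN : 0 < N) (j : Fin n) (e : E) : qE c N j e ≠ 0 := by
  rw [qE]
  have h1 := tt_nonneg c j e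
  have h2 : 0 < Real.sqrt N := Real.sqrt_pos.2 hN
  have h3 : 0 < Real.sqrt N * (1 + tt c j e)⁻¹ := by positivity
  exact_mod_cast h3.ne'

include hD

theorem smE_bE (A : ℝ) (m : ℕ) : SmE (bE D A m : E → ℂ) :=
  (smR_rho D hD).comp (G := bb A m) fun e => bb_contDiffAt A m (rho_nonneg D e)

theorem smR_xx (A B : ℝ) (p : ℕ) : SmR (fun e : E => xx A B p (rho D e)) :=
  (smR_rho D hD).comp (G := xx A B p) fun _ => (xx_contDiff A B p).contDiffAt

theorem aE_two (c : Cn n) (N A B : ℝ) (p : ℕ) : (fun e : E => 2 * aE D c N A B p e) =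
    fun e => (N : ℂ) * (phi c e : ℂ) + ((xx A B p (rho D e) : ℝ) : ℂ) := by
  funext e
  simp only [aE]
  push_cast
  ring

theorem smE_aE (c : Cn n) (N A B : ℝ) (p : ℕ) : SmE (aE D c N A B p : E → ℂ) := by
  have h1 : (aE D c N A B p : E → ℂ) = fun e => (1 / 2) * ((N : ℂ) * (phi c e : ℂ) + ((xx A B p (rho D e) : ℝ) : ℂ)) := by
    funext e
    simp only [aE]
    push_cast
    ring
  rw [h1]
  have h2 : SmE (fun e : E => (phi c e : ℂ)) := smR_phi c
  exact ((h2.const_mul _).add (smR_xx D hD A B p)).const_mul _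

omit hD in
theorem aE_real (c : Cn n) (N A B : ℝ) (p : ℕ) (e : E) : conj (aE D c N A B p e) = aE D c N A B p e :=
  Complex.conj_ofReal _

omit hD in
theorem bE_real (A : ℝ) (m : ℕ) (e : E) : conj (bE D A m e) = bE D A m e := Complex.conj_ofReal _

theorem d_bE (A : ℝ) (m : ℕ) (k : Fin n) (e : E) :
    d k (bE D A m : E → ℂ) e = ((deriv (bb A m) (rho D e) : ℝ) : ℂ) * d k (fun e : E => (rho D e : ℂ)) e :=
  d_comp_real k (smR_rho D hD) (fun e => bb_contDiffAt A m (rho_nonneg D e)) e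

omit hD in
theorem norm_sum_mul_sq_le (y x : Fin n → ℂ) : ‖∑ k, y k * x k‖ ^ 2 ≤ (∑ k, ‖y k‖ ^ 2) * (∑ k, ‖x k‖ ^ 2) := by
  calc ‖∑ k, y k * x k‖ ^ 2 ≤ (∑ k, ‖y k‖ * ‖x k‖) ^ 2 := by
        gcongr
        exact (norm_sum_le _ _).trans (Finset.sum_le_sum fun k _ => (norm_mul _ _).le)
    _ ≤ _ := Finset.sum_mul_sq_le_sq_mul_sq _ _ _

/-- Positivity of the Levi form of the weights. -/
theorem pos_wt {M : ℝ} {m : ℕ} (hM : ∀ (k : Fin n) (e : E), ‖d k (fun e : E => (rho D e : ℂ)) e‖ ≤ M * (1 + rho D e) ^ m)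
    (c : Cn n) {N : ℝ} (hN : 0 < N) (A : ℝ) (e : E) (x : Fin n → ℂ) :
    ∑ j, ‖qE c N j e * x j‖ ^ 2 + 2 * ‖∑ k, 2 * d k (bE D A m : E → ℂ) e * x k‖ ^ 2 ≤
      (∑ j, ∑ k, conj (x j) * (2 * db j (d k (aE D c N A (8 * m ^ 2 * (1 + Cth) ^ 2 * (n * M ^ 2)) (2 * m + 2) : E → ℂ)) e
        * x k)).re := by
  set B : ℝ := 8 * m ^ 2 * (1 + Cth) ^ 2 * (n * M ^ 2) with hB
  have hCth := Cth_nonneg
  have hr := rho_nonneg D e
  have hB0 : 0 ≤ B := by positivity
  have h1 : ∑ j, ∑ k, conj (x j) * (2 * db j (d k (aE D c N A B (2 * m + 2) : E → ℂ)) e * x k) =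
      lev (fun e : E => 2 * aE D c N A B (2 * m + 2) e) e x := by
    rw [lev_const_mul (smE_aE D hD c N A B _), lev, Finset.mul_sum]
    refine Finset.sum_congr rfl fun j _ => ?_
    rw [Finset.mul_sum]
    refine Finset.sum_congr rfl fun k _ => ?_
    ring
  have hphi : SmE (fun e : E => (phi c e : ℂ)) := smR_phi c
  have h2 : lev (fun e : E => 2 * aE D c N A B (2 * m + 2) e) e x =
      ((N * (∑ j, ‖((1 + tt c j e)⁻¹ : ℝ) * x j‖ ^ 2) + (deriv (xd A B (2 * m + 2)) (rho D e) *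
        ‖∑ k, d k (fun e : E => (rho D e : ℂ)) e * x k‖ ^ 2 + xd A B (2 * m + 2) (rho D e) *
        (∑ j, ‖x j‖ ^ 2 + ‖∑ k, d k (gD D) e * x k‖ ^ 2)) : ℝ) : ℂ) := by
    rw [aE_two D hD, lev_add (hphi.const_mul _) (smR_xx D hD A B _), lev_const_mul hphi, lev_phi,
      lev_comp (smR_rho D hD) (G := xx A B (2 * m + 2)) (fun _ => (xx_contDiff A B _).contDiffAt)
      (fun _ => by rw [deriv_xx]; exact (xd_contDiff A B _).contDiffAt), lev_rho D hD, deriv_xx]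
    push_cast
    ring
  rw [h1, h2, Complex.ofReal_re]
  have h3 : ∑ j, ‖qE c N j e * x j‖ ^ 2 = N * (∑ j, ‖((1 + tt c j e)⁻¹ : ℝ) * x j‖ ^ 2) := by
    rw [Finset.mul_sum]
    refine Finset.sum_congr rfl fun j _ => ?_
    rw [qE, Complex.ofReal_mul, mul_assoc, norm_mul, mul_pow, Complex.norm_real, Real.norm_eq_abs, sq_abs,
      Real.sq_sqrt hN.le]
  have h4 : 2 * ‖∑ k, 2 * d k (bE D A m : E → ℂ) e * x k‖ ^ 2 ≤
      xd A B (2 * m + 2) (rho D e) * (∑ j, ‖x j‖ ^ 2) := by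
    have h5 : ∑ k, 2 * d k (bE D A m : E → ℂ) e * x k =
        ((2 * deriv (bb A m) (rho D e) : ℝ) : ℂ) * ∑ k, d k (fun e : E => (rho D e : ℂ)) e * x k := by
      rw [Finset.mul_sum]
      refine Finset.sum_congr rfl fun k _ => ?_
      rw [d_bE D hD]
      push_cast
      ring
    have h6 : ‖∑ k, d k (fun e : E => (rho D e : ℂ)) e * x k‖ ^ 2 ≤
        (n * M ^ 2 * (1 + rho D e) ^ (2 * m)) * (∑ j, ‖x j‖ ^ 2) := by
      refine (norm_sum_mul_sq_le _ _).trans ?_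
      gcongr
      calc ∑ k, ‖d k (fun e : E => (rho D e : ℂ)) e‖ ^ 2 ≤ ∑ _k : Fin n, (M * (1 + rho D e) ^ m) ^ 2 := by
            gcongr with k
            exact hM k e
        _ = n * M ^ 2 * (1 + rho D e) ^ (2 * m) := by
            rw [Finset.sum_const, Finset.card_univ, Fintype.card_fin, nsmul_eq_mul]
            ring
    rw [h5, norm_mul, mul_pow, Complex.norm_real, Real.norm_eq_abs, sq_abs]
    calc 2 * ((2 * deriv (bb A m) (rho D e)) ^ 2 * ‖∑ k, d k (fun e : E => (rho D e : ℂ)) e * x k‖ ^ 2)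
        ≤ 2 * ((2 * deriv (bb A m) (rho D e)) ^ 2 * ((n * M ^ 2 * (1 + rho D e) ^ (2 * m)) * (∑ j, ‖x j‖ ^ 2))) := by
          gcongr
      _ = (8 * (deriv (bb A m) (rho D e)) ^ 2 * ((n * M ^ 2) * (1 + rho D e) ^ (2 * m))) * (∑ j, ‖x j‖ ^ 2) := by ring
      _ ≤ xd A B (2 * m + 2) (rho D e) * (∑ j, ‖x j‖ ^ 2) := by
          gcongr
          exact bb_xd A m (by positivity) hr
  have h7 : 0 ≤ deriv (xd A B (2 * m + 2)) (rho D e) * ‖∑ k, d k (fun e : E => (rho D e : ℂ)) e * x k‖ ^ 2 :=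
    mul_nonneg (deriv_xd_nonneg A hB0 _ hr) (by positivity)
  have h8 : 0 ≤ xd A B (2 * m + 2) (rho D e) * ‖∑ k, d k (gD D) e * x k‖ ^ 2 :=
    mul_nonneg (xd_nonneg A hB0 _ hr) (by positivity)
  rw [h3]
  nlinarith

end Groth.Agent.An.H10.Wts
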