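import Groth.Agent.An.H10.Wts
import Mathlib.Order.Filter.Ultrafilter.Basic
import Mathlib.Topology.MetricSpace.ProperSpace

/-!
# Cutoffs, existence with truncated weights, and the limit
-/

set_option autoImplicit false
set_option linter.unusedSectionVars false

open scoped ContDiff Topology ComplexConjugate
open Set Filter MeasureTheory UniformSpace

noncomputable section

namespace Groth.Agent.An.H10.Wts2

open Groth.Agent.An.H10.Basic Groth.Agent.An.H10.Trace Groth.Agent.An.H10.Test Groth.Agent.An.H10.Ops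
  Groth.Agent.An.H10.Dens Groth.Agent.An.H10.Dens2 Groth.Agent.An.H10.Dens3 Groth.Agent.An.H10.Exist
  Groth.Agent.An.H10.Est Groth.Agent.An.H10.Lam Groth.Agent.An.H10.Calc Groth.Agent.An.H10.Rho
  Groth.Agent.An.H10.OneVar Groth.Agent.An.H10.Wts

variable {n : ℕ} {E : Type*} [TopologicalSpace E] [RDom n E] [T2Space E]
variable (D : MvPolynomial (Fin n) ℂ) (hD : ∀ e : E, pe D e ≠ 0)
  (hK : ∀ R : ℝ, IsCompact {e : E | rho D e ≤ R})

/-- The step used in the cutoffs. -/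
def st (ν : ℕ) (r : ℝ) : ℝ := th (ν + 1 - r)

theorem st_contDiff (ν : ℕ) : ContDiff ℝ ∞ (st ν) := by
  unfold st
  exact th_contDiff.comp (contDiff_const.sub contDiff_id)

theorem deriv_st (ν : ℕ) (r : ℝ) : deriv (st ν) r = - deriv th (ν + 1 - r) := by
  have h3 : HasDerivAt (fun t : ℝ => ν + 1 - t) (-1) r := (hasDerivAt_id r).const_sub _
  have h4 := (th_differentiable (ν + 1 - r)).hasDerivAt
  have h5 := h4.comp r h3
  have h6 : HasDerivAt (st ν) (deriv th (ν + 1 - r) * -1) r := h5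
  rw [h6.deriv]; ring

theorem deriv_st_le (ν : ℕ) (r : ℝ) : |deriv (st ν) r| ≤ Cth := by
  rw [deriv_st, abs_neg]; exact deriv_th_le _

theorem st_zero {ν : ℕ} {r : ℝ} (h : (ν : ℝ) + 1 ≤ r) : st ν r = 0 := th_zero (by linarith)

theorem st_one {ν : ℕ} {r : ℝ} (h : r ≤ ν) : st ν r = 1 := th_one (by linarith)

theorem deriv_st_zero {ν : ℕ} {r : ℝ} (h : r < ν) : deriv (st ν) r = 0 := by
  rw [deriv_st, deriv_th_of_gt (by linarith), neg_zero]

include hK in
theorem st_cs (ν : ℕ) : HasCompactSupport (fun e : E => ((st ν (rho D e) : ℝ) : ℂ)) :=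
  HasCompactSupport.intro (hK (ν + 1)) fun e he => by
    have h : (ν : ℝ) + 1 ≤ rho D e := le_of_lt (not_le.1 he)
    rw [st_zero h]; simp

/-- The cutoff functions. -/
def eta (ν : ℕ) : TF E := TF.mk (fun e : E => ((st ν (rho D e) : ℝ) : ℂ))
  ((smR_rho D hD).comp (G := st ν) fun _ => (st_contDiff ν).contDiffAt) (st_cs D hK ν)

theorem eta_apply (ν : ℕ) (e : E) : eta D hD hK ν e = ((st ν (rho D e) : ℝ) : ℂ) := rfl

theorem dL_eta (ν : ℕ) (k : Fin n) (e : E) : dL k (eta D hD hK ν) e =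
    ((deriv (st ν) (rho D e) : ℝ) : ℂ) * d k (fun e : E => (rho D e : ℂ)) e :=
  d_comp_real k (smR_rho D hD) (fun _ => (st_contDiff ν).contDiffAt) e

theorem dbL_eta (ν : ℕ) (k : Fin n) (e : E) : dbL k (eta D hD hK ν) e =
    ((deriv (st ν) (rho D e) : ℝ) : ℂ) * conj (d k (fun e : E => (rho D e : ℂ)) e) := by
  rw [← db_eq_conj_d k (smR_rho D hD)]
  exact db_comp_real k (smR_rho D hD) (fun _ => (st_contDiff ν).contDiffAt) e

theorem eta_est {M : ℝ} (hM0 : 0 ≤ M) {m : ℕ} (hM : ∀ (k : Fin n) (e : E), ‖d k (fun e : E => (rho D e : ℂ)) e‖ ≤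
    M * (1 + rho D e) ^ m) {A : ℝ} (hA : 0 ≤ A) (ν : ℕ) (k : Fin n) (e : E) :
    Real.exp (- bb A m (rho D e)) * (|deriv (st ν) (rho D e)| * ‖d k (fun e : E => (rho D e : ℂ)) e‖) ≤
      Cth * (M * (2 + A) ^ m) := by
  have hr := rho_nonneg D e
  have hC := Cth_nonneg
  have h1 : |deriv (st ν) (rho D e)| * ‖d k (fun e : E => (rho D e : ℂ)) e‖ ≤ Cth * (M * (1 + rho D e) ^ m) :=
    mul_le_mul (deriv_st_le ν _) (hM k e) (norm_nonneg _) hC
  rcases le_or_gt (A + 1) (rho D e) with h | h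
  · rw [bb_eq_log m h]
    have h2 : Real.exp (-(m * Real.log (1 + rho D e))) = ((1 + rho D e) ^ m)⁻¹ := by
      rw [Real.exp_neg, Real.exp_nat_mul, Real.exp_log (by linarith)]
    rw [h2]
    have h3 : (0 : ℝ) < (1 + rho D e) ^ m := by positivity
    have h4 : (1 : ℝ) ≤ (2 + A) ^ m := one_le_pow₀ (by linarith)
    calc ((1 + rho D e) ^ m)⁻¹ * (|deriv (st ν) (rho D e)| * ‖d k (fun e : E => (rho D e : ℂ)) e‖)
        ≤ ((1 + rho D e) ^ m)⁻¹ * (Cth * (M * (1 + rho D e) ^ m)) := by gcongr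
      _ = Cth * (M * 1) := by field_simp
      _ ≤ Cth * (M * (2 + A) ^ m) := by gcongr
  · have h2 : Real.exp (- bb A m (rho D e)) ≤ 1 := by
      rw [Real.exp_le_one_iff]
      have := bb_nonneg A m hr
      linarith
    calc Real.exp (- bb A m (rho D e)) * (|deriv (st ν) (rho D e)| * ‖d k (fun e : E => (rho D e : ℂ)) e‖)
        ≤ 1 * (Cth * (M * (1 + rho D e) ^ m)) := by gcongr
      _ ≤ Cth * (M * (2 + A) ^ m) := by
        rw [one_mul]
        have h5 := pow_le_pow_left₀ (show (0 : ℝ) ≤ 1 + rho D e by linarith)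
          (show 1 + rho D e ≤ 2 + A by linarith) m
        exact mul_le_mul_of_nonneg_left (mul_le_mul_of_nonneg_left h5 hM0) hC

/-- The cutoffs for the weights. -/
def cutoffs {M : ℝ} (hM0 : 0 ≤ M) {m : ℕ} (hM : ∀ (k : Fin n) (e : E), ‖d k (fun e : E => (rho D e : ℂ)) e‖ ≤
    M * (1 + rho D e) ^ m) {A : ℝ} (hA : 0 ≤ A) {a : E → ℂ} (ha : SmE a) (ra : ∀ e, conj (a e) = a e) :
    Cutoffs (wt a (bE D A m) ha (smE_bE D hD A m) ra (bE_real D A m)) where
  η := eta D hD hK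
  C := max 1 (Cth * (M * (2 + A) ^ m))
  b1 := fun ν e => by
    refine le_trans ?_ (le_max_left _ _)
    rw [eta_apply, Complex.norm_real, Real.norm_eq_abs]
    exact abs_th_le _
  b2 := fun ν k e => by
    refine le_trans (le_of_eq ?_) ((eta_est D hM0 hM hA ν k e).trans (le_max_right _ _))
    have h1 : ((wt a (bE D A m) ha (smE_bE D hD A m) ra (bE_real D A m)).w1 e)⁻¹ *
        (wt a (bE D A m) ha (smE_bE D hD A m) ra (bE_real D A m)).w2 e = ((Real.exp (- bb A m (rho D e)) : ℝ) : ℂ) := by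
      simp only [wt]
      rw [← Complex.exp_neg, ← Complex.exp_add, Complex.ofReal_exp, bE]
      congr 1
      push_cast
      ring
    rw [← mul_assoc, h1, dL_eta, norm_mul, norm_mul, Complex.norm_real, Complex.norm_real, Real.norm_eq_abs,
      Real.norm_eq_abs, abs_of_pos (Real.exp_pos _)]
  b3 := fun ν k e => by
    refine le_trans (le_of_eq ?_) ((eta_est D hM0 hM hA ν k e).trans (le_max_right _ _))
    have h1 : (wt a (bE D A m) ha (smE_bE D hD A m) ra (bE_real D A m)).w3 e *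
        ((wt a (bE D A m) ha (smE_bE D hD A m) ra (bE_real D A m)).w2 e)⁻¹ = ((Real.exp (- bb A m (rho D e)) : ℝ) : ℂ) := by
      simp only [wt]
      rw [← Complex.exp_neg, ← Complex.exp_add, Complex.ofReal_exp, bE]
      congr 1
      push_cast
      ring
    rw [← mul_assoc, h1, dbL_eta, norm_mul, norm_mul, Complex.norm_real, Complex.norm_real, Real.norm_eq_abs,
      Real.norm_eq_abs, abs_of_pos (Real.exp_pos _), RCLike.norm_conj]
  ev := fun K hKc => by
    have hcont : Continuous (fun e : E => rho D e) := by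
      have h1 : Continuous (fun e : E => ((rho D e : ℝ) : ℂ)) := (smR_rho D hD).continuous
      have h2 := Complex.continuous_re.comp h1
      exact h2
    obtain ⟨R, hR⟩ := (hKc.image hcont).bddAbove
    obtain ⟨N, hN⟩ := exists_nat_gt R
    filter_upwards [eventually_ge_atTop N] with ν hν e he
    have h1 : rho D e < ν := by
      have h2 : rho D e ≤ R := hR ⟨e, he, rfl⟩
      have h3 : (N : ℝ) ≤ ν := by exact_mod_cast hν
      linarith
    refine ⟨?_, fun k => ?_, fun k => ?_⟩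
    · rw [eta_apply, st_one h1.le]; simp
    · rw [dL_eta, deriv_st_zero h1]; simp
    · rw [dbL_eta, deriv_st_zero h1]; simp

/-- The final weight `e^{φ/2}`. -/
def wN (c : Cn n) (N : ℝ) (e : E) : ℂ := Complex.exp (((N * phi c e / 2 : ℝ) : ℂ))

theorem smE_phiN (c : Cn n) (N : ℝ) : SmE (fun e : E => (((N * phi c e / 2 : ℝ) : ℂ))) := by
  have h : SmR (fun e : E => N * phi c e / 2) :=
    (smR_phi c).comp (G := fun t => N * t / 2) fun _ => (contDiffAt_const.mul contDiffAt_id).div_const _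
  exact h

theorem smE_wN (c : Cn n) (N : ℝ) : SmE (wN c N : E → ℂ) := SmE.exp (smE_phiN c N)

theorem wN_ne (c : Cn n) (N : ℝ) (e : E) : wN c N e ≠ 0 := Complex.exp_ne_zero _

/-- The constant `C²`. -/
def CC (c : Cn n) {N : ℝ} (hN : 0 < N) (α : Fin n → TF E) : ℝ :=
  ∑ k, ‖mulL _ (SmE.inv (smE_qE c N k) (qE_ne c hN k)) (mulL _ (SmE.inv (smE_wN c N) (wN_ne c N)) (α k))‖ ^ 2

theorem CC_nonneg (c : Cn n) {N : ℝ} (hN : 0 < N) (α : Fin n → TF E) : 0 ≤ CC c hN α := by
  unfold CC; positivity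

include hD hK in
/-- Existence with truncated weights. -/
theorem exists_Lam_A (c : Cn n) {N : ℝ} (hN : 0 < N) {A : ℝ} (hA : 0 ≤ A) (α : Fin n → TF E)
    (hα : ∀ j k, dbL j (α k) = dbL k (α j)) (hsupp : ∀ k e, A - 1 < rho D e → α k e = 0) :
    ∃ Λ : TF E →ₗ[ℂ] ℂ, (∀ k v, Λ (dL k v) = - inner ℂ (α k) v) ∧
      ∀ w : TF E, (∀ e, A - 1 < rho D e → w e = 0) →
        ‖Λ w‖ ≤ Real.sqrt 2 * Real.sqrt (CC c hN α) * ‖mulL _ (smE_wN c N) w‖ := by
  obtain ⟨M, hM0, m, hM⟩ := d_rho_bound D hD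
  set B : ℝ := 8 * m ^ 2 * (1 + Cth) ^ 2 * (n * M ^ 2) with hB
  have ha := smE_aE D hD c N A B (2 * m + 2)
  have hb := smE_bE D hD A m
  have ra := aE_real (E := E) D c N A B (2 * m + 2)
  have rb := bE_real (E := E) D A m
  have hexp : ∀ e : E, rho D e ≤ A - 1 →
      Complex.exp (bE D A m e + (bE D A m e - aE D c N A B (2 * m + 2) e)) = (wN c N e)⁻¹ := by
    intro e he
    rw [wN, ← Complex.exp_neg]
    congr 1
    rw [bE, aE, bb_eq_zero m (by linarith), xx_eq_zero _ _ (rho_nonneg D e) he]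
    push_cast
    ring
  obtain ⟨Λ, h1, h2⟩ := exists_Lam ha hb ra rb (cutoffs D hD hK hM0 hM hA ha ra)
    (q := qE c N) (smE_qE c N) (qE_real c N) (qE_ne c hN) (pos_wt D hD hM c hN A) α hα
    (C := Real.sqrt (CC c hN α)) (Real.sqrt_nonneg _) (by
      rw [Real.sq_sqrt (CC_nonneg c hN α), CC]
      refine Finset.sum_le_sum fun k _ => le_of_eq ?_
      congr 3
      refine TF.ext fun e => ?_
      rw [mulL_apply, mulL_apply]
      by_cases he : rho D e ≤ A - 1
      · rw [hexp e he]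
      · rw [hsupp k e (not_le.1 he)]; ring)
  refine ⟨Λ, h1, fun w hw => ?_⟩
  refine (h2 w).trans (le_of_eq ?_)
  congr 2
  refine TF.ext fun e => ?_
  rw [mulL_apply, mulL_apply]
  by_cases he : rho D e ≤ A - 1
  · have h3 : ((wt (aE D c N A B (2 * m + 2)) (bE D A m) ha hb ra rb).w1 e)⁻¹ = wN c N e := by
      simp only [wt]
      rw [hexp e he, inv_inv]
    rw [h3]
  · rw [hw e (not_le.1 he)]; ring

include hD hK in
/-- **Existence.** -/
theorem exists_Lam_lim (c : Cn n) {N : ℝ} (hN : 0 < N) (α : Fin n → TF E)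
    (hα : ∀ j k, dbL j (α k) = dbL k (α j)) :
    ∃ Λ : TF E →ₗ[ℂ] ℂ, (∀ k v, Λ (dL k v) = - inner ℂ (α k) v) ∧
      ∀ w : TF E, ‖Λ w‖ ≤ Real.sqrt 2 * Real.sqrt (CC c hN α) * ‖mulL _ (smE_wN c N) w‖ := by
  have hcont : Continuous (fun e : E => rho D e) := by
    have h1 : Continuous (fun e : E => ((rho D e : ℝ) : ℂ)) := (smR_rho D hD).continuous
    have h2 := Complex.continuous_re.comp h1
    exact h2
  have hbd : ∀ w : TF E, ∃ R : ℝ, ∀ e, R < rho D e → w e = 0 := by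
    intro w
    obtain ⟨R, hR⟩ := (w.cs.image hcont).bddAbove
    refine ⟨R, fun e he => zero_of fun h => ?_⟩
    exact absurd (hR ⟨e, h, rfl⟩) (not_le.2 he)
  choose Rα hRα using fun k => hbd (α k)
  set R0 : ℝ := ∑ k, |Rα k| with hR0
  have hR0' : ∀ k, Rα k ≤ R0 := fun k => (le_abs_self _).trans
    (Finset.single_le_sum (f := fun k => |Rα k|) (fun k _ => abs_nonneg _) (Finset.mem_univ k))
  have hR00 : 0 ≤ R0 := Finset.sum_nonneg fun k _ => abs_nonneg _
  have key : ∀ A : ℕ, ∃ Λ : TF E →ₗ[ℂ] ℂ, (∀ k v, Λ (dL k v) = - inner ℂ (α k) v) ∧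
      ∀ w : TF E, (∀ e, (R0 + 1 + A) - 1 < rho D e → w e = 0) →
        ‖Λ w‖ ≤ Real.sqrt 2 * Real.sqrt (CC c hN α) * ‖mulL _ (smE_wN c N) w‖ := fun A =>
    exists_Lam_A D hD hK c hN (A := R0 + 1 + A) (by positivity) α hα fun k e he => hRα k e (by
      have := hR0' k
      have h3 : (0 : ℝ) ≤ A := Nat.cast_nonneg A
      linarith)
  choose Λ h1 h2 using key
  set U : Ultrafilter ℕ := hyperfilter ℕ with hU
  have hUle : (U : Filter ℕ) ≤ atTop := by rw [← Nat.cofinite_eq_atTop]; exact hyperfilter_le_cofinite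
  have hev : ∀ w : TF E, ∀ᶠ A in (U : Filter ℕ),
      ‖Λ A w‖ ≤ Real.sqrt 2 * Real.sqrt (CC c hN α) * ‖mulL _ (smE_wN c N) w‖ := by
    intro w
    obtain ⟨R, hR⟩ := hbd w
    obtain ⟨N0, hN0⟩ := exists_nat_gt R
    refine hUle ?_
    filter_upwards [eventually_ge_atTop N0] with A hA
    refine h2 A w fun e he => hR e ?_
    have h3 : (N0 : ℝ) ≤ A := by exact_mod_cast hA
    linarith
  have hlim : ∀ w : TF E, ∃ l : ℂ, Tendsto (fun A => Λ A w) U (𝓝 l) := by
    intro w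
    obtain ⟨l, _, hl⟩ := (isCompact_closedBall (0 : ℂ)
      (Real.sqrt 2 * Real.sqrt (CC c hN α) * ‖mulL _ (smE_wN c N) w‖)).ultrafilter_le_nhds
      (U.map (fun A => Λ A w)) (by
        rw [le_principal_iff, Ultrafilter.mem_coe, Ultrafilter.mem_map]
        refine (hev w).mono fun A hA => ?_
        simpa using hA)
    exact ⟨l, hl⟩
  choose L hL using hlim
  refine ⟨{ toFun := L, map_add' := fun v w => ?_, map_smul' := fun a v => ?_ }, fun k v => ?_, fun w => ?_⟩
  · refine tendsto_nhds_unique (hL (v + w)) ?_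
    simp only [map_add]
    exact (hL v).add (hL w)
  · refine tendsto_nhds_unique (hL (a • v)) ?_
    simp only [map_smul, RingHom.id_apply]
    exact (hL v).const_smul a
  · refine tendsto_nhds_unique (hL (dL k v)) ?_
    simp only [h1]
    exact tendsto_const_nhds
  · exact le_of_tendsto (hL w).norm (hev w)

end Groth.Agent.An.H10.Wts2
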